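import Groth.Agent.VBPnX.ExtZSections
import Groth.Agent.CAlgOdd.CMCatenary
import Groth.Agent.LC.GorHull
import Groth.Agent.RefX.Reflexive
import Mathlib

/-!
# Coherence and vanishing of the local Ext sheaves with supports
-/

set_option autoImplicit false
set_option linter.style.haveILetI false
set_option maxHeartbeats 1600000
set_option backward.isDefEq.respectTransparency false
set_option backward.isDefEq.respectTransparency.types false

universe u

open CategoryTheory CategoryTheory.Limits AlgebraicGeometry TopologicalSpace Opposite Abelian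

noncomputable section

namespace Groth.Agent.VBPnX.ExtZCoh

variable {X : Scheme.{u}}

/-- The pointwise hypothesis in degree `i` at a point. -/
def LocHyp (G : X.Modules) (P : Set X) (i : ℕ) (x : X) : Prop :=
  (IsRegularLocalRing (X.presheaf.stalk x) ∧ ringKrullDim (X.presheaf.stalk x) < (i : WithBot ℕ∞)) ∨
    ∀ y ∈ P, y ⤳ x → ((i + 1 : ℕ) : ℕ∞) ≤ LocCoh.depth (X.presheaf.stalk y) (G.presheaf.stalk y)

variable [IsLocallyNoetherian X] {V : X.Opens} (hV : IsAffineOpen V)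

include hV in
theorem mem_support_iff' {F : X.Modules} (hF : Coh.IsCoh F) {z : X} (hz : z ∈ V) :
    hV.primeIdealOf ⟨z, hz⟩ ∈ Module.support Γ(X, V) Γ(F, V) ↔ z ∈ CohB1.support F := by
  rw [QCoh.mem_support_iff hF.1 hV hz, Module.mem_support_iff']
  exact exists_congr fun m => forall_congr' fun f =>
    imp_congr_left (QCoh.mem_basicOpen_iff_notMem hV hz f).symm

theorem exists_ideal (U : X.Opens) : ∃ J : Ideal Γ(X, V), ∀ z (hz : z ∈ V),
    z ∉ (U : Set X) ↔ J ≤ (hV.primeIdealOf ⟨z, hz⟩).asIdeal :=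
  DepthAlongLib.exists_ideal_of_closed hV ⟨(U : Set X)ᶜ, U.isOpen.isClosed_compl⟩

/-- Vanishing of `Ext^i(Q, Γ G)` from the hypothesis at the points of a set containing the support. -/
theorem subsingleton_ext {G : X.Modules} (hG : Coh.IsCoh G) (P : Set X) (i : ℕ)
    (Q : Type u) [AddCommGroup Q] [Module Γ(X, V) Q] [Module.Finite Γ(X, V) Q]
    (hQ : ∀ z (hz : z ∈ V), hV.primeIdealOf ⟨z, hz⟩ ∈ Module.support Γ(X, V) Q → z ∈ P)
    (h : ∀ x ∈ P, LocHyp G P i x) :
    Subsingleton (Ext (ModuleCat.of Γ(X, V) Q) (ModuleCat.of Γ(X, V) Γ(G, V)) i) := by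
  haveI : IsNoetherianRing Γ(X, V) := IsLocallyNoetherian.component_noetherian ⟨V, hV⟩
  haveI : Module.Finite Γ(X, V) Γ(G, V) := (QCoh.isCoh_iff.1 hG).2 ⟨V, hV⟩
  refine TorsHom.subsingleton_ext_of_primes Q Γ(G, V) i fun q hq => ?_
  obtain ⟨x, hx, hxq⟩ := DepthAlongLib.exists_point_of_prime hV q.asIdeal
  have hxq' : hV.primeIdealOf ⟨x, hx⟩ = q := PrimeSpectrum.ext hxq
  subst hxq'
  rcases h x (hQ x hx hq) with ⟨hreg, hdim⟩ | hd
  · left
    letI := QCoh.stalkAlg (X := X) hx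
    haveI := QCoh.isLocalization_stalk' hV hx
    let σ : Localization.AtPrime (hV.primeIdealOf ⟨x, hx⟩).asIdeal ≃ₐ[Γ(X, V)] X.presheaf.stalk x :=
      IsLocalization.algEquiv (hV.primeIdealOf ⟨x, hx⟩).asIdeal.primeCompl _ _
    haveI := hreg
    exact ⟨IsRegularLocalRing.of_ringEquiv σ.toRingEquiv.symm,
      by rw [ringKrullDim_eq_of_ringEquiv σ.toRingEquiv]; exact hdim⟩
  · right
    intro q' hq' hle
    obtain ⟨y, hy, hyq⟩ := DepthAlongLib.exists_point_of_prime hV q'.asIdeal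
    have hyq' : hV.primeIdealOf ⟨y, hy⟩ = q' := PrimeSpectrum.ext hyq
    subst hyq'
    exact (hd y (hQ y hy hq') ((AssLib.primeIdealOf_le_iff hV hx hy).1 hle)).trans
      (ZClosLib.depth_stalk_eq hG.1 hV hy).ge

variable [HasInjectiveResolutions (ModSite.Mod X.sheaf)]

/-- Coherence. -/
theorem isCoh_extZSh (U : X.Opens) {F G : X.Modules} [ModSite.HasSheafHom (O := X.sheaf) F]
    (hF : Coh.IsCoh F) (hG : Coh.IsCoh G) (i : ℕ)
    (h : ∀ x ∈ closure (CohB1.support F ∩ (U : Set X)) \ (U : Set X),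
      LocHyp G (closure (CohB1.support F ∩ (U : Set X)) \ (U : Set X)) i x) :
    Coh.IsCoh ((ModSite.extZSh (O := X.sheaf) U F i).obj G) := by
  refine QCoh.isCoh_iff.2 ⟨ExtZQCoh.isQCoh_extZSh U hF hG.1 i, fun ⟨V, hV⟩ => ?_⟩
  haveI : IsNoetherianRing Γ(X, V) := IsLocallyNoetherian.component_noetherian ⟨V, hV⟩
  haveI : Module.Finite Γ(X, V) Γ(F, V) := (QCoh.isCoh_iff.1 hF).2 ⟨V, hV⟩
  haveI : Module.Finite Γ(X, V) Γ(G, V) := (QCoh.isCoh_iff.1 hG).2 ⟨V, hV⟩
  obtain ⟨J, hJ⟩ := exists_ideal hV U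
  cases i with
  | zero => exact (ExtZSections.finite_sections_zero U F hV hJ hF hG).1
  | succ q =>
    obtain ⟨S, hS, hinj, hext, L, hL⟩ := ExtZSections.exists_H U F hV hJ hF hG.1 q
    haveI := hinj
    haveI : Module.Finite Γ(X, V) (TorsHom.H J S Γ(F, V)) := by
      refine TorsHom.finite_H J hS (fun p _ _ => ?_) Γ(F, V) fun p hp hJp k => ?_
      · obtain ⟨e⟩ := hext (ModuleCat.of Γ(X, V) (Γ(X, V) ⧸ p))
        haveI := ExtShX.finite_ext (ModuleCat.of Γ(X, V) Γ(G, V)) (q + 1) (ModuleCat.of Γ(X, V) (Γ(X, V) ⧸ p))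
        exact Module.Finite.equiv e.symm
      · obtain ⟨e⟩ := hext (ModuleCat.of Γ(X, V)
          ((Γ(X, V) ⧸ p.asIdeal) ⧸ (J ^ k • (⊤ : Submodule Γ(X, V) (Γ(X, V) ⧸ p.asIdeal)))))
        haveI := subsingleton_ext hV hG (closure (CohB1.support F ∩ (U : Set X)) \ (U : Set X)) (q + 1)
          ((Γ(X, V) ⧸ p.asIdeal) ⧸ (J ^ k • (⊤ : Submodule Γ(X, V) (Γ(X, V) ⧸ p.asIdeal)))) ?_ h
        · exact e.toEquiv.subsingleton
        intro z hz hzQ
        rw [Module.support_quotient, Module.support_eq_zeroLocus, Ideal.annihilator_quotient] at hzQ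
        obtain ⟨hpz, hJz⟩ := hzQ
        obtain ⟨w, hw, hwp⟩ := DepthAlongLib.exists_point_of_prime hV p.asIdeal
        have hwp' : hV.primeIdealOf ⟨w, hw⟩ = p := PrimeSpectrum.ext hwp
        subst hwp'
        refine ⟨((AssLib.primeIdealOf_le_iff hV hz hw).1 hpz).mem_closed isClosed_closure (subset_closure
          ⟨(mem_support_iff' hV hF hw).1 hp, not_not.1 fun hwU => hJp ((hJ w hw).1 hwU)⟩), ?_⟩
        exact (hJ z hz).2 ((hV.primeIdealOf ⟨z, hz⟩).2.le_of_pow_le hJz)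
    exact Module.Finite.of_surjective L hL

/-- Vanishing. -/
theorem isZero_extZSh (U : X.Opens) {F G : X.Modules} [ModSite.HasSheafHom (O := X.sheaf) F]
    (hF : Coh.IsCoh F) (hG : Coh.IsCoh G) (i : ℕ)
    (h0 : i = 0 → ∀ x ∈ CohB1.support F, x ∈ (U : Set X))
    (h : ∀ x ∈ CohB1.support F \ (U : Set X), LocHyp G (CohB1.support F \ (U : Set X)) i x) :
    IsZero ((ModSite.extZSh (O := X.sheaf) U F i).obj G) := by
  refine QCoh.isZero_of_cover (ExtZQCoh.isQCoh_extZSh U hF hG.1 i) (fun V : X.affineOpens => V.1) (fun V => V.2)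
    (fun x => ?_) fun ⟨V, hV⟩ => ?_
  · obtain ⟨_, ⟨U', hU', rfl⟩, hxU, -⟩ := X.isBasis_affineOpens.exists_subset_of_mem_open (Set.mem_univ x) isOpen_univ
    exact ⟨⟨U', hU'⟩, hxU⟩
  haveI : IsNoetherianRing Γ(X, V) := IsLocallyNoetherian.component_noetherian ⟨V, hV⟩
  haveI : Module.Finite Γ(X, V) Γ(F, V) := (QCoh.isCoh_iff.1 hF).2 ⟨V, hV⟩
  obtain ⟨J, hJ⟩ := exists_ideal hV U
  cases i with
  | zero =>
    refine (ExtZSections.finite_sections_zero U F hV hJ hF hG).2 fun q hq hJq => ?_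
    obtain ⟨x, hx, hxq⟩ := DepthAlongLib.exists_point_of_prime hV q.asIdeal
    have hxq' : hV.primeIdealOf ⟨x, hx⟩ = q := PrimeSpectrum.ext hxq
    subst hxq'
    exact (hJ x hx).2 hJq (h0 rfl x ((mem_support_iff' hV hF hx).1 hq))
  | succ q =>
    obtain ⟨S, hS, hinj, hext, L, hL⟩ := ExtZSections.exists_H U F hV hJ hF hG.1 q
    haveI := hinj
    haveI : Subsingleton (TorsHom.H J S Γ(F, V)) := TorsHom.subsingleton_H J hS fun k => by
      obtain ⟨e⟩ := hext (ModuleCat.of Γ(X, V) (Γ(F, V) ⧸ (J ^ k • (⊤ : Submodule Γ(X, V) Γ(F, V)))))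
      haveI := subsingleton_ext hV hG (CohB1.support F \ (U : Set X)) (q + 1)
        (Γ(F, V) ⧸ (J ^ k • (⊤ : Submodule Γ(X, V) Γ(F, V)))) ?_ h
      · exact e.toEquiv.subsingleton
      intro z hz hzQ
      rw [Module.support_quotient] at hzQ
      exact ⟨(mem_support_iff' hV hF hz).1 hzQ.1,
        (hJ z hz).2 ((hV.primeIdealOf ⟨z, hz⟩).2.le_of_pow_le hzQ.2)⟩
    exact hL.subsingleton

omit [HasInjectiveResolutions (ModSite.Mod X.sheaf)] in
/-- On a regular scheme, a set of points avoiding dimension `n` that is closed under the specializations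
in question satisfies the hypothesis in degree `n`. -/
theorem locHyp_structureModule (hreg : ∀ x : X, IsRegularLocalRing (X.presheaf.stalk x))
    (P : Set X) (hP : IsClosed P) (n : ℕ)
    (hn : ∀ x ∈ P, ringKrullDim (X.presheaf.stalk x) ≠ (n : WithBot ℕ∞)) (x : X) (hx : x ∈ P) :
    LocHyp (Coh.structureModule X) P n x := by
  have hdim : ∀ z : X, ∃ d : ℕ, ringKrullDim (X.presheaf.stalk z) = (d : WithBot ℕ∞) := fun z => by
    haveI := hreg z
    exact ⟨_, ((isRegularLocalRing_iff (X.presheaf.stalk z)).1 ‹_›).symm⟩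
  obtain ⟨d, hd⟩ := hdim x
  rcases Nat.lt_or_ge d n with hlt | hge
  · exact Or.inl ⟨hreg x, by rw [hd]; exact_mod_cast hlt⟩
  · refine Or.inr fun y hy hyx => ?_
    obtain ⟨V, hV, hxV, -⟩ := exists_isAffineOpen_mem_and_subset (x := x) (U := (⊤ : X.Opens)) trivial
    haveI : IsNoetherianRing Γ(X, V) := IsLocallyNoetherian.component_noetherian ⟨V, hV⟩
    have hyV : y ∈ V := hyx.mem_open V.isOpen hxV
    have hD : ∀ q : PrimeSpectrum Γ(X, V), ∃ (z : X) (hz : z ∈ V), hV.primeIdealOf ⟨z, hz⟩ = q := fun q => by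
      obtain ⟨z, hz, h⟩ := DepthAlongLib.exists_point_of_prime hV q.asIdeal
      exact ⟨z, hz, PrimeSpectrum.ext h⟩
    have hht : ∀ z (hz : z ∈ V),
        ((hV.primeIdealOf ⟨z, hz⟩).asIdeal.height : WithBot ℕ∞) = ringKrullDim (X.presheaf.stalk z) := fun z hz => by
      letI := QCoh.stalkAlg (X := X) hz
      haveI := QCoh.isLocalization_stalk' hV hz
      exact (IsLocalization.AtPrime.ringKrullDim_eq_height (hV.primeIdealOf ⟨z, hz⟩).asIdeal _).symm
    have hmemP : ∀ z (hz : z ∈ V), hV.primeIdealOf ⟨y, hyV⟩ ≤ hV.primeIdealOf ⟨z, hz⟩ → z ∈ P := fun z hz h =>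
      ((AssLib.primeIdealOf_le_iff hV hz hyV).1 h).mem_closed hP hy
    -- otherwise some prime between `y` and `x` has height exactly `n`
    have key : ∀ (m : ℕ) (q : PrimeSpectrum Γ(X, V)), q.asIdeal.height = (m : ℕ∞) → n ≤ m →
        hV.primeIdealOf ⟨y, hyV⟩ ≤ q → (n : ℕ∞) < (hV.primeIdealOf ⟨y, hyV⟩).asIdeal.height := by
      intro m
      induction m with
      | zero =>
        intro q hq hnm hle
        obtain ⟨z, hz, rfl⟩ := hD q
        refine absurd ?_ (hn z (hmemP z hz hle))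
        rw [← hht z hz, hq, Nat.le_zero.1 hnm]
        rfl
      | succ m ih =>
        intro q hq hnm hle
        obtain ⟨z, hz, rfl⟩ := hD q
        rcases eq_or_ne n (m + 1) with rfl | hne
        · exact absurd (by rw [← hht z hz, hq]; rfl) (hn z (hmemP z hz hle))
        rcases hle.eq_or_lt with heq | hlt
        · rw [heq, hq]
          exact_mod_cast lt_of_le_of_ne hnm hne
        let P' : Set (PrimeSpectrum Γ(X, V)) :=
          {q' | hV.primeIdealOf ⟨y, hyV⟩ ≤ q' ∧ q' < hV.primeIdealOf ⟨z, hz⟩}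
        obtain ⟨q', ⟨hq'1, hq'2⟩, hmax⟩ := (InvImage.wf (fun q : PrimeSpectrum Γ(X, V) => q.asIdeal) (wellFounded_gt (α := Ideal Γ(X, V)))).has_min P' ⟨_, le_rfl, hlt⟩
        have hcov : q' ⋖ hV.primeIdealOf ⟨z, hz⟩ := ⟨hq'2, fun c h1 h2 => hmax c ⟨hq'1.trans h1.le, h2⟩ h1⟩
        haveI : IsRegularLocalRing (Localization.AtPrime (hV.primeIdealOf ⟨z, hz⟩).asIdeal) := by
          letI := QCoh.stalkAlg (X := X) hz
          haveI := QCoh.isLocalization_stalk' hV hz
          haveI := hreg z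
          exact IsRegularLocalRing.of_ringEquiv (IsLocalization.algEquiv (hV.primeIdealOf ⟨z, hz⟩).asIdeal.primeCompl
            (Localization.AtPrime (hV.primeIdealOf ⟨z, hz⟩).asIdeal) (X.presheaf.stalk z)).toRingEquiv.symm
        haveI := LC.gorenstein_of_isRegularLocalRing (R := Localization.AtPrime (hV.primeIdealOf ⟨z, hz⟩).asIdeal)
        have hCMr : LocCoh.IsCohenMacaulayLocalRing (Localization.AtPrime (hV.primeIdealOf ⟨z, hz⟩).asIdeal) :=
          LC.isCohenMacaulayLocalRing_of_gorenstein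
        have hCM : LocCoh.IsCohenMacaulayModule (Localization.AtPrime (hV.primeIdealOf ⟨z, hz⟩).asIdeal)
            (LocalizedModule (hV.primeIdealOf ⟨z, hz⟩).asIdeal.primeCompl Γ(X, V)) := by
          show Module.supportDim (Localization.AtPrime (hV.primeIdealOf ⟨z, hz⟩).asIdeal) _ = _
          rw [Module.supportDim_eq_of_equiv (LC.selfLoc (hV.primeIdealOf ⟨z, hz⟩).asIdeal.primeCompl),
            Hensel.depth_congr (LC.selfLoc (hV.primeIdealOf ⟨z, hz⟩).asIdeal.primeCompl)]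
          exact hCMr.supportDim_eq_depth
        have h1 := CAlgOdd.CMCatenary.height_covBy Γ(X, V) hCM (by
          rw [Module.support_eq_zeroLocus, (Module.annihilator_eq_bot (R := Γ(X, V)) (M := Γ(X, V))).2 inferInstance]
          simp) hcov
        rw [hq, Nat.cast_add, Nat.cast_one] at h1
        have h2 : q'.asIdeal.height = (m : ℕ∞) := (WithTop.add_right_cancel (by simp) h1).symm
        exact ih q' h2 (by omega) hq'1
    have hd' : (hV.primeIdealOf ⟨x, hxV⟩).asIdeal.height = (d : ℕ∞) := by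
      have := (hht x hxV).trans hd
      exact_mod_cast this
    have hlt : (n : ℕ∞) < (hV.primeIdealOf ⟨y, hyV⟩).asIdeal.height :=
      key d _ hd' hge ((AssLib.primeIdealOf_le_iff hV hxV hyV).2 hyx)
    obtain ⟨e, he⟩ := hdim y
    have he' : n + 1 ≤ e := by
      have h3 : (n : WithBot ℕ∞) < ((hV.primeIdealOf ⟨y, hyV⟩).asIdeal.height : WithBot ℕ∞) := WithBot.coe_lt_coe.2 hlt
      rw [hht y hyV, he] at h3
      exact_mod_cast h3
    haveI := hreg y
    haveI := LC.gorenstein_of_isRegularLocalRing (R := X.presheaf.stalk y)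
    have hCM : LocCoh.IsCohenMacaulayLocalRing (X.presheaf.stalk y) := LC.isCohenMacaulayLocalRing_of_gorenstein
    have h4 := hCM.supportDim_eq_depth
    rw [Module.supportDim_self_eq_ringKrullDim, he] at h4
    refine le_trans ?_ (Hensel.depth_congr (RefX.unitStalk y).symm).ge
    have h5 : ((e : ℕ∞) : WithBot ℕ∞) = (LocCoh.depth (X.presheaf.stalk y) (X.presheaf.stalk y) : WithBot ℕ∞) := h4
    rw [← WithBot.coe_inj.1 h5]
    exact_mod_cast he'

end Groth.Agent.VBPnX.ExtZCoh
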