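import Groth.Agent.QCoh.LocFree
import Groth.Agent.QCoh.DeligneHom
import Groth.Agent.QCoh.Support
import Groth.Agent.QCoh.SubCompare
import Groth.Agent.ModPairLib.Basic

/-!
# Direct images along finite morphisms near the generic point
-/

universe u

set_option backward.isDefEq.respectTransparency false
set_option backward.isDefEq.respectTransparency.types false

open CategoryTheory CategoryTheory.Limits AlgebraicGeometry TopologicalSpace Opposite

namespace Groth.Agent.VBPnX.FinGen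

open Groth.Agent.QCoh

variable {X Y : Scheme.{u}}

/-- A map invertible on an open is invertible on its stalks. -/
theorem isIso_stalk_of_isIso_restrict {M N : X.Modules} (g : M ⟶ N) (U : X.Opens)
    [IsIso ((Scheme.Modules.restrictFunctor U.ι).map g)] {x : X} (hx : x ∈ U) :
    IsIso ((TopCat.Presheaf.stalkFunctor AddCommGrpCat.{u} x).map
      ((SheafOfModules.toSheaf X.ringCatSheaf).map g).hom) := by
  let e := Scheme.Modules.restrictStalkNatIso U.ι ⟨x, hx⟩
  have h1 : IsIso ((Scheme.Modules.restrictFunctor U.ι ⋙ Scheme.Modules.toPresheaf _ ⋙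
      TopCat.Presheaf.stalkFunctor AddCommGrpCat.{u} (⟨x, hx⟩ : U)).map g) := by
    show IsIso (((Scheme.Modules.toPresheaf _ ⋙ TopCat.Presheaf.stalkFunctor AddCommGrpCat.{u} (⟨x, hx⟩ : U)).map
      ((Scheme.Modules.restrictFunctor U.ι).map g)))
    infer_instance
  exact (NatIso.isIso_map_iff e g).1 h1

theorem isFP_of_isCoh_noetherian [IsLocallyNoetherian X] {M : X.Modules} (hM : Coh.IsCoh M) : CohB1.IsFP M :=
  (isFP_iff hM.1).2 fun U => by
    haveI : IsNoetherianRing Γ(X, U.1) := IsLocallyNoetherian.component_noetherian U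
    haveI := finite_of_isFT hM.1 hM.2 U.2
    exact Module.finitePresentation_of_finite _ _

/-- A coherent module on an integral scheme is free near the generic point. -/
theorem exists_free_generic [IsIntegral Y] [IsNoetherian Y] {M : Y.Modules} (hM : Coh.IsCoh M) :
    ∃ (V : Y.Opens) (n : ℕ), genericPoint Y ∈ V ∧
      Nonempty (M.restrict V.ι ≅ FlatMod.freeMod (V : Scheme.{u}) n) := by
  haveI : Module.Free (Y.presheaf.stalk (genericPoint Y)) (M.presheaf.stalk (genericPoint Y)) :=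
    letI : Field (Y.presheaf.stalk (genericPoint Y)) := inferInstanceAs (Field Y.functionField)
    Module.Free.of_divisionRing _ _
  exact exists_free_nhd_of_free_stalk (isFP_of_isCoh_noetherian hM) _

/-- Restriction of a trivialisation to a smaller open. -/
theorem nonempty_free_of_le {M : Y.Modules} {U V : Y.Opens} (h : V ≤ U) {n : ℕ}
    (e : M.restrict U.ι ≅ FlatMod.freeMod (U : Scheme.{u}) n) :
    Nonempty (M.restrict V.ι ≅ FlatMod.freeMod (V : Scheme.{u}) n) :=
  ⟨(Scheme.Modules.restrictFunctorCongr (Scheme.homOfLE_ι Y h).symm).app M ≪≫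
    (Scheme.Modules.restrictFunctorComp (Y.homOfLE h) U.ι).app M ≪≫
    (Scheme.Modules.restrictFunctor (Y.homOfLE h)).mapIso e ≪≫ freeModRestrict _ n⟩

theorem isCoh_freeMod [IsLocallyNoetherian X] (n : ℕ) : Coh.IsCoh (FlatMod.freeMod X n) := by
  have h : FlatMod.IsFinLocFree (FlatMod.freeMod X n) := fun x => ⟨⊤, n, trivial, ⟨freeModRestrict _ n⟩⟩
  exact ⟨isQCoh_of_isFinLocFree h, isFT_of_isFP (isFP_of_isFinLocFree h)⟩

/-- The rank of a finite surjection is positive. -/
theorem pos_rank [IsIntegral X] (f : X ⟶ Y) [Surjective f] {V : Y.Opens} {y : Y} (hy : y ∈ V) {n : ℕ}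
    (e : ((Scheme.Modules.pushforward f).obj (Coh.structureModule X)).restrict V.ι ≅
      FlatMod.freeMod (V : Scheme.{u}) n) : 0 < n := by
  rcases Nat.eq_zero_or_pos n with rfl | h
  · exfalso
    have hz : IsZero (FlatMod.freeMod (V : Scheme.{u}) 0) := by
      refine ⟨fun Z => ⟨⟨⟨Sigma.desc fun i => Fin.elim0 i⟩, fun g => Sigma.hom_ext _ _ fun i => Fin.elim0 i⟩⟩, fun Z => ?_⟩
      refine ⟨⟨⟨0⟩, fun g => ?_⟩⟩
      rw [show g = g ≫ 𝟙 _ from (Category.comp_id g).symm,
        show 𝟙 (FlatMod.freeMod (V : Scheme.{u}) 0) = 0 from Sigma.hom_ext _ _ fun i => Fin.elim0 i]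
      simp
    have h1 := hz.of_iso e
    have hsub : ∀ z : Γ(((Scheme.Modules.pushforward f).obj (Coh.structureModule X)).restrict V.ι, ⊤), z = 0 := fun z =>
      congr(($((IsZero.iff_id_eq_zero _).1 h1)).app ⊤ z)
    obtain ⟨x, hx⟩ := f.surjective y
    haveI : Nonempty (f ⁻¹ᵁ (V.ι ''ᵁ ⊤) : X.Opens) := ⟨⟨x, by
      show f x ∈ V.ι ''ᵁ ⊤
      rw [Scheme.Opens.ι_image_top, hx]; exact hy⟩⟩
    have h01 : (1 : Γ(X, f ⁻¹ᵁ (V.ι ''ᵁ ⊤))) = 0 := hsub (1 : Γ(X, f ⁻¹ᵁ (V.ι ''ᵁ ⊤)))
    exact one_ne_zero h01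
  · exact h

/-- Direct image of a free module over a trivialising open. -/
theorem nonempty_push_free (f : X ⟶ Y) {V : Y.Opens} {r : ℕ}
    (e : ((Scheme.Modules.pushforward f).obj (Coh.structureModule X)).restrict V.ι ≅
      FlatMod.freeMod (V : Scheme.{u}) r) {F : Y.Modules} {d : ℕ}
    (eF : F.restrict V.ι ≅ FlatMod.freeMod (V : Scheme.{u}) d) :
    Nonempty (((Scheme.Modules.pushforward f).obj (FlatMod.freeMod X d)).restrict V.ι ≅
      (∐ fun _ : ULift.{u} (Fin r) => F : Y.Modules).restrict V.ι) :=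
  ⟨(Scheme.Modules.restrictFunctor V.ι).mapIso (PreservesCoproduct.iso (Scheme.Modules.pushforward f) _) ≪≫
    PreservesCoproduct.iso (Scheme.Modules.restrictFunctor V.ι) _ ≪≫ (Sigma.mapIso fun _ => e) ≪≫
    sigmaSigmaIso (fun _ : Fin d => Fin r) (fun _ _ => Coh.structureModule (V : Scheme.{u})) ≪≫
    Sigma.whiskerEquiv
      (g := fun _ : Σ _ : ULift.{u} (Fin r), Fin d => Coh.structureModule (V : Scheme.{u}))
      ⟨fun p => ⟨⟨p.2⟩, p.1⟩, fun p => ⟨p.2, p.1.down⟩, fun _ => rfl, fun _ => rfl⟩ (fun _ => Iso.refl _) ≪≫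
    (sigmaSigmaIso (fun _ : ULift.{u} (Fin r) => Fin d) (fun _ _ => Coh.structureModule (V : Scheme.{u}))).symm ≪≫
    (Sigma.mapIso fun _ => eF.symm) ≪≫ (PreservesCoproduct.iso (Scheme.Modules.restrictFunctor V.ι) _).symm⟩

end Groth.Agent.VBPnX.FinGen

namespace Groth.Agent.VBPnX.FinGen

open Groth.Agent.QCoh

variable {Y : Scheme.{u}}

/-- `J M → M` is invertible away from the support of `J`. -/
theorem isIso_restrict_idealMulι (J : Y.IdealSheafData) {M : Y.Modules} (hM : Coh.IsQCoh M) (V : Y.Opens)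
    (hV : ∀ y ∈ V, y ∉ J.support) :
    IsIso ((Scheme.Modules.restrictFunctor V.ι).map (Dual3.idealMulι J M)) := by
  have hloc : ∀ W : Y.affineOpens, W.1 ≤ V → Function.Bijective ((Dual3.idealMulι J M).app W.1) := fun W hW => by
    refine ⟨app_injective _ _, fun z => ?_⟩
    have h := range_idealMul J hM W.2
    have htop : J.ideal W = ⊤ := by
      by_contra hne
      obtain ⟨m, hm, hle⟩ := Ideal.exists_le_maximal _ hne
      obtain ⟨y, hy, hyq⟩ := exists_point W.2 ⟨m, hm.isPrime⟩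
      refine hV y (hW hy) ((Scheme.IdealSheafData.mem_support_iff_of_mem hy).2 ?_)
      rw [Scheme.mem_zeroLocus_iff]
      intro a ha hb
      have h3 : W.2.primeIdealOf ⟨y, hy⟩ ∈ PrimeSpectrum.basicOpen a := by
        rw [← W.2.fromSpec_preimage_basicOpen]
        show W.2.fromSpec (W.2.primeIdealOf ⟨y, hy⟩) ∈ Y.basicOpen a
        rwa [W.2.fromSpec_primeIdealOf]
      rw [hyq] at h3
      exact h3 (hle ha)
    have h2 : z ∈ LinearMap.range (appLin (Dual3.idealMulι J M) W.1) := by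
      rw [h]
      refine (congrArg (z ∈ ·) ?_).mpr (Submodule.mem_top : z ∈ (⊤ : Submodule Γ(Y, W.1) Γ(M, W.1)))
      rw [show J.ideal ⟨W.1, W.2⟩ = ⊤ from htop]
      exact Submodule.top_smul _
    exact h2
  refine isIso_of_isBasis _ (Scheme.isBasis_affineOpens _) fun W hW => ?_
  exact hloc ⟨V.ι ''ᵁ W, hW.image_of_isOpenImmersion _⟩ (fun y hy => by obtain ⟨a, -, rfl⟩ := hy; exact a.2)

end Groth.Agent.VBPnX.FinGen

namespace Groth.Agent.VBPnX.FinGen

/-- `I f_* F = f_* ((f⁻¹ I) F)`. -/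
theorem exists_iso_idealMul_push {Y X : Scheme.{u}} (f : Y ⟶ X) [IsAffineHom f]
    (F : Y.Modules) (hF : Coh.IsQCoh F) (I : X.IdealSheafData) :
    ∃ e : (Dual3.idealMul I).obj ((Scheme.Modules.pushforward f).obj F) ≅
        (Scheme.Modules.pushforward f).obj ((Dual3.idealMul (I.comap f)).obj F),
      e.hom ≫ (Scheme.Modules.pushforward f).map (Dual3.idealMulι (I.comap f) F) =
        Dual3.idealMulι I ((Scheme.Modules.pushforward f).obj F) := by
  have hG : Coh.IsQCoh ((Scheme.Modules.pushforward f).obj F) := Groth.Agent.QCoh.isQCoh_pushforward f hF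
  have hJF : Coh.IsQCoh ((Dual3.idealMul (I.comap f)).obj F) := Groth.Agent.QCoh.isQCoh_idealMul _ hF
  haveI : Mono ((Scheme.Modules.pushforward f).map (Dual3.idealMulι (I.comap f) F)) := inferInstance
  have h : Subobject.mk (Dual3.idealMulι I ((Scheme.Modules.pushforward f).obj F)) =
      Subobject.mk ((Scheme.Modules.pushforward f).map (Dual3.idealMulι (I.comap f) F)) := by
    refine Groth.Agent.QCoh.subobject_eq_of_cover (Groth.Agent.QCoh.isQCoh_idealMul I hG)
      (Groth.Agent.QCoh.isQCoh_pushforward f hJF) hG _ _ (fun U : X.affineOpens => U.1) (fun U => U.2)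
      (fun x => by
        obtain ⟨_, ⟨U, hU, rfl⟩, hx, -⟩ :=
          X.isBasis_affineOpens.exists_subset_of_mem_open (Set.mem_univ x) isOpen_univ
        exact ⟨⟨U, hU⟩, hx⟩) fun U => ?_
    rw [Groth.Agent.QCoh.range_idealMul I hG U.2]
    have hV : IsAffineOpen (f ⁻¹ᵁ U.1) := U.2.preimage f
    have hr := Groth.Agent.QCoh.range_idealMul (I.comap f) hF hV
    rw [ModPairLib.ideal_comap I f U ⟨f ⁻¹ᵁ U.1, hV⟩ le_rfl, ← Scheme.Hom.app_eq_appLE] at hr
    refine le_antisymm ?_ ?_
    · refine Submodule.smul_le.2 fun a ha m _ => ?_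
      have h1 : ((f.app U.1).hom a • (show Γ(F, f ⁻¹ᵁ U.1) from m)) ∈
          LinearMap.range (Groth.Agent.QCoh.appLin (Dual3.idealMulι (I.comap f) F) (f ⁻¹ᵁ U.1)) := by
        rw [hr]
        exact Submodule.smul_mem_smul (Ideal.mem_map_of_mem _ ha) trivial
      obtain ⟨w, hw⟩ := h1
      exact ⟨w, hw⟩
    · rintro _ ⟨w, rfl⟩
      have h1 : (Dual3.idealMulι (I.comap f) F).app (f ⁻¹ᵁ U.1) w ∈
          LinearMap.range (Groth.Agent.QCoh.appLin (Dual3.idealMulι (I.comap f) F) (f ⁻¹ᵁ U.1)) := ⟨w, rfl⟩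
      rw [hr] at h1
      refine Submodule.smul_induction_on (p := fun (z : Γ(F, f ⁻¹ᵁ U.1)) =>
        (show Γ((Scheme.Modules.pushforward f).obj F, U.1) from z) ∈ I.ideal U • (⊤ : Submodule Γ(X, U.1)
          Γ((Scheme.Modules.pushforward f).obj F, U.1)))
        h1 (fun b hb m _ => ?_) fun z z' hz hz' => add_mem hz hz'
      refine Submodule.span_induction
        (p := fun b _ => ∀ m : Γ(F, f ⁻¹ᵁ U.1), (show Γ((Scheme.Modules.pushforward f).obj F, U.1) from
          (show Γ(F, f ⁻¹ᵁ U.1) from b • m)) ∈ I.ideal U • (⊤ : Submodule Γ(X, U.1)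
            Γ((Scheme.Modules.pushforward f).obj F, U.1))) ?_ ?_ ?_ ?_ hb m
      · rintro _ ⟨a, ha, rfl⟩ m
        exact Submodule.smul_mem_smul ha
          (Submodule.mem_top (x := (show Γ((Scheme.Modules.pushforward f).obj F, U.1) from m)))
      · intro m; rw [zero_smul]; exact zero_mem _
      · intro b b' _ _ hb hb' m; rw [add_smul]; exact add_mem (hb m) (hb' m)
      · intro c b _ hb m
        rw [smul_eq_mul, mul_comm, mul_smul]
        exact hb (c • m)
  exact ⟨Subobject.isoOfMkEqMk _ _ h, Subobject.ofMkLEMk_comp _⟩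

end Groth.Agent.VBPnX.FinGen

namespace Groth.Agent.VBPnX.FinGen

open Groth.Agent.QCoh

/-- Finite type is stable under pullback. -/
theorem isFT_pullback {X Y : Scheme.{u}} (f : Y ⟶ X) {M : X.Modules} (hM : Coh.IsQCoh M) (hft : CohB1.IsFT M) :
    CohB1.IsFT ((Scheme.Modules.pullback f).obj M) := by
  let ι := {p : Y.affineOpens × X.affineOpens // (p.1.1 : Y.Opens) ≤ f ⁻¹ᵁ p.2.1}
  refine isFT_of_finite (isQCoh_pullback f hM) (fun i : ι => i.1.1.1) ?_ (fun i => i.1.1.2) fun i => ?_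
  · exact top_le_iff.1 fun y _ => Opens.mem_iSup.2 <| by
      obtain ⟨_, ⟨U, hU, rfl⟩, hxU, -⟩ :=
        X.isBasis_affineOpens.exists_subset_of_mem_open (Set.mem_univ (f y)) isOpen_univ
      obtain ⟨_, ⟨W, hW, rfl⟩, hyW, hWU⟩ :=
        Y.isBasis_affineOpens.exists_subset_of_mem_open (show y ∈ f ⁻¹ᵁ U from hxU) (f ⁻¹ᵁ U).2
      exact ⟨⟨(⟨W, hW⟩, ⟨U, hU⟩), hWU⟩, hyW⟩
  · obtain ⟨⟨⟨W, hW⟩, ⟨U, hU⟩⟩, hWU⟩ := i
    let N := (Scheme.Modules.pullback f).obj M
    letI : Algebra Γ(X, U) Γ(Y, W) := (f.appLE U W hWU).hom.toAlgebra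
    letI : Module Γ(X, U) Γ(N, W) := Module.compHom _ (f.appLE U W hWU).hom
    haveI : IsScalarTower Γ(X, U) Γ(Y, W) Γ(N, W) :=
      ⟨fun a b c => mul_smul ((f.appLE U W hWU).hom a) b c⟩
    haveI := finite_of_isFT hM hft hU
    let l : Γ(M, U) →ₗ[Γ(X, U)] Γ(N, W) :=
      { toFun := pullSec f M hWU
        map_add' := pullSec_add f M hWU
        map_smul' := pullSec_smul f M hWU }
    exact Module.Finite.equiv
      (isBaseChange_pullback hU f hW hM hWU (fun r => rfl) l fun x => rfl).equiv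

variable {X Y : Scheme.{u}}

/-- A morphism from a free module to the direct image, generically invertible. -/
theorem exists_free_to_push [IsIntegral X] [IsNoetherian X] [IsIntegral Y] [IsNoetherian Y]
    (f : X ⟶ Y) [IsFinite f] [Surjective f] :
    ∃ (r : ℕ) (M : X.Modules) (α : (SheafOfModules.free (ULift.{u} (Fin r)) : Y.Modules) ⟶
        (Scheme.Modules.pushforward f).obj M) (V : Y.Opens), genericPoint Y ∈ V ∧
      0 < r ∧ Coh.IsCoh M ∧ IsIso ((Scheme.Modules.restrictFunctor V.ι).map α) := by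
  have hO : Coh.IsCoh ((Scheme.Modules.pushforward f).obj (Coh.structureModule X)) :=
    isCoh_pushforward_finite f isCoh_structureModule'
  obtain ⟨V, r, hV, ⟨e⟩⟩ := exists_free_generic hO
  let U : X.Opens := f ⁻¹ᵁ V
  let R := Scheme.Modules.restrictFunctor V.ι
  let G : X.Modules := (Scheme.Modules.pushforward U.ι).obj
    ((Scheme.Modules.restrictFunctor U.ι).obj (Coh.structureModule X))
  let u₀ : Coh.structureModule X ⟶ G := (Scheme.Modules.restrictAdjunction U.ι).unit.app _
  let fu := (Scheme.Modules.pushforward f).map u₀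
  have hu : ∀ W : X.Opens, W ≤ U → Function.Bijective (u₀.app W) := fun W hW => by
    show Function.Bijective ⇑(((Scheme.Modules.restrictAdjunction U.ι).unit.app (Coh.structureModule X)).app W)
    rw [Scheme.Modules.restrictAdjunction_unit_app_app]
    have he : U.ι ''ᵁ (U.ι ⁻¹ᵁ W) = W := by
      rw [U.ι.image_preimage_eq_opensRange_inf, Scheme.Opens.opensRange_ι, inf_eq_right.2 hW]
    haveI : IsIso (homOfLE (U.ι.image_preimage_le W)).op := by
      haveI : IsIso (homOfLE (U.ι.image_preimage_le W)) :=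
        ⟨homOfLE he.ge, Subsingleton.elim _ _, Subsingleton.elim _ _⟩
      infer_instance
    exact ConcreteCategory.bijective_of_isIso _
  haveI hfu : IsIso (R.map fu) :=
    isIso_of_isBasis _ (Scheme.isBasis_affineOpens _) fun W _ => hu _ (f.preimage_mono
      (fun y hy => by obtain ⟨a, -, rfl⟩ := hy; exact a.2))
  let Gf := (Scheme.Modules.pushforward f).obj G
  let η := (Scheme.Modules.restrictAdjunction V.ι).unit.app Gf
  haveI hη : IsIso η := Scheme.Modules.Hom.isIso_iff_isIso_app.mpr fun W => by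
    rw [ConcreteCategory.isIso_iff_bijective]
    show Function.Bijective ⇑(((Scheme.Modules.restrictAdjunction V.ι).unit.app Gf).app W)
    rw [Scheme.Modules.restrictAdjunction_unit_app_app]
    have he : U.ι ⁻¹ᵁ (f ⁻¹ᵁ (V.ι ''ᵁ (V.ι ⁻¹ᵁ W))) = U.ι ⁻¹ᵁ (f ⁻¹ᵁ W) := by
      ext a
      refine ⟨fun ha => (V.ι.image_preimage_le W) ha, fun ha => ?_⟩
      exact ⟨⟨f a.1, a.2⟩, ha, rfl⟩
    haveI : IsIso (((Scheme.Modules.restrictFunctor U.ι).obj (Coh.structureModule X)).presheaf.map
        (homOfLE he.le).op) := by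
      haveI : IsIso (homOfLE he.le) := ⟨homOfLE he.ge, Subsingleton.elim _ _, Subsingleton.elim _ _⟩
      infer_instance
    exact ConcreteCategory.bijective_of_isIso
      (((Scheme.Modules.restrictFunctor U.ι).obj (Coh.structureModule X)).presheaf.map (homOfLE he.le).op)
  let F₀ : Y.Modules := SheafOfModules.free (ULift.{u} (Fin r))
  let θ : R.obj F₀ ⟶ R.obj Gf :=
    R.map (freeModIso Y r).inv ≫ (freeModRestrict V.ι r).hom ≫ e.inv ≫ R.map fu
  let α₀ : F₀ ⟶ Gf := (Scheme.Modules.restrictAdjunction V.ι).homEquiv _ _ θ ≫ inv η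
  haveI hθ : IsIso θ := inferInstance
  haveI hα₀ : IsIso (R.map α₀) := by
    have h1 : R.map α₀ = θ := by
      refine ((Scheme.Modules.restrictAdjunction V.ι).homEquiv _ _).injective ?_
      have h2 : (Scheme.Modules.restrictAdjunction V.ι).homEquiv _ _ (R.map α₀) = α₀ ≫ η := by
        rw [Adjunction.homEquiv_unit]
        exact ((Scheme.Modules.restrictAdjunction V.ι).unit.naturality α₀).symm
      rw [h2]
      simp [α₀]
    rw [h1]; infer_instance
  let adj := Scheme.Modules.pullbackPushforwardAdjunction f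
  let β : (Scheme.Modules.pullback f).obj F₀ ⟶ G := (adj.homEquiv _ _).symm α₀
  have hF₀ : Coh.IsCoh F₀ := isCoh_of_mono (freeModIso Y r).inv (isCoh_freeMod r)
    ((isQCoh_iff_iso (freeModIso Y r)).1 (isCoh_freeMod r).1)
  have hP : Coh.IsCoh ((Scheme.Modules.pullback f).obj F₀) :=
    ⟨isQCoh_pullback f hF₀.1, isFT_pullback f hF₀.1 hF₀.2⟩
  haveI : QuasiSeparated U.ι := inferInstance
  haveI : QuasiCompact U.ι := inferInstance
  have hG : Coh.IsQCoh G := isQCoh_pushforward U.ι (isQCoh_restrict U.ι isQCoh_structureModule)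
  let m := Abelian.factorThruCoimage β
  let α := (adj.homEquiv _ _) (Abelian.coimage.π β)
  have hfac : α ≫ (Scheme.Modules.pushforward f).map m = α₀ := by
    rw [← Adjunction.homEquiv_naturality_right, Abelian.coimage.fac]
    exact Equiv.apply_symm_apply _ _
  refine ⟨r, Abelian.coimage β, α, V, hV, pos_rank f hV e,
    isCoh_cokernel (isQCoh_kernel hP.1 hG β) hP (kernel.ι β), ?_⟩
  haveI : Mono ((Scheme.Modules.pushforward f).map m) := inferInstance
  haveI : Mono (R.map ((Scheme.Modules.pushforward f).map m)) := inferInstance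
  have h3 : R.map α ≫ R.map ((Scheme.Modules.pushforward f).map m) = R.map α₀ := by
    rw [← R.map_comp, hfac]
  haveI : IsIso (R.map α ≫ R.map ((Scheme.Modules.pushforward f).map m)) := by rw [h3]; infer_instance
  haveI : Epi (R.map ((Scheme.Modules.pushforward f).map m)) := epi_of_epi (R.map α) _
  haveI : IsIso (R.map ((Scheme.Modules.pushforward f).map m)) := isIso_of_mono_of_epi _
  exact IsIso.of_isIso_comp_right (R.map α) (R.map ((Scheme.Modules.pushforward f).map m))

end Groth.Agent.VBPnX.FinGen
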