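import Groth.Agent.WedgeX.Dual
import Groth.Agent.PnPic.Twist
import Groth.Agent.S0844
import Groth.Agent.Lib.PnDualSheafHom

/-!
# Extensions of twisting sheaves on projective space split
-/

set_option autoImplicit false
set_option linter.style.haveILetI false
set_option backward.isDefEq.respectTransparency false
set_option backward.isDefEq.respectTransparency.types false

universe u

open CategoryTheory CategoryTheory.Limits AlgebraicGeometry

noncomputable section

namespace Groth.Agent.VBPnX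

open scoped Groth.Agent.H23.PicMul

/-- An extension of `O(b)` by `O(a)` splits on `P^n`, `n ≥ 2`. -/
theorem nonempty_splitting {k : Type u} [Field k] {n : ℕ} (hn : 2 ≤ n) {a b : ℤ}
    {S : ShortComplex (CohB1.ProjSpace n k).Modules} (hS : S.ShortExact)
    (e₁ : S.X₁ ≅ Twist.twistProjSpace n k a) (e₃ : S.X₃ ≅ Twist.twistProjSpace n k b) :
    Nonempty S.Splitting := by
  classical
  letI : (CohB1.ProjSpace n k).Over (Spec (CommRingCat.of k)) := ⟨CohB1.ProjSpace.toSpec n k⟩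
  haveI : HasExt.{u} (CohB1.ProjSpace n k).Modules := IsGrothendieckAbelian.hasExt _
  have hinv : PicF.IsInvertible S.X₃ :=
    H23.PicMul.isInvertible_of_iso e₃.symm (PnPic.isInvertible_twistProjSpace n k b)
  obtain ⟨d⟩ : Nonempty (CohB1.tensorMod S.X₃ (Twist.twistProjSpace n k (-b)) ≅
      Coh.structureModule (CohB1.ProjSpace n k)) := by
    refine H23.PicMul.cl_eq_iff.1 ?_
    rw [← H23.PicMul.one_def, H23.PicMul.cl_tensor, (PicGrp.cl_eq_cl_iff _ _).2 ⟨e₃⟩,
      PnPic.cl_twistProjSpace_add, add_neg_cancel, PnPic.cl_twistProjSpace_zero]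
  obtain ⟨c⟩ := WedgeX.nonempty_hom_invertible hinv d S.X₁
  obtain ⟨t⟩ : Nonempty (CohB1.tensorMod S.X₁ (Twist.twistProjSpace n k (-b)) ≅
      Twist.twistProjSpace n k (a + -b)) := by
    refine H23.PicMul.cl_eq_iff.1 ?_
    rw [H23.PicMul.cl_tensor, (PicGrp.cl_eq_cl_iff _ _).2 ⟨e₁⟩, PnPic.cl_twistProjSpace_add]
  obtain ⟨ε⟩ := PnDual.nonempty_ext_linearEquiv_HH (A := k)
    (H23.PullPush.isFinLocFree_of_isInvertible hinv) S.X₁ 1
  haveI : Subsingleton (Coh.HH (CohB1.ProjSpace n k) (Twist.twistProjSpace n k (a + -b)) 1) :=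
    S0844.result k n (a + -b) 1 (by omega) (by omega)
  haveI : Subsingleton (Abelian.Ext.{u} S.X₃ S.X₁ 1) :=
    (ε.trans (S2926.hhIso k (c ≪≫ t) 1)).toEquiv.subsingleton
  obtain ⟨x, hx⟩ := Abelian.Ext.covariant_sequence_exact₃ S.X₃ hS (Abelian.Ext.mk₀ (𝟙 S.X₃)) (zero_add 1)
    (Subsingleton.elim _ _)
  obtain ⟨s, rfl⟩ := (Abelian.Ext.mk₀_bijective S.X₃ S.X₂).2 x
  rw [Abelian.Ext.mk₀_comp_mk₀] at hx
  exact ⟨ShortComplex.Splitting.ofExactOfSection S hS.exact s
    ((Abelian.Ext.mk₀_bijective _ _).1 hx) hS.mono_f⟩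

end Groth.Agent.VBPnX
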