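import Groth.Agent.VBPnX.EssExt
import Groth.Agent.VBPnX.InjSlim.Coprod
import Mathlib.CategoryTheory.Abelian.Images
import Mathlib.CategoryTheory.Preadditive.Biproducts

/-!
# Decomposition of injective modules into indecomposable ones
-/

set_option autoImplicit false
set_option linter.style.haveILetI false
set_option backward.isDefEq.respectTransparency false
set_option backward.isDefEq.respectTransparency.types false

universe v u

open CategoryTheory CategoryTheory.Limits AlgebraicGeometry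

namespace Groth.Agent.VBPnX.Indecomp

section Abstract

variable {C : Type*} [Category.{v} C] [Abelian C]

/-- Nonzero, injective, and with no nontrivial splitting. -/
def IsIndec (J : C) : Prop :=
  Injective J ∧ ¬ IsZero J ∧ ∀ A B : C, Nonempty (J ≅ A ⊞ B) → IsZero A ∨ IsZero B

variable [IsGrothendieckAbelian.{v} C]

/-- An injective object with a nonzero Noetherian subobject has an indecomposable injective summand. -/
theorem exists_indec_retract {N I : C} (hN : WellFoundedGT (Subobject N)) (hN0 : ¬ IsZero N)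
    (n : N ⟶ I) [Mono n] [Injective I] :
    ∃ (J : C) (m : J ⟶ I) (r : I ⟶ J), m ≫ r = 𝟙 J ∧ IsIndec J := by
  obtain ⟨E, f, hE, hf⟩ := EssExt.exists_essential_injective N
  haveI := hE
  haveI := hf.mono
  let k : E ⟶ I := Injective.factorThru n f
  have hk : f ≫ k = n := Injective.comp_factorThru _ _
  haveI : Mono k := hf.mono_of_comp k (by rw [hk]; infer_instance)
  let r₀ : I ⟶ E := Injective.factorThru (𝟙 E) k
  have hr₀ : k ≫ r₀ = 𝟙 E := Injective.comp_factorThru _ _
  obtain ⟨_, ⟨e, hee, he0, rfl⟩, hmax⟩ := hN.wf.has_min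
    {S : Subobject N | ∃ e : E ⟶ E, e ≫ e = e ∧ e ≠ 0 ∧ S = kernelSubobject (f ≫ e)}
    ⟨_, 𝟙 E, Category.comp_id _, fun h => hN0 ((IsZero.iff_id_eq_zero _).2
      (by rw [← cancel_mono f, Category.id_comp, zero_comp, ← Category.comp_id f, h, comp_zero])), rfl⟩
  have split : ∀ e1 e2 : E ⟶ E, e1 ≫ e1 = e1 → e2 ≫ e2 = e2 → e1 ≫ e2 = 0 → e2 ≫ e1 = 0 →
      e1 + e2 = e → e1 = 0 ∨ e2 = 0 := by
    intro e1 e2 h11 h22 h12 h21 hsum
    by_contra hne
    simp only [not_or] at hne
    have hle : kernelSubobject (f ≫ e) ≤ kernelSubobject (f ≫ e1) := le_kernelSubobject _ _ (by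
      have : e ≫ e1 = e1 := by rw [← hsum, Preadditive.add_comp, h11, h21, add_zero]
      rw [← this, ← Category.assoc f, kernelSubobject_arrow_comp_assoc, zero_comp])
    have hge : kernelSubobject (f ≫ e1) ≤ kernelSubobject (f ≫ e) := by
      by_contra hn
      exact hmax _ ⟨e1, h11, hne.1, rfl⟩ (lt_of_le_not_ge hle hn)
    apply hne.2
    let m := kernel.ι (𝟙 E - e2)
    have hm : m ≫ e2 = m := by
      have h := kernel.condition (𝟙 E - e2)
      rw [Preadditive.comp_sub, Category.comp_id, sub_eq_zero] at h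
      exact h.symm
    have hπ : Mono (f ≫ cokernel.π m) := Preadditive.mono_of_cancel_zero _ fun {W} x hx => by
      let y := Abelian.monoLift m (x ≫ f) (by rw [Category.assoc]; exact hx)
      have hy : y ≫ m = x ≫ f := Abelian.monoLift_comp _ _ _
      have h2 : x ≫ f ≫ e2 = x ≫ f := by rw [← Category.assoc, ← hy, Category.assoc, hm]
      have h1 : x ≫ f ≫ e1 = 0 := by
        have h := congrArg (· ≫ e1) h2
        simp only [Category.assoc, h21, comp_zero] at h
        exact h.symm
      have hfac := Subobject.factors_of_le x hge (kernelSubobject_factors _ x h1)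
      have h0 : x ≫ f ≫ e = 0 := by
        rw [← Subobject.factorThru_arrow _ x hfac, Category.assoc, kernelSubobject_arrow_comp, comp_zero]
      rw [← hsum, Preadditive.comp_add, Preadditive.comp_add, h1, h2, zero_add] at h0
      exact zero_of_comp_mono f h0
    haveI := hf.mono_of_comp _ hπ
    have hm0 : m = 0 := zero_of_comp_mono _ (cokernel.condition m)
    rw [← kernel.lift_ι (𝟙 E - e2) e2 (by rw [Preadditive.comp_sub, Category.comp_id, h22, sub_self]),
      show kernel.ι (𝟙 E - e2) = 0 from hm0, comp_zero]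
  let ι := kernel.ι (𝟙 E - e)
  let ρ : E ⟶ kernel (𝟙 E - e) :=
    kernel.lift _ e (by rw [Preadditive.comp_sub, Category.comp_id, hee, sub_self])
  have hρι : ρ ≫ ι = e := kernel.lift_ι _ _ _
  have hιe : ι ≫ e = ι := by
    have h := kernel.condition (𝟙 E - e)
    rw [Preadditive.comp_sub, Category.comp_id, sub_eq_zero] at h
    exact h.symm
  have hιρ : ι ≫ ρ = 𝟙 _ := by rw [← cancel_mono ι, Category.assoc, hρι, hιe, Category.id_comp]
  refine ⟨_, ι ≫ k, r₀ ≫ ρ, ?_, ?_, ?_, ?_⟩
  · rw [Category.assoc, reassoc_of% hr₀, hιρ]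
  · exact (⟨ι, ρ, hιρ⟩ : Retract _ E).injective
  · exact fun h => he0 (by rw [← hρι, h.eq_of_tgt ρ 0, zero_comp])
  · rintro A B ⟨φ⟩
    let e1 := ρ ≫ φ.hom ≫ biprod.fst ≫ biprod.inl ≫ φ.inv ≫ ι
    let e2 := ρ ≫ φ.hom ≫ biprod.snd ≫ biprod.inr ≫ φ.inv ≫ ι
    have h12 : e1 + e2 = e := by
      rw [← hρι]
      simp only [e1, e2, ← Preadditive.comp_add]
      congr 1
      rw [← Category.assoc biprod.fst, ← Category.assoc biprod.snd, ← Preadditive.add_comp,
        biprod.total, Category.id_comp, Iso.hom_inv_id_assoc]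
    rcases split e1 e2 (by simp [e1, reassoc_of% hιρ]) (by simp [e2, reassoc_of% hιρ])
        (by simp [e1, e2, reassoc_of% hιρ]) (by simp [e1, e2, reassoc_of% hιρ]) h12 with h | h
    · left
      have := congrArg (fun t => (biprod.inl ≫ φ.inv ≫ ι) ≫ t ≫ ρ ≫ φ.hom ≫ biprod.fst) h
      simp [e1, reassoc_of% hιρ] at this
      exact (IsZero.iff_id_eq_zero _).2 this
    · right
      have := congrArg (fun t => (biprod.inr ≫ φ.inv ≫ ι) ≫ t ≫ ρ ≫ φ.hom ≫ biprod.snd) h
      simp [e2, reassoc_of% hιρ] at this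
      exact (IsZero.iff_id_eq_zero _).2 this

end Abstract

section Scheme

open Groth.Agent.VBPnX.InjSlim

variable {X : Scheme.{u}} [IsLocallyNoetherian X]

/-- Extensions by zero of affine opens are Noetherian objects. -/
theorem wellFoundedGT_lsh {V : X.Opens} (hV : IsAffineOpen V) :
    WellFoundedGT (Subobject ((lsh V.ι).obj (Coh.structureModule (V : Scheme.{u})))) := by
  haveI : IsAffine (V : Scheme.{u}) := hV
  haveI : IsLocallyNoetherian (V : Scheme.{u}) := isLocallyNoetherian_of_isOpenImmersion V.ι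
  haveI : IsNoetherian (V : Scheme.{u}) := {}
  exact wellFoundedGT_iff_monotone_chain_condition.2 fun c => chain_stabilizes_lsh V.ι (Iso.refl _) c

/-- Every injective module on a locally Noetherian scheme is a sum of indecomposable injectives. -/
theorem exists_decomposition (I : X.Modules) [Injective I] :
    ∃ (ι : Type u) (J : ι → X.Modules), (∀ i, IsIndec (J i)) ∧ Nonempty (I ≅ ∐ J) := by
  classical
  let T := Shrink.{u} (Subobject I)
  let S : T → Subobject I := (equivShrink (Subobject I)).symm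
  let F : ∀ s : Set T, s → X.Modules := fun _ a => (S a.1 : X.Modules)
  let d : ∀ s : Set T, (∐ F s) ⟶ I := fun s => Sigma.desc fun a => (S a.1).arrow
  obtain ⟨s, -, ⟨hs, hmono⟩, hmax⟩ := zorn_le_nonempty₀
    {s : Set T | (∀ a ∈ s, IsIndec (S a : X.Modules)) ∧ Mono (d s)} (fun c hc hchain y hy => by
    refine ⟨⋃₀ c, ⟨fun a ⟨t, ht, ha⟩ => (hc ht).1 a ha, ?_⟩, fun t ht => Set.subset_sUnion_of_mem ht⟩
    refine Preadditive.mono_of_kernel_iso_zero (IsZero.isoZero ((IsZero.iff_id_eq_zero _).2 ?_))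
    by_contra hne
    obtain ⟨V, hV, h, hh⟩ := exists_affine_gen_ne_zero (kernel.ι (d (⋃₀ c)))
      (fun h0 => hne (by rw [← cancel_mono (kernel.ι (d (⋃₀ c))), Category.id_comp, zero_comp, h0]))
    apply hh
    generalize hg : h ≫ kernel.ι (d (⋃₀ c)) = g
    have hgd : g ≫ d (⋃₀ c) = 0 := by rw [← hg, Category.assoc, kernel.condition, comp_zero]
    obtain ⟨σ, hσ⟩ := exists_finset_killing (F (⋃₀ c)) g (wellFoundedGT_lsh hV)
    obtain ⟨t, htc, ht⟩ : ∃ t ∈ c, ∀ a ∈ σ, a.1 ∈ t := by
      clear hσ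
      induction σ using Finset.induction with
      | empty => exact ⟨y, hy, fun a ha => absurd ha (Finset.notMem_empty a)⟩
      | @insert a σ _ ih =>
        obtain ⟨t, htc, ht⟩ := ih
        obtain ⟨t', ht'c, ha⟩ := a.2
        rcases hchain.total htc ht'c with hle | hle
        · exact ⟨t', ht'c, Finset.forall_mem_insert _ _ _ |>.2 ⟨ha, fun b hb => hle (ht b hb)⟩⟩
        · exact ⟨t, htc, Finset.forall_mem_insert _ _ _ |>.2 ⟨hle ha, ht⟩⟩
    let j : (∐ F t) ⟶ ∐ F (⋃₀ c) := Sigma.desc fun a =>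
      Sigma.ι (F (⋃₀ c)) (⟨a.1, t, htc, a.2⟩ : ↥(⋃₀ c))
    let q : (∐ F (⋃₀ c)) ⟶ ∐ F t := Sigma.desc fun a =>
      if ha : a.1 ∈ t then Sigma.ι (F t) ⟨a.1, ha⟩ else 0
    let π : (∐ F (⋃₀ c)) ⟶ ∐ F (⋃₀ c) := Sigma.desc fun a => if a ∈ σ then 0 else Sigma.ι (F (⋃₀ c)) a
    have hd : j ≫ d (⋃₀ c) = d t := Sigma.hom_ext _ _ fun a => by simp [j, d]
    have hπ : (𝟙 _ - q ≫ j) = π ≫ (𝟙 _ - q ≫ j) := Sigma.hom_ext _ _ fun a => by
      by_cases ha : a ∈ σ
      · simp [π, q, j, ha, ht a ha]
      · simp [π, ha]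
    have hgq : g = (g ≫ q) ≫ j := by
      have h1 : g ≫ (𝟙 _ - q ≫ j) = 0 := by rw [hπ, reassoc_of% hσ, zero_comp]
      rw [Preadditive.comp_sub, Category.comp_id, sub_eq_zero] at h1
      rw [Category.assoc]
      exact h1
    haveI := (hc htc).2
    have h2 : (g ≫ q) ≫ d t = 0 := by rw [← hd, ← Category.assoc, ← hgq, hgd]
    rw [hgq, zero_of_comp_mono _ h2, zero_comp]) ∅ ⟨fun a ha => absurd ha (Set.notMem_empty a),
      Preadditive.mono_of_cancel_zero _ fun x _ => by
        have hz : IsZero (∐ F (∅ : Set T)) := (IsZero.iff_id_eq_zero _).2 (Sigma.hom_ext _ _ fun a => a.2.elim)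
        exact hz.eq_of_tgt _ _⟩
  haveI : Injective (∐ F s) := injective_coproduct _ fun a => (hs a.1 a.2).1
  haveI := hmono
  let r : I ⟶ ∐ F s := Injective.factorThru (𝟙 _) (d s)
  have hr : d s ≫ r = 𝟙 _ := Injective.comp_factorThru _ _
  refine ⟨s, F s, fun a => hs a.1 a.2, ?_⟩
  by_cases he : r ≫ d s = 𝟙 I
  · exact ⟨⟨r, d s, he, hr⟩⟩
  exfalso
  have her : (𝟙 I - r ≫ d s) ≫ r = 0 := by
    rw [Preadditive.sub_comp, Category.assoc, hr, Category.comp_id, Category.id_comp, sub_self]
  let ρ : I ⟶ kernel r := kernel.lift r _ her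
  have hρ : ρ ≫ kernel.ι r = 𝟙 I - r ≫ d s := kernel.lift_ι _ _ _
  have hιρ : kernel.ι r ≫ ρ = 𝟙 _ := by
    rw [← cancel_mono (kernel.ι r), Category.assoc, hρ, Category.id_comp, Preadditive.comp_sub,
      Category.comp_id, kernel.condition_assoc, zero_comp, sub_zero]
  haveI : Injective (kernel r) := (⟨kernel.ι r, ρ, hιρ⟩ : Retract _ I).injective
  obtain ⟨V, hV, h, hh⟩ := exists_affine_gen_ne_zero ρ (fun h0 => he (by
    rw [h0, zero_comp] at hρ
    exact (sub_eq_zero.1 hρ.symm).symm))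
  let N := Abelian.image (h ≫ ρ)
  have hN : WellFoundedGT (Subobject N) := by
    haveI := wellFoundedGT_lsh hV
    let p := Abelian.factorThruImage (h ≫ ρ)
    let φ : Subobject N → Subobject ((lsh V.ι).obj (Coh.structureModule (V : Scheme.{u}))) :=
      fun a => kernelSubobject (p ≫ cokernel.π a.arrow)
    have hle : ∀ a b : Subobject N, φ a = φ b → a ≤ b := by
      intro a b hab
      have h1 : pullback.snd a.arrow p ≫ p ≫ cokernel.π a.arrow = 0 := by
        rw [← pullback.condition_assoc, cokernel.condition, comp_zero]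
      have hfac : (φ b).Factors (pullback.snd a.arrow p) := hab ▸ kernelSubobject_factors _ _ h1
      have h2 : pullback.snd a.arrow p ≫ p ≫ cokernel.π b.arrow = 0 := by
        rw [← Subobject.factorThru_arrow _ _ hfac, Category.assoc, kernelSubobject_arrow_comp, comp_zero]
      rw [← pullback.condition_assoc] at h2
      haveI : Epi (pullback.fst a.arrow p) := Abelian.epi_pullback_of_epi_g _ _
      have h3 : a.arrow ≫ cokernel.π b.arrow = 0 :=
        (cancel_epi (pullback.fst a.arrow p)).1 (h2.trans comp_zero.symm)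
      exact Subobject.le_of_comm (Abelian.monoLift b.arrow a.arrow h3) (Abelian.monoLift_comp _ _ _)
    have hmon : Monotone φ := fun a b hab => le_kernelSubobject _ _ (by
      obtain ⟨l, hl⟩ : ∃ l, cokernel.π a.arrow ≫ l = cokernel.π b.arrow :=
        ⟨cokernel.desc _ _ (by rw [← Subobject.ofLE_arrow hab, Category.assoc, cokernel.condition, comp_zero]),
          cokernel.π_desc _ _ _⟩
      rw [← hl, ← Category.assoc p, kernelSubobject_arrow_comp_assoc, zero_comp])
    exact StrictMono.wellFoundedGT (f := φ) (hmon.strictMono_of_injective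
      fun a b hab => le_antisymm (hle a b hab) (hle b a hab.symm))
  have hN0 : ¬ IsZero N := fun hz => hh (by
    rw [← Abelian.image.fac (h ≫ ρ), hz.eq_of_tgt (Abelian.factorThruImage (h ≫ ρ)) 0, zero_comp])
  obtain ⟨J, m, rJ, hmr, hJ⟩ := exists_indec_retract hN hN0 (Abelian.image.ι (h ≫ ρ))
  haveI : Mono m := (⟨m, rJ, hmr⟩ : Retract J (kernel r)).splitMono.mono
  let a : T := equivShrink _ (Subobject.mk (m ≫ kernel.ι r))
  have hSa : S a = Subobject.mk (m ≫ kernel.ι r) := Equiv.symm_apply_apply _ _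
  have hSr : (S a).arrow ≫ r = 0 := by
    rw [hSa, ← Subobject.underlyingIso_hom_comp_eq_mk, Category.assoc, Category.assoc, kernel.condition,
      comp_zero, comp_zero]
  have hiso : (S a : X.Modules) ≅ J := eqToIso (by rw [hSa]) ≪≫ Subobject.underlyingIso _
  have hSaI : IsIndec (S a : X.Modules) :=
    ⟨Injective.of_iso hiso.symm hJ.1, fun hz => hJ.2.1 (hz.of_iso hiso.symm),
      fun A B ⟨φ⟩ => hJ.2.2 A B ⟨hiso.symm ≪≫ φ⟩⟩
  have has : a ∉ s := fun ha => hSaI.2.1 ((IsZero.iff_id_eq_zero _).2 (by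
    have h1 : (S a).arrow = Sigma.ι (F s) ⟨a, ha⟩ ≫ d s := by simp [d]
    have h2 : Sigma.ι (F s) ⟨a, ha⟩ = 0 := by
      rw [← hSr, h1, Category.assoc, hr, Category.comp_id]
    rw [← cancel_mono (S a).arrow, Category.id_comp, zero_comp, h1, h2, zero_comp]))
  refine has (hmax (y := insert a s) ⟨fun b hb => ?_, ?_⟩ (Set.subset_insert a s) (Set.mem_insert a s))
  · rcases Set.mem_insert_iff.1 hb with rfl | hb
    exacts [hSaI, hs b hb]
  · let i₀ : ↥(insert a s) := ⟨a, Set.mem_insert a s⟩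
    let P : (∐ F (insert a s)) ⟶ ∐ F s := Sigma.desc fun b =>
      if hb : b.1 ∈ s then Sigma.ι (F s) ⟨b.1, hb⟩ else 0
    let j : (∐ F s) ⟶ ∐ F (insert a s) := Sigma.desc fun b =>
      Sigma.ι (F (insert a s)) (⟨b.1, Set.mem_insert_of_mem a b.2⟩ : ↥(insert a s))
    let Q : (∐ F (insert a s)) ⟶ F (insert a s) i₀ := Sigma.desc fun b =>
      if hb : b = i₀ then eqToHom (by rw [hb]) else 0
    have hid : P ≫ j + Q ≫ Sigma.ι (F (insert a s)) i₀ = 𝟙 _ := Sigma.hom_ext _ _ fun b => by
      rcases Set.mem_insert_iff.1 b.2 with hb | hb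
      · obtain rfl : b = i₀ := Subtype.ext hb
        simp [P, Q, i₀, has]
      · have hne : b ≠ i₀ := fun h0 => has (by rw [h0] at hb; exact hb)
        simp [P, Q, j, hb, hne]
    have hjd : j ≫ d (insert a s) = d s := Sigma.hom_ext _ _ fun b => by simp [j, d]
    refine Preadditive.mono_of_cancel_zero _ fun x hx => ?_
    have hdd : d (insert a s) = P ≫ d s + Q ≫ (S a).arrow := by
      conv_lhs => rw [← Category.id_comp (d (insert a s)), ← hid]
      rw [Preadditive.add_comp, Category.assoc, Category.assoc, hjd]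
      congr 2
      exact Sigma.ι_desc _ _
    have hP : x ≫ P = 0 := by
      have h1 := congrArg (· ≫ r) hx
      simp only [hdd, Preadditive.comp_add, Preadditive.add_comp, Category.assoc, zero_comp, hr,
        Category.comp_id, hSr, comp_zero, add_zero] at h1
      exact h1
    have hQ : x ≫ Q = 0 := by
      rw [hdd, Preadditive.comp_add, reassoc_of% hP, zero_comp, zero_add, ← Category.assoc] at hx
      exact zero_of_comp_mono _ hx
    rw [← Category.comp_id x, ← hid, Preadditive.comp_add, reassoc_of% hP, reassoc_of% hQ, zero_comp,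
      zero_comp, add_zero]

end Scheme

end Groth.Agent.VBPnX.Indecomp
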