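import Groth.Agent.VBPnX.InjQCohLN
import Groth.Agent.ExtShX.Affine
import Groth.Agent.SiteBase.DerivedKernel
import Groth.Agent.SiteBase.HZshAcyclic
import Groth.Agent.H9Misc.SupportsCore
import Groth.Agent.RefX.QCoh
import Mathlib

/-!
# Quasi-coherence of the local Ext sheaves with supports
-/

set_option autoImplicit false
set_option linter.style.haveILetI false
set_option maxHeartbeats 1000000
set_option backward.isDefEq.respectTransparency false
set_option backward.isDefEq.respectTransparency.types false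

universe u

open CategoryTheory CategoryTheory.Limits AlgebraicGeometry TopologicalSpace Opposite

noncomputable section

namespace Groth.Agent.VBPnX.ExtZQCoh

variable {X : Scheme.{u}}

/-- Sections with supports are the kernel of restriction to the open. -/
theorem nonempty_sectOn_iso_kernel (U : X.Opens) (N : X.Modules) :
    Nonempty ((ModSite.sectOn X.sheaf U).obj N ≅ kernel ((Scheme.Modules.restrictAdjunction U.ι).unit.app N)) := by
  let ι : (ModSite.sectOn X.sheaf U).obj N ⟶ N := (ModSite.sectOnι X.sheaf U).app N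
  let η := (Scheme.Modules.restrictAdjunction U.ι).unit.app N
  have h0 : (ModSite.restr X.sheaf U).map ι = 0 := (SuppCore.comp_unit_eq_zero_iff U _).1 (kernel.condition _)
  have h1 : ∀ (V : X.Opens) (hV : V ≤ U) (z : Γ((ModSite.sectOn X.sheaf U).obj N, V)), Scheme.Modules.Hom.app ι V z = 0 :=
    fun V hV z => congrArg (fun φ : (ModSite.restr X.sheaf U).obj _ ⟶ (ModSite.restr X.sheaf U).obj _ =>
      (φ.val.app (op (Over.mk (homOfLE hV)))).hom z) h0
  have ha : ι ≫ η = 0 := by
    refine Scheme.Modules.hom_ext _ _ fun W => AddCommGrpCat.hom_ext (AddMonoidHom.ext fun z => ?_)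
    show η.app W (Scheme.Modules.Hom.app ι W z) = 0
    rw [Scheme.Modules.restrictAdjunction_unit_app_app]
    refine (ConcreteCategory.congr_hom ((Scheme.Modules.Hom.mapPresheaf ι).naturality (homOfLE (U.ι.image_preimage_le W)).op) z).symm.trans ?_
    exact h1 _ (U.ι_image_le _) _
  have hb : (ModSite.restr X.sheaf U).map (kernel.ι η) = 0 := by
    apply SheafOfModules.hom_ext
    refine PresheafOfModules.hom_ext fun V => ?_
    ext (y : Γ(kernel η, V.unop.left))
    have hV : V.unop.left ≤ U := leOfHom V.unop.hom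
    have h2 : η.app V.unop.left (Scheme.Modules.Hom.app (kernel.ι η) V.unop.left y) = 0 := by
      rw [← ConcreteCategory.comp_apply, ← Scheme.Modules.Hom.comp_app, kernel.condition]
      rfl
    rw [Scheme.Modules.restrictAdjunction_unit_app_app] at h2
    have e : U.ι ''ᵁ (U.ι ⁻¹ᵁ V.unop.left) = V.unop.left := by
      rw [Scheme.Hom.image_preimage_eq_opensRange_inf, Scheme.Opens.opensRange_ι, inf_eq_right]
      exact hV
    have h4 : ∀ z : Γ(N, V.unop.left), N.presheaf.map (eqToHom e.symm).op
        (N.presheaf.map (homOfLE (U.ι.image_preimage_le V.unop.left)).op z) = z := fun z => by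
      rw [← ConcreteCategory.comp_apply, ← Functor.map_comp, ← op_comp,
        Subsingleton.elim (eqToHom e.symm ≫ homOfLE (U.ι.image_preimage_le V.unop.left)) (𝟙 _), op_id,
        N.presheaf.map_id]
      rfl
    exact (h4 _).symm.trans ((congrArg (N.presheaf.map (eqToHom e.symm).op) h2).trans (map_zero _))
  refine ⟨⟨kernel.lift η ι ha, kernel.lift _ (kernel.ι η) ((SuppCore.comp_unit_eq_zero_iff U _).2 hb), ?_, ?_⟩⟩
  · apply equalizer.hom_ext
    rw [Category.assoc, Category.id_comp]
    exact (congrArg (kernel.lift η ι ha ≫ ·) (kernel.lift_ι _ _ _)).trans (kernel.lift_ι _ _ _)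
  · apply equalizer.hom_ext
    rw [Category.assoc, Category.id_comp]
    exact (congrArg (_ ≫ ·) (kernel.lift_ι η ι ha)).trans (kernel.lift_ι _ _ _)

theorem isQCoh_sectOn [IsLocallyNoetherian X] (U : X.Opens) {N : X.Modules} (hN : Coh.IsQCoh N) :
    Coh.IsQCoh ((ModSite.sectOn X.sheaf U).obj N) := by
  obtain ⟨e⟩ := nonempty_sectOn_iso_kernel U N
  exact (QCoh.isQCoh_iff_iso e).2
    (QCoh.isQCoh_kernel hN (QCoh.isQCoh_pushforward U.ι (QCoh.isQCoh_restrict U.ι hN)) _)

/-- A quasi-coherent module embeds into a quasi-coherent injective one. -/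
theorem exists_mono_qcoh_injective [IsLocallyNoetherian X] {M : X.Modules} (hM : Coh.IsQCoh M) :
    ∃ (E : X.Modules) (f : M ⟶ E), Mono f ∧ Coh.IsQCoh E ∧ Injective E := by
  obtain ⟨E, f, hE, hf⟩ := EssExt.exists_essential_injective M
  haveI := hE
  exact ⟨E, f, hf.mono, InjQCohLN.isQCoh_of_isEss hM hf, hE⟩

/-- The right derived functors of a left exact functor preserving quasi-coherence preserve it. -/
theorem isQCoh_rightDerived [IsLocallyNoetherian X] [HasInjectiveResolutions X.Modules]
    (S : X.Modules ⥤ X.Modules) [S.Additive] [PreservesFiniteLimits S]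
    (hS : ∀ M, Coh.IsQCoh M → Coh.IsQCoh (S.obj M)) :
    ∀ (q : ℕ) (G : X.Modules), Coh.IsQCoh G → Coh.IsQCoh ((S.rightDerived q).obj G) := by
  haveI : EnoughInjectives X.Modules :=
    SpObjSS.enoughInjectives_of_hasInjectiveResolutions (C := X.Modules)
  intro q
  induction q with
  | zero => exact fun G hG => (QCoh.isQCoh_iff_iso (S.rightDerivedZeroIsoSelf.app G)).2 (hS G hG)
  | succ q ih =>
    intro G hG
    obtain ⟨E, f, hf, hE, hEi⟩ := exists_mono_qcoh_injective hG
    haveI := hEi
    haveI := hf
    let T : ShortComplex X.Modules := ShortComplex.mk f (cokernel.π f) (cokernel.condition f)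
    have hT : T.ShortExact :=
      { exact := ShortComplex.exact_of_g_is_cokernel _ (cokernelIsCokernel f)
        mono_f := hf
        epi_g := inferInstanceAs (Epi (cokernel.π f)) }
    have hC : Coh.IsQCoh T.X₃ := QCoh.isQCoh_cokernel hG hE f
    let δ := (SESResLib.derivedLES S).δ T hT q (q + 1) rfl
    have hepi : Epi δ := ((SESResLib.derivedLES S).exact₁ T hT q (q + 1) rfl).epi_f
      ((S.isZero_rightDerived_obj_injective_succ q E).eq_of_tgt _ _)
    have hc := @ShortComplex.Exact.gIsCokernel _ _ _ _ _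
      ((SESResLib.derivedLES S).exact₃ T hT q (q + 1) rfl) hepi
    exact (QCoh.isQCoh_iff_iso (hc.coconePointUniqueUpToIso (cokernelIsCokernel _))).2
      (QCoh.isQCoh_cokernel (ih E hE) (ih _ hC) _)

theorem isQCoh_extZSh [IsLocallyNoetherian X] (U : X.Opens) {F G : X.Modules} (hF : Coh.IsCoh F) (hG : Coh.IsQCoh G)
    [ModSite.HasSheafHom (O := X.sheaf) F] [HasInjectiveResolutions (ModSite.Mod X.sheaf)] (i : ℕ) :
    Coh.IsQCoh ((ModSite.extZSh (O := X.sheaf) U F i).obj G) := by
  haveI : HasInjectiveResolutions X.Modules := ‹HasInjectiveResolutions (ModSite.Mod X.sheaf)›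
  let SH : X.Modules ⥤ X.Modules := ModSite.sheafHom (O := X.sheaf) F
  let T : X.Modules ⥤ X.Modules := ModSite.sectOn X.sheaf U
  haveI : SH.Additive := ModSite.sheafHom_additive X.sheaf F
  haveI : T.Additive := ModSite.sectOn_additive X.sheaf U
  haveI : PreservesFiniteLimits SH := by
    have : PreservesLimitsOfSize.{0, 0} SH :=
      (ModSite.sheafHomAdj (O := X.sheaf) F).rightAdjoint_preservesLimits
    exact ⟨fun _ => inferInstance⟩
  haveI : PreservesFiniteLimits T := by
    have : PreservesLimitsOfSize.{0, 0} T :=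
      (SuppCore.quotSectAdj (O := X.sheaf) U).rightAdjoint_preservesLimits
    exact ⟨fun _ => inferInstance⟩
  haveI : PreservesFiniteLimits (SH ⋙ T) := comp_preservesFiniteLimits _ _
  have hfp := KZ.LFRes.isFP_of_isCoh hF
  refine isQCoh_rightDerived (SH ⋙ T) (fun M hM => ?_) i G hG
  exact isQCoh_sectOn U ((QCoh.isQCoh_iff_iso (ExtShX.iso F M)).2 (RefX.isQCoh_homSh hfp hM))

end Groth.Agent.VBPnX.ExtZQCoh
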