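import Groth.Agent.CDiv6.Factorial
import Groth.Agent.FlatLoc6.EquidimCat
import Groth.Agent.VarDim.Basic
import Groth.Prelude.Def_BlowUp2
import Mathlib.AlgebraicGeometry.IdealSheaf.Functorial
import Mathlib.RingTheory.Ideal.KrullsHeightTheorem
import Mathlib.RingTheory.Ideal.MinimalPrime.Localization

/-!
# Effective Cartier divisors meet closed integral subschemes properly
-/

set_option autoImplicit false
set_option linter.style.haveILetI false
set_option backward.isDefEq.respectTransparency false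
set_option backward.isDefEq.respectTransparency.types false

universe u

open CategoryTheory AlgebraicGeometry TopologicalSpace IsLocalRing Order

namespace Groth.Agent.VBPnX.ProperMeet

variable {X : Scheme.{u}}

theorem fromSpec_mem (U : X.affineOpens) (Q : PrimeSpectrum Γ(X, U.1)) : U.2.fromSpec Q ∈ U.1 :=
  U.2.range_fromSpec.subset (Set.mem_range_self Q)

theorem fromSpec_mem_support_iff (𝓘 : X.IdealSheafData) (U : X.affineOpens) (Q : PrimeSpectrum Γ(X, U.1)) :
    U.2.fromSpec Q ∈ (𝓘.support : Set X) ↔ 𝓘.ideal U ≤ Q.asIdeal := by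
  have h1 : U.2.fromSpec Q ∈ (𝓘.support : Set X) ↔
      U.2.fromSpec Q ∈ U.2.fromSpec '' PrimeSpectrum.zeroLocus (𝓘.ideal U : Set Γ(X, U.1)) := by
    rw [IsAffineOpen.fromSpec_image_zeroLocus, ← 𝓘.coe_support_inter U]
    exact ⟨fun h => ⟨h, fromSpec_mem U Q⟩, fun h => h.1⟩
  rw [h1, U.2.fromSpec.isEmbedding.injective.mem_set_image]
  rfl

theorem coheight_fromSpec (U : X.affineOpens) (Q : PrimeSpectrum Γ(X, U.1)) :
    coheight (α := X) (U.2.fromSpec Q) = Q.asIdeal.height := by
  have h1 := ringKrullDim_stalk_eq_coheight (U.2.fromSpec Q)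
  letI := X.presheaf.algebra_section_stalk (⟨U.2.fromSpec Q, fromSpec_mem U Q⟩ : U.1)
  haveI := U.2.isLocalization_stalk' Q (fromSpec_mem U Q)
  rw [IsLocalization.AtPrime.ringKrullDim_eq_height Q.asIdeal (X.presheaf.stalk (U.2.fromSpec Q))] at h1
  exact (WithBot.coe_injective h1).symm

variable [IsLocallyNoetherian X] {𝓘 : X.IdealSheafData}

theorem one_le_coheight (h : BlowUp.IsEffCartierIdeal 𝓘) {x : X} (hx : x ∈ (𝓘.support : Set X)) :
    1 ≤ coheight x := by
  obtain ⟨U, hxU, f, hf, hI⟩ := h x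
  obtain ⟨Q, rfl⟩ : x ∈ Set.range U.2.fromSpec := U.2.range_fromSpec.symm ▸ hxU
  rw [coheight_fromSpec, ENat.one_le_iff_ne_zero, ne_eq, Ideal.height_eq_zero_iff]
  intro hmin
  have hfQ : f ∈ Q.asIdeal :=
    (fromSpec_mem_support_iff 𝓘 U Q).1 hx (hI ▸ Ideal.mem_span_singleton_self f)
  exact Set.disjoint_left.1 (Ideal.disjoint_nonZeroDivisors_of_mem_minimalPrimes hmin) hfQ hf

theorem exists_coheight_le_one (h : BlowUp.IsEffCartierIdeal 𝓘) {x : X} (hx : x ∈ (𝓘.support : Set X)) :
    ∃ y ∈ (𝓘.support : Set X), y ⤳ x ∧ coheight y ≤ 1 := by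
  obtain ⟨U, hxU, f, hf, hI⟩ := h x
  obtain ⟨P, rfl⟩ : x ∈ Set.range U.2.fromSpec := U.2.range_fromSpec.symm ▸ hxU
  obtain ⟨Q, hQ, hQP⟩ := Ideal.exists_minimalPrimes_le ((fromSpec_mem_support_iff 𝓘 U P).1 hx)
  refine ⟨U.2.fromSpec ⟨Q, hQ.1.1⟩, (fromSpec_mem_support_iff 𝓘 U _).2 hQ.1.2,
    Specializes.map ((PrimeSpectrum.le_iff_specializes ⟨Q, hQ.1.1⟩ P).1 hQP) U.2.fromSpec.continuous, ?_⟩
  rw [coheight_fromSpec]
  haveI : IsNoetherianRing Γ(X, U.1) := IsLocallyNoetherian.component_noetherian U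
  haveI : (𝓘.ideal U).IsPrincipal := hI ▸ ⟨⟨f, rfl⟩⟩
  exact Ideal.height_le_one_of_isPrincipal_of_mem_minimalPrimes (𝓘.ideal U) Q hQ

variable {Z : Scheme.{u}}

/-- An effective Cartier divisor meets a closed integral subscheme, not inside it, properly. -/
theorem coheight_eq [IrreducibleSpace X] (hcat : ∀ x : X, CAlg.IsCatenary (X.presheaf.stalk x))
    (hY : BlowUp.IsEffCartierIdeal 𝓘) (i : Z ⟶ X) [IsClosedImmersion i] [IsIntegral Z]
    (hc : BlowUp.IsEffCartierIdeal (𝓘.comap i)) (ζ : X)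
    (hζ : ζ ∈ (𝓘.support : Set X) ∩ Set.range i.base)
    (hmax : ∀ ζ' : X, ζ' ∈ (𝓘.support : Set X) ∩ Set.range i.base → ζ' ⤳ ζ → ζ' = ζ) :
    coheight ζ = coheight (α := X) (i (genericPoint Z)) + 1 := by
  haveI : IsLocallyNoetherian Z := LocallyOfFiniteType.isLocallyNoetherian i
  obtain ⟨hζY, z, rfl⟩ := hζ
  have hinj : Function.Injective i := i.isClosedEmbedding.injective
  have hsupp : ∀ w : Z, w ∈ ((𝓘.comap i).support : Set Z) ↔ i w ∈ (𝓘.support : Set X) := fun w => by
    rw [Scheme.IdealSheafData.support_comap]; rfl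
  -- the local dimension of `Z` at `z`
  have hz1 : coheight z ≤ 1 := by
    obtain ⟨y, hy, hyz, hle⟩ := exists_coheight_le_one hc ((hsupp z).2 hζY)
    rwa [hinj (hmax (i y) ⟨(hsupp y).1 hy, ⟨y, rfl⟩⟩ (hyz.map i.continuous))] at hle
  have hgen : (genericPoint Z) ⤳ z := (genericPoint_spec Z).specializes trivial
  have hne : genericPoint Z ≠ z := fun e => by
    have h1 := one_le_coheight hc ((hsupp z).2 hζY)
    have h2 : coheight z = 0 := Order.coheight_eq_zero.2 fun b hb => by
      have h3 : b ⤳ z := hb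
      exact (show z ⤳ b from e ▸ (genericPoint_spec Z).specializes trivial)
    rw [h2] at h1
    exact absurd h1 (by simp)
  have hgsp : i (genericPoint Z) ⤳ i z := hgen.map i.continuous
  let A := X.presheaf.stalk (i z)
  let p : PrimeSpectrum A := CDiv6.primeOf hgsp
  have hp : p.asIdeal.height = coheight (α := X) (i (genericPoint Z)) := CDiv6.height_primeOf hgsp
  have hfp : X.fromSpecStalk (i z) p = i (genericPoint Z) := CDiv6.fromSpecStalk_primeOf hgsp
  have hcp : X.fromSpecStalk (i z) (IsLocalRing.closedPoint A) = i z := Scheme.fromSpecStalk_closedPoint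
  -- primes above `p`
  have habove : ∀ q : PrimeSpectrum A, p < q → q = IsLocalRing.closedPoint A := by
    intro q hq
    have h1 : i (genericPoint Z) ⤳ X.fromSpecStalk (i z) q :=
      hfp ▸ ((PrimeSpectrum.le_iff_specializes p q).1 hq.le).map (X.fromSpecStalk (i z)).continuous
    have h2 : X.fromSpecStalk (i z) q ⤳ i z := CDiv6.fromSpecStalk_specializes q
    obtain ⟨w, hw⟩ : X.fromSpecStalk (i z) q ∈ Set.range i :=
      h1.mem_closed i.isClosedEmbedding.isClosed_range ⟨_, rfl⟩
    have hwz : w ⤳ z := i.isClosedEmbedding.isInducing.specializes_iff.1 (hw ▸ h2)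
    by_contra hqc
    have hwz' : z < w := lt_of_le_not_ge (show z ≤ w from hwz) fun hle => hqc
      ((X.fromSpecStalk (i z)).isEmbedding.injective
        (hw.symm.trans ((congrArg i ((hwz.antisymm hle).eq)).trans hcp.symm)))
    have hwg : w < genericPoint Z := lt_of_le_not_ge (show w ≤ genericPoint Z from
      (genericPoint_spec Z).specializes trivial) fun hle => hq.ne
      ((X.fromSpecStalk (i z)).isEmbedding.injective
        (hfp.trans ((congrArg i ((show genericPoint Z ⤳ w from (genericPoint_spec Z).specializes trivial).antisymm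
          hle).eq).trans hw)))
    have h3 : coheight z ≤ ((1 : ℕ) : ℕ∞) := hz1
    have h4 := Order.coheight_le_coe_iff.1 h3 w hwz'
    have h5 : 1 ≤ coheight w := Order.one_le_iff_pos.2 (pos_iff_ne_zero.2 fun h0 =>
      hwg.not_ge (Order.coheight_eq_zero.1 h0 hwg.le))
    exact absurd h5 (not_le.2 h4)
  have hpc : p < IsLocalRing.closedPoint A := lt_of_le_of_ne (IsLocalRing.le_maximalIdeal p.2.ne_top) fun e =>
    hne (hinj (hfp.symm.trans ((congrArg (X.fromSpecStalk (i z)) e).trans hcp)))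
  have hdim : ringKrullDim (A ⧸ p.asIdeal) = ((1 : ℕ∞) : WithBot ℕ∞) := by
    rw [← VarDim.coheight_eq_ringKrullDim_quotient, WithBot.coe_inj]
    refine le_antisymm ?_ ?_
    · refine (Order.coheight_le_coe_iff (n := 1)).2 fun q hq => ?_
      rw [habove q hq, Order.coheight_eq_zero.2 fun (b : PrimeSpectrum A) _ => IsLocalRing.le_maximalIdeal b.isPrime.ne_top]
      exact zero_lt_one
    · refine Order.one_le_iff_pos.2 (pos_iff_ne_zero.2 fun h0 => hpc.not_ge (Order.coheight_eq_zero.1 h0 hpc.le))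
  -- `A` is equidimensional: it has one minimal prime
  have heq : EGA4.IsEquidim A := by
    intro q hq
    haveI := hq.1.1
    have hη : genericPoint X ⤳ i z := (genericPoint_spec X).specializes trivial
    let η := CDiv6.primeOf hη
    have hηle : ∀ P : PrimeSpectrum A, η ≤ P := fun P => by
      rw [PrimeSpectrum.le_iff_specializes, ← (X.fromSpecStalk (i z)).isEmbedding.isInducing.specializes_iff,
        CDiv6.fromSpecStalk_primeOf]
      exact (genericPoint_spec X).specializes trivial
    have hqη : q ≤ η.asIdeal := hq.2 ⟨η.2, bot_le⟩ (hηle ⟨q, hq.1.1⟩)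
    refine le_antisymm (ringKrullDim_quotient_le q) ?_
    rw [ringKrullDim_quotient]
    refine le_of_eq (Order.krullDim_eq_of_orderIso
      { toFun := fun P => ⟨P, fun r hr => hηle P (hqη hr)⟩
        invFun := fun P => P.1
        left_inv := fun _ => rfl
        right_inv := fun _ => rfl
        map_rel_iff' := Iff.rfl })
  have h := FlatLoc6.height_add_ringKrullDim_quotient heq (hcat (i z)) p.asIdeal
  rw [hdim, hp, ringKrullDim_stalk_eq_coheight (i z), ← WithBot.coe_add, WithBot.coe_inj] at h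
  exact h.symm

end Groth.Agent.VBPnX.ProperMeet
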