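import Groth.Prelude.Def_DCoh2
import Groth.Agent.VBPnX.ExtZQCoh
import Groth.Agent.InjX.Basic
import Groth.Agent.CAlgGlobalDim.Basic
import Groth.Agent.LC.PdRegular
import Groth.Agent.PerfGen7.TruncHom
import Mathlib

/-!
# Bounded injective dimension on regular schemes: vanishing of maps in the derived category
-/

set_option autoImplicit false
set_option linter.style.haveILetI false
set_option maxHeartbeats 800000
set_option backward.isDefEq.respectTransparency false
set_option backward.isDefEq.respectTransparency.types false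

universe u

open CategoryTheory CategoryTheory.Limits AlgebraicGeometry Pretriangulated

attribute [local instance] HasDerivedCategory.standard

namespace Groth.Agent.VBPnX.RegVan

/-- Every module over a regular local ring has injective dimension at most the dimension. -/
theorem hasInjectiveDimensionLT_of_regular (R : Type u) [CommRing R] [IsRegularLocalRing R] (n : ℕ)
    (hn : ringKrullDim R ≤ (n : WithBot ℕ∞)) (N : ModuleCat.{u} R) : HasInjectiveDimensionLT N (n + 1) := by
  refine CAlgGlobalDim.hasInjectiveDimensionLE_of_ext_cyclic n N fun I => ?_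
  have hpd := RegLoc6.pdLE_of_isRegularLocalRing R (R ⧸ I)
  rw [← (isRegularLocalRing_iff R).1 ‹_›] at hn
  have hn' : (IsLocalRing.maximalIdeal R).spanFinrank ≤ n := by exact_mod_cast hn
  exact @HasProjectiveDimensionLT.subsingleton _ _ _ _ _ _ hpd (n + 1) (by omega) N

variable {X : Scheme.{u}}

/-- No maps from objects in degrees `≥ m` to `G[n]`, when `n + m` exceeds the injective dimension. -/
def Van (e : ℕ) (G : X.Modules) : Prop :=
  ∀ (n m : ℤ) (K : DCoh.D X) [K.IsGE m], (e : ℤ) < n + m →
    ∀ φ : K ⟶ (shiftFunctor (DCoh.D X) n).obj (DCoh.inD X G), φ = 0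

theorem van_of_injective (E : X.Modules) [Injective E] : Van 0 E := by
  intro n m K hK h φ
  obtain ⟨K', hK', ⟨eK⟩⟩ := K.exists_iso_Q_obj_of_isGE m
  let eL : (shiftFunctor (DCoh.D X) n).obj (DCoh.inD X E) ≅
      DerivedCategory.Q.obj ((CochainComplex.singleFunctor X.Modules (-n)).obj E) :=
    (((DerivedCategory.singleFunctors X.Modules).shiftIso n (-n) 0 (by omega)).app E) ≪≫
      (DerivedCategory.singleFunctorIsoCompQ X.Modules (-n)).app E
  let L := (CochainComplex.singleFunctor X.Modules (-n)).obj E
  haveI : ∀ i, Injective (L.X i) := fun i => by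
    by_cases hi : i = -n
    · subst hi
      exact Injective.of_iso (HomologicalComplex.singleObjXSelf (ComplexShape.up ℤ) (-n) E).symm ‹_›
    · exact Limits.IsZero.injective (HomologicalComplex.isZero_single_obj_X (ComplexShape.up ℤ) (-n) E i hi)
  haveI : L.IsKInjective := CochainComplex.isKInjective_of_injective L (-n)
  suffices ∀ ψ : DerivedCategory.Q.obj K' ⟶ DerivedCategory.Q.obj L, ψ = 0 by
    rw [← cancel_mono eL.hom, ← cancel_epi eK.inv]
    exact (this _).trans (this _).symm
  intro ψ
  let q := DerivedCategory.quotientCompQhIso X.Modules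
  obtain ⟨g, hg⟩ := (CochainComplex.IsKInjective.Qh_map_bijective
    ((HomotopyCategory.quotient X.Modules (ComplexShape.up ℤ)).obj K') L).2 (q.hom.app K' ≫ ψ ≫ q.inv.app L)
  obtain ⟨g', rfl⟩ := (HomotopyCategory.quotient X.Modules (ComplexShape.up ℤ)).map_surjective g
  have hg0 : g' = 0 := by
    refine HomologicalComplex.hom_ext _ _ fun i => ?_
    by_cases hi : i = -n
    · subst hi
      exact (CochainComplex.isZero_of_isStrictlyGE K' m (-n) (by omega)).eq_of_src _ _
    · exact (HomologicalComplex.isZero_single_obj_X (ComplexShape.up ℤ) (-n) E i hi).eq_of_tgt _ _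
  rw [hg0, Functor.map_zero, Functor.map_zero] at hg
  rw [← cancel_epi (q.hom.app K'), ← cancel_mono (q.inv.app L), comp_zero, zero_comp, Category.assoc, ← hg]

theorem Van.mono {e e' : ℕ} {G : X.Modules} (h : Van e G) (he : e ≤ e') : Van e' G :=
  fun n m K _ hn φ => h n m K (by omega) φ

/-- Dimension shifting. -/
theorem van_succ {S : ShortComplex X.Modules} (hS : S.ShortExact) {e : ℕ} [Injective S.X₂]
    (h₃ : Van e S.X₃) : Van (e + 1) S.X₁ := by
  intro n m K hK h φ
  let T := (Triangle.shiftFunctor (DCoh.D X) n).obj hS.singleTriangle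
  have hT : T ∈ distTriang (DCoh.D X) := Triangle.shift_distinguished _ hS.singleTriangle_distinguished n
  obtain ⟨ψ, hψ⟩ := Triangle.coyoneda_exact₂ T.invRotate (inv_rot_of_distTriang _ hT) φ
    ((van_of_injective S.X₂) n m K (by omega) _)
  let e₃ : T.invRotate.obj₁ ≅ (shiftFunctor (DCoh.D X) (n - 1)).obj (DCoh.inD X S.X₃) :=
    ((shiftFunctorAdd' (DCoh.D X) n (-1) (n - 1) (by omega)).app (DCoh.inD X S.X₃)).symm
  have h0 : ψ = 0 := by
    rw [← cancel_mono e₃.hom, zero_comp]
    exact h₃ (n - 1) m K (by omega) _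
  rw [hψ, h0]
  exact zero_comp

variable [IsLocallyNoetherian X]

theorem van_of_injectiveDimension : ∀ (e : ℕ) (G : X.Modules), Coh.IsQCoh G →
    (∀ x : X, HasInjectiveDimensionLT ((DerSch.stalkFunctor X x).obj G) (e + 1)) → Van e G := by
  intro e
  induction e with
  | zero =>
    intro G hG h
    haveI : Injective G := InjX.injective_of_stalks hG fun x => by
      haveI : Injective ((DerSch.stalkFunctor X x).obj G) := (injective_iff_hasInjectiveDimensionLT_one).2 (h x)
      exact Module.injective_module_of_injective_object (X.presheaf.stalk x) ((DerSch.stalkFunctor X x).obj G)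
    exact van_of_injective G
  | succ e ih =>
    intro G hG h
    obtain ⟨E, f, hf, hE, hEi⟩ := ExtZQCoh.exists_mono_qcoh_injective hG
    haveI := hf
    haveI := hEi
    let S : ShortComplex X.Modules := ShortComplex.mk f (cokernel.π f) (cokernel.condition f)
    have hS : S.ShortExact :=
      { exact := ShortComplex.exact_of_g_is_cokernel _ (cokernelIsCokernel f)
        mono_f := hf
        epi_g := inferInstanceAs (Epi (cokernel.π f)) }
    refine van_succ hS (ih _ (QCoh.isQCoh_cokernel hG hE f) fun x => ?_)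
    haveI : (DerSch.stalkFunctor X x).Additive := Functor.additive_of_preserves_binary_products _
    have hSx : (S.map (DerSch.stalkFunctor X x)).ShortExact := hS.map_of_exact _
    haveI : Injective (S.map (DerSch.stalkFunctor X x)).X₂ := ExtShX.injective_stalk (G := E) x
    exact (hSx.hasInjectiveDimensionLT_X₃_iff e inferInstance).2 (h x)

/-- Maps into bounded objects with quasi-coherent cohomology. -/
theorem hom_eq_zero (d : ℕ) (hG : ∀ G : X.Modules, Coh.IsQCoh G → Van d G) (m : ℤ) (K : DCoh.D X) [K.IsGE m]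
    (bL : ℤ) : ∀ (k : ℕ) (c : ℤ) (L : DCoh.D X), DCoh.IsQCohD L → c + d < m → c < bL + k →
      L.IsGE bL → L.IsLE c → ∀ φ : K ⟶ L, φ = 0 := by
  intro k
  induction k with
  | zero =>
    intro c L _ _ hc hge hle φ
    haveI := hge
    haveI := hle
    exact ((IsZero.iff_id_eq_zero L).2 (DerivedCategory.TStructure.t.zero_of_isLE_of_isGE (𝟙 L) c bL (by omega) hle hge)).eq_of_tgt _ _
  | succ k ih =>
    intro c L hq hcm hc hge hle φ
    haveI := hge
    haveI := hle
    let t : Triangulated.TStructure (DCoh.D X) := DerivedCategory.TStructure.t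
    let T := (t.triangleLTGE c).obj L
    have hT : T ∈ distTriang _ := t.triangleLTGE_distinguished c L
    have h3 : ∀ ψ : K ⟶ T.obj₃, ψ = 0 := by
      intro ψ
      haveI : T.obj₃.IsGE c := t.isGE_truncGE_obj L _ _ le_rfl
      haveI : T.obj₃.IsLE c := inferInstanceAs (t.IsLE ((t.truncGE c).obj L) c)
      obtain ⟨Y, ⟨e⟩⟩ := T.obj₃.exists_iso_singleFunctor_obj_of_isGE_of_isLE c
      have hY : Coh.IsQCoh Y := by
        refine KFlatLib.isQCoh_of_iso ?_ (PerfGen7.isQCohD_truncGE' hq c c)
        exact (DerivedCategory.homologyFunctor X.Modules c).mapIso e ≪≫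
          (DerivedCategory.singleFunctorCompHomologyFunctorIso X.Modules c).app Y
      let e' : T.obj₃ ≅ (shiftFunctor (DCoh.D X) (-c)).obj (DCoh.inD X Y) :=
        e ≪≫ (((DerivedCategory.singleFunctors X.Modules).shiftIso (-c) c 0 (by omega)).app Y).symm
      rw [← cancel_mono e'.hom, zero_comp]
      exact hG Y hY (-c) m K (by omega) _
    obtain ⟨χ, hχ⟩ := Triangle.coyoneda_exact₂ _ hT φ (h3 _)
    haveI : T.obj₁.IsLE (c - 1) := t.isLE_truncLT_obj L _ _ (by omega)
    haveI : T.obj₁.IsGE bL := inferInstanceAs (t.IsGE ((t.truncLT c).obj L) bL)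
    rw [hχ, ih (c - 1) T.obj₁ (PerfGen7.isQCohD_truncLT' hq c) (by omega) (by omega) inferInstance inferInstance χ]
    exact zero_comp

end Groth.Agent.VBPnX.RegVan
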