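import Groth.Agent.CILib.Basic

/-!
# The number `dim R - μ(ker π)` does not depend on the regular presentation `π : R → A`
-/

set_option autoImplicit false
set_option linter.style.haveILetI false

universe u

namespace Groth.Agent.VBPnX.CIDefect

open IsLocalRing Groth.Agent.Synt29 Groth.Agent.CILib

/-- embedding dimension minus number of relations -/
noncomputable def defect {R S : Type u} [CommRing R] [IsLocalRing R] [CommRing S] (π : R →+* S) : ℤ :=
  ((maximalIdeal R).spanFinrank : ℤ) - ((RingHom.ker π).spanFinrank : ℤ)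

theorem spanFinrank_le_of_range {R : Type u} [CommRing R] {I : Ideal R} {r : ℕ} (k : Fin r → R)
    (h : I = Ideal.span (Set.range k)) : I.spanFinrank ≤ r := by
  subst h
  refine (Submodule.spanFinrank_span_le_ncard_of_finite (Set.finite_range k)).trans ?_
  rw [← Set.image_univ]
  refine (Set.ncard_image_le Set.finite_univ).trans ?_
  rw [Set.ncard_univ, Nat.card_fin]

theorem exists_range {R : Type u} [CommRing R] [IsNoetherianRing R] (I : Ideal R) :
    ∃ (r : ℕ) (k : Fin r → R), r = I.spanFinrank ∧ I = Ideal.span (Set.range k) := by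
  obtain ⟨s, hs, hspan⟩ := Submodule.FG.exists_span_finset_card_eq_spanFinrank (IsNoetherian.noetherian I)
  refine ⟨s.card, fun i => (s.equivFin.symm i : R), hs, ?_⟩
  conv_lhs => rw [← hspan]
  refine congrArg Ideal.span (Set.ext fun x => ⟨fun hx => ⟨s.equivFin ⟨x, hx⟩, ?_⟩, ?_⟩)
  · simp
  · rintro ⟨i, rfl⟩
    exact Subtype.coe_prop _

theorem ker_comp_equiv {P R S : Type u} [CommRing P] [CommRing R] [CommRing S]
    [IsNoetherianRing P] [IsNoetherianRing R] (τ : R →+* S) (e : P ≃+* R) :
    (RingHom.ker (τ.comp e.toRingHom)).spanFinrank = (RingHom.ker τ).spanFinrank := by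
  rw [← RingHom.comap_ker]
  refine le_antisymm ?_ ?_
  · obtain ⟨r, k, hr0, hk⟩ := exists_range (RingHom.ker τ)
    rw [← hr0]
    refine spanFinrank_le_of_range (e.symm ∘ k) ?_
    conv_lhs => rw [hk]
    rw [Set.range_comp, ← Ideal.map_span]
    exact (Ideal.map_symm e).symm
  · obtain ⟨r, k, hr0, hk⟩ := exists_range ((RingHom.ker τ).comap e.toRingHom)
    rw [← hr0]
    refine spanFinrank_le_of_range (e.toRingHom ∘ k) ?_
    rw [Set.range_comp, ← Ideal.map_span, ← hk]
    exact (Ideal.map_comap_of_surjective e.toRingHom e.surjective _).symm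

theorem defect_comp_equiv {P R S : Type u} [CommRing P] [IsRegularLocalRing P] [CommRing R] [IsRegularLocalRing R]
    [CommRing S] (τ : R →+* S) (e : P ≃+* R) : defect (τ.comp e.toRingHom) = defect τ := by
  have h1 : (maximalIdeal P).spanFinrank = (maximalIdeal R).spanFinrank := by
    have h := ringKrullDim_eq_of_ringEquiv e
    rw [ringKrullDim_eq_nat P, ringKrullDim_eq_nat R] at h
    exact_mod_cast h
  rw [defect, defect, h1, ker_comp_equiv]

theorem defect_comp_aux {R S : Type u} [CommRing R] [IsRegularLocalRing R] [CommRing S] [Nontrivial S] (τ : R →+* S) :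
    ∀ (n : ℕ) (P : Type u) [CommRing P] [IsRegularLocalRing P] (π : P →+* R), Function.Surjective π →
      (maximalIdeal P).spanFinrank ≤ n → defect (τ.comp π) = defect τ := by
  intro n
  induction n with
  | zero =>
    intro P _ _ π hπ hn
    have hf := RegLoc6.isField_of_spanFinrank_eq_zero (Nat.le_zero.1 hn)
    letI := hf.toField
    exact defect_comp_equiv τ (RingEquiv.ofBijective π ⟨π.injective, hπ⟩)
  | succ n ih =>
    intro P _ _ π hπ hn
    by_cases hker : RingHom.ker π = ⊥
    · exact defect_comp_equiv τ (RingEquiv.ofBijective π ⟨(RingHom.injective_iff_ker_eq_bot π).2 hker, hπ⟩)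
    obtain ⟨t, htk, ht2⟩ := exists_mem_ker_notMem_sq π hπ hker
    have htm : t ∈ maximalIdeal P := ker_le_maximalIdeal π htk
    obtain ⟨hreg, hdim⟩ := RegLoc6.isRegularLocalRing_quot_and htm ht2
    haveI := hreg
    let q : P →+* P ⧸ Ideal.span {t} := Ideal.Quotient.mk _
    let π1 : P ⧸ Ideal.span {t} →+* R := Ideal.Quotient.lift _ π fun a ha =>
      (Ideal.span_singleton_le_iff_mem _).2 htk ha
    have hπ1 : Function.Surjective π1 := Ideal.Quotient.lift_surjective_of_surjective _ _ hπ
    have hn1 : (maximalIdeal (P ⧸ Ideal.span {t})).spanFinrank ≤ n := by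
      have := RegLoc6.spanFinrank_quot_le htm ht2
      omega
    rw [← ih _ π1 hπ1 hn1, show τ.comp π = (τ.comp π1).comp q from RingHom.ext fun _ => rfl]
    have hkerq : RingHom.ker ((τ.comp π1).comp q) = (RingHom.ker (τ.comp π1)).comap q := (RingHom.comap_ker _ _).symm
    have hts : t ∈ RingHom.ker ((τ.comp π1).comp q) := by
      rw [RingHom.mem_ker]
      show τ (π1 (q t)) = 0
      rw [show π1 (q t) = π t from rfl, show π t = 0 from htk, map_zero]
    have hm : (maximalIdeal P).spanFinrank = (maximalIdeal (P ⧸ Ideal.span {t})).spanFinrank + 1 := by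
      rw [ringKrullDim_eq_nat P, ringKrullDim_eq_nat (P ⧸ Ideal.span {t})] at hdim
      exact_mod_cast hdim.symm
    have hk : (RingHom.ker ((τ.comp π1).comp q)).spanFinrank = (RingHom.ker (τ.comp π1)).spanFinrank + 1 := by
      refine le_antisymm ?_ ?_
      · obtain ⟨r, k, hr0, hk⟩ := exists_range (RingHom.ker (τ.comp π1))
        rw [← hr0]
        choose k' hk' using fun i => Ideal.Quotient.mk_surjective (k i)
        refine spanFinrank_le_of_range (Fin.cons t k') ?_
        have h1 : Set.range k = q '' Set.range k' := by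
          rw [← Set.range_comp]; exact congrArg Set.range (funext fun i => (hk' i).symm)
        rw [hkerq, hk, h1, ← Ideal.map_span, Ideal.comap_map_of_surjective q Ideal.Quotient.mk_surjective,
          ← RingHom.ker_eq_comap_bot, Ideal.mk_ker, Fin.range_cons, Ideal.span_insert, sup_comm]
      · obtain ⟨r, k, hr0, hk⟩ := exists_range (RingHom.ker ((τ.comp π1).comp q))
        rw [← hr0]
        obtain ⟨r', k', hr, hk'⟩ := exists_exchange k (hk ▸ hts) (fun hmem => ht2 (by
          rw [pow_two]
          refine Ideal.mul_mono_right ?_ hmem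
          rw [← hk]
          exact ker_le_maximalIdeal _))
        rw [hr]
        refine Nat.add_le_add_right (spanFinrank_le_of_range (q ∘ k') ?_) 1
        have h1 : (RingHom.ker ((τ.comp π1).comp q)).map q = RingHom.ker (τ.comp π1) := by
          rw [hkerq, Ideal.map_comap_of_surjective q Ideal.Quotient.mk_surjective]
        rw [← h1, hk, hk', Ideal.map_sup, Ideal.map_quotient_self, bot_sup_eq, Ideal.map_span, Set.range_comp]
    rw [defect, defect, hm, hk]
    push_cast
    ring

theorem defect_completion {R A : Type u} [CommRing R] [IsRegularLocalRing R] [CommRing A] [IsLocalRing A]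
    [IsNoetherianRing A] (π : R →+* A) (τ : AdicCompletion (maximalIdeal R) R →+* AdicCompletion (maximalIdeal A) A)
    (hker : RingHom.ker τ = (RingHom.ker π).map (algebraMap R (AdicCompletion (maximalIdeal R) R))) :
    defect τ = defect π := by
  haveI := isRegularLocalRing_adicCompletion R
  have h1 : (maximalIdeal (AdicCompletion (maximalIdeal R) R)).spanFinrank = (maximalIdeal R).spanFinrank := by
    have h := ringKrullDim_adicCompletion R
    rw [ringKrullDim_eq_nat R, ringKrullDim_eq_nat (AdicCompletion (maximalIdeal R) R)] at h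
    exact_mod_cast h
  have h2 : (RingHom.ker τ).spanFinrank = (RingHom.ker π).spanFinrank := by
    refine le_antisymm ?_ ?_
    · rw [hker]
      exact Ideal.spanFinrank_map_le_of_fg _ (IsNoetherian.noetherian _)
    · obtain ⟨r, k, hr0, hk⟩ := exists_range (RingHom.ker τ)
      rw [← hr0]
      obtain ⟨k', hk'⟩ := exists_generators_of_completion (RingHom.ker π) k (hker ▸ hk)
      exact spanFinrank_le_of_range k' hk'
  rw [defect, defect, h1, h2]

theorem defect_indep {R₁ R₂ A : Type u} [CommRing R₁] [CommRing R₂] [CommRing A]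
    [IsRegularLocalRing R₁] [IsRegularLocalRing R₂] [IsLocalRing A] [IsNoetherianRing A]
    (π₁ : R₁ →+* A) (hπ₁ : Function.Surjective π₁) (π₂ : R₂ →+* A) (hπ₂ : Function.Surjective π₂) :
    defect π₁ = defect π₂ := by
  obtain ⟨τ₁, hτ₁, hk₁⟩ := exists_completion_surjection π₁ hπ₁
  obtain ⟨τ₂, hτ₂, hk₂⟩ := exists_completion_surjection π₂ hπ₂
  rw [← defect_completion π₁ τ₁ hk₁, ← defect_completion π₂ τ₂ hk₂]
  haveI := isRegularLocalRing_adicCompletion R₁
  haveI := isRegularLocalRing_adicCompletion R₂
  haveI := isAdicComplete_adicCompletion R₁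
  haveI := isAdicComplete_adicCompletion R₂
  haveI := LC.Canon.isNoetherianRing_completion (R := A)
  obtain ⟨P, _, _, _, hfg, p₁, p₂, hp₁, hp₂, hcomp⟩ := exists_pullback τ₁ hτ₁ τ₂ hτ₂
  obtain ⟨Λ, _, n, g, hΛ, hg⟩ := CohenLib.exists_surjective P hfg
  obtain ⟨_, hreg, -⟩ := CohenLib.isRegular_complete_mvPowerSeries hΛ n
  haveI := hreg
  rw [← defect_comp_aux τ₁ _ _ (p₁.comp g) (hp₁.comp hg) le_rfl,
    ← defect_comp_aux τ₂ _ _ (p₂.comp g) (hp₂.comp hg) le_rfl,
    show τ₁.comp (p₁.comp g) = τ₂.comp (p₂.comp g) by rw [← RingHom.comp_assoc, ← RingHom.comp_assoc, hcomp]]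

end Groth.Agent.VBPnX.CIDefect
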