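import Groth.Agent.QCoh.AlgGen
import Groth.Agent.QCoh.FT
import Mathlib.Topology.Sheaves.SheafCondition.UniqueGluing
import Mathlib.RingTheory.FiniteType

/-!
# The quasi-coherent subalgebra generated by a submodule of finite type
-/

universe u

set_option backward.isDefEq.respectTransparency false
set_option backward.isDefEq.respectTransparency.types false

open CategoryTheory CategoryTheory.Limits AlgebraicGeometry TopologicalSpace Opposite RelSpec
open Groth.Agent.QCoh

namespace Groth.Agent.VBPnX.QSubAlg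

variable {X : Scheme.{u}} (B : QCAlg X) (N : SubMod B.toModule)

theorem rB_rB {U V W : X.Opens} (h : V ≤ U) (h' : W ≤ V) (b : B.presheaf.obj (op U)) :
    rB B h' (rB B h b) = rB B (h'.trans h) b := by
  show (B.presheaf.map _ ≫ B.presheaf.map _).hom b = _
  rw [← Functor.map_comp]
  rfl

theorem rB_self {U : X.Opens} (h : U ≤ U) (b : B.presheaf.obj (op U)) : rB B h b = b := by
  show (B.presheaf.map (𝟙 (op U))).hom b = b
  rw [CategoryTheory.Functor.map_id]; rfl

/-- The sections lying locally in the generated subring. -/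
noncomputable def genLoc (U : X.Opens) : Subring (B.presheaf.obj (op U)) where
  carrier := {s | ∀ x ∈ U, ∃ (P : X.Opens) (hP : P ≤ U), x ∈ P ∧ rB B hP s ∈ genRing B N P}
  zero_mem' := fun x hx => ⟨U, le_rfl, hx, by rw [map_zero]; exact zero_mem _⟩
  one_mem' := fun x hx => ⟨U, le_rfl, hx, by rw [map_one]; exact one_mem _⟩
  add_mem' := fun {a b} ha hb x hx => by
    obtain ⟨P, hP, hxP, h1⟩ := ha x hx
    obtain ⟨Q, hQ, hxQ, h2⟩ := hb x hx
    refine ⟨P ⊓ Q, inf_le_left.trans hP, ⟨hxP, hxQ⟩, ?_⟩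
    rw [map_add]
    refine add_mem ?_ ?_
    · simpa only [rB_rB] using rB_mem_genRing B N (inf_le_left : P ⊓ Q ≤ P) h1
    · simpa only [rB_rB] using rB_mem_genRing B N (inf_le_right : P ⊓ Q ≤ Q) h2
  neg_mem' := fun {a} ha x hx => by
    obtain ⟨P, hP, hxP, h1⟩ := ha x hx
    exact ⟨P, hP, hxP, by rw [map_neg]; exact neg_mem h1⟩
  mul_mem' := fun {a b} ha hb x hx => by
    obtain ⟨P, hP, hxP, h1⟩ := ha x hx
    obtain ⟨Q, hQ, hxQ, h2⟩ := hb x hx
    refine ⟨P ⊓ Q, inf_le_left.trans hP, ⟨hxP, hxQ⟩, ?_⟩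
    rw [map_mul]
    refine mul_mem ?_ ?_
    · simpa only [rB_rB] using rB_mem_genRing B N (inf_le_left : P ⊓ Q ≤ P) h1
    · simpa only [rB_rB] using rB_mem_genRing B N (inf_le_right : P ⊓ Q ≤ Q) h2

theorem genRing_le_genLoc (U : X.Opens) : genRing B N U ≤ genLoc B N U :=
  fun s hs x hx => ⟨U, le_rfl, hx, by rwa [rB_self]⟩

theorem rB_mem_genLoc {U V : X.Opens} (h : V ≤ U) {s} (hs : s ∈ genLoc B N U) :
    rB B h s ∈ genLoc B N V := fun x hx => by
  obtain ⟨P, hP, hxP, h1⟩ := hs x (h hx)
  refine ⟨P ⊓ V, inf_le_right, ⟨hxP, hx⟩, ?_⟩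
  simpa only [rB_rB] using rB_mem_genRing B N (inf_le_left : P ⊓ V ≤ P) h1

/-- Over an affine open, the generated subring is local. -/
theorem genLoc_le_genRing (hN : FTOn N ⊤) {U : X.Opens} (hU : IsAffineOpen U) :
    genLoc B N U ≤ genRing B N U := by
  intro b hb
  let bM : Γ(B.toModule, U) := b
  let I : Ideal Γ(X, U) :=
  { carrier := {a | (B.str.app (op U)).hom a * b ∈ genRing B N U}
    zero_mem' := by
      show (B.str.app (op U)).hom 0 * b ∈ genRing B N U
      rw [map_zero, zero_mul]; exact zero_mem _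
    add_mem' := fun {a c} ha hc => by
      show (B.str.app (op U)).hom (a + c) * b ∈ genRing B N U
      rw [map_add, add_mul]; exact add_mem ha hc
    smul_mem' := fun r a ha => by
      show (B.str.app (op U)).hom (r * a) * b ∈ genRing B N U
      rw [map_mul, mul_assoc]; exact mul_mem (str_mem_genRing B N r) ha }
  have hI : I.radical = ⊤ := by
    refine top_unique ((hU.self_le_iSup_basicOpen_iff (s := (I.radical : Set Γ(X, U)))).1 ?_
      |>.ge.trans (Ideal.span_le.2 subset_rfl))
    intro x hx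
    obtain ⟨P, hP, hxP, hbP⟩ := hb x hx
    obtain ⟨g, hg, hxg⟩ := hU.exists_basicOpen_le ⟨x, hxP⟩ hx
    have h1 := rB_mem_genRing B N hg hbP
    rw [rB_rB] at h1
    obtain ⟨n, c, hc, hcb⟩ := exists_lift_genRing B hN hU g h1
    have h0 : rs B.toModule (X.basicOpen_le g) (g ^ n • bM - (show Γ(B.toModule, U) from c)) = 0 := by
      show rB B (X.basicOpen_le g) ((B.str.app (op U)).hom (g ^ n) * b - c) = 0
      rw [map_sub, map_mul, map_pow, map_pow, rB_str, hcb, sub_self]
    obtain ⟨m, hm⟩ := exists_pow_smul_eq_zero (isQCoh_toModule B) hU g _ h0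
    refine Opens.mem_iSup.2 ⟨⟨g, ⟨m + n, ?_⟩⟩, hxg⟩
    show (B.str.app (op U)).hom (g ^ (m + n)) * b ∈ genRing B N U
    have hm' : (B.str.app (op U)).hom (g ^ m) * ((B.str.app (op U)).hom (g ^ n) * b - c) = 0 := hm
    rw [mul_sub, sub_eq_zero, ← mul_assoc, ← map_mul, ← pow_add] at hm'
    rw [hm']
    exact mul_mem (str_mem_genRing B N _) hc
  have h1 : (1 : Γ(X, U)) ∈ I := (Ideal.eq_top_iff_one _).1 (Ideal.radical_eq_top.1 hI)
  have h2 : (B.str.app (op U)).hom 1 * b ∈ genRing B N U := h1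
  rwa [map_one, one_mul] at h2

/-- The presheaf of the generated subalgebra. -/
noncomputable def presheaf : TopCat.Presheaf CommRingCat.{u} X.carrier where
  obj U := CommRingCat.of (genLoc B N U.unop)
  map {U V} i := CommRingCat.ofHom ((B.presheaf.map i).hom.restrict (genLoc B N U.unop) (genLoc B N V.unop)
    fun s hs => rB_mem_genLoc B N (leOfHom i.unop) hs)
  map_id U := CommRingCat.hom_ext (RingHom.ext fun s => Subtype.ext (by
    show (B.presheaf.map (𝟙 U)).hom s.1 = s.1
    rw [CategoryTheory.Functor.map_id]; rfl))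
  map_comp {U V W} i j := CommRingCat.hom_ext (RingHom.ext fun s => Subtype.ext (by
    show (B.presheaf.map (i ≫ j)).hom s.1 = (B.presheaf.map j).hom ((B.presheaf.map i).hom s.1)
    rw [Functor.map_comp]; rfl))

theorem isSheaf : (presheaf B N).IsSheaf := by
  refine (TopCat.Presheaf.isSheaf_iff_isSheafUniqueGluing (presheaf B N)).2 fun ι U sf hsf => ?_
  obtain ⟨s, hs, huniq⟩ := (TopCat.Presheaf.isSheaf_iff_isSheafUniqueGluing B.presheaf).1 B.isSheaf U
    (fun i => (sf i).1) (fun i j => congrArg Subtype.val (hsf i j))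
  have hmem : s ∈ genLoc B N (iSup U) := fun x hx => by
    obtain ⟨i, hi⟩ := Opens.mem_iSup.1 hx
    obtain ⟨P, hP, hxP, h1⟩ := (sf i).2 x hi
    refine ⟨P, hP.trans (le_iSup U i), hxP, ?_⟩
    have h : rB B (le_iSup U i) s = (sf i).1 := hs i
    rw [← rB_rB B (le_iSup U i) hP, h]
    exact h1
  exact ⟨⟨s, hmem⟩, fun i => Subtype.ext (hs i), fun t ht =>
    Subtype.ext (huniq t.1 fun i => congrArg Subtype.val (ht i))⟩

/-- The structure map of the generated subalgebra. -/
noncomputable def str : X.presheaf ⟶ presheaf B N where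
  app U := CommRingCat.ofHom ((B.str.app U).hom.codRestrict (genLoc B N U.unop)
    fun a => genRing_le_genLoc B N _ (str_mem_genRing B N a))
  naturality U V i := CommRingCat.hom_ext (RingHom.ext fun a => Subtype.ext congr($(B.str.naturality i) a))

theorem isQC (hN : FTOn N ⊤) : IsQC (presheaf B N) (str B N) := by
  intro U hU r
  letI := ((presheaf B N).map (homOfLE (X.basicOpen_le r)).op).hom.toAlgebra
  have hv : ∀ s : (presheaf B N).obj (op U),
      (algebraMap ((presheaf B N).obj (op U)) ((presheaf B N).obj (op (X.basicOpen r))) s).1 =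
        rB B (X.basicOpen_le r) s.1 := fun _ => rfl
  refine (isLocalization_iff _ _).2 ⟨?_, ?_, ?_⟩
  · rintro ⟨_, n, rfl⟩
    rw [map_pow]
    refine IsUnit.pow n ?_
    have hu := (isUnit_rf_basicOpen r).map ((str B N).app (op (X.basicOpen r))).hom
    have e : algebraMap ((presheaf B N).obj (op U)) ((presheaf B N).obj (op (X.basicOpen r)))
        (((str B N).app (op U)).hom r) = ((str B N).app (op (X.basicOpen r))).hom (rf X (X.basicOpen_le r) r) :=
      Subtype.ext (rB_str B _ r)
    rw [e]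
    exact hu
  · rintro ⟨y, hy⟩
    obtain ⟨n, c, hc, hcy⟩ := exists_lift_genRing B hN hU r (genLoc_le_genRing B N hN (hU.basicOpen r) hy)
    refine ⟨(⟨c, genRing_le_genLoc B N U hc⟩, ⟨_, n, rfl⟩), Subtype.ext ?_⟩
    show y * rB B (X.basicOpen_le r) ((B.str.app (op U)).hom r ^ n) = rB B (X.basicOpen_le r) c
    rw [map_pow, rB_str, hcy, mul_comm]
  · intro s t h
    letI := (B.presheaf.map (homOfLE (X.basicOpen_le r)).op).hom.toAlgebra
    haveI := B.isQC U hU r
    obtain ⟨⟨_, n, rfl⟩, hn⟩ := IsLocalization.exists_of_eq (M := Submonoid.powers ((B.str.app (op U)).hom r))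
      (S := B.presheaf.obj (op (X.basicOpen r))) (x := s.1) (y := t.1) (congrArg Subtype.val h)
    exact ⟨⟨_, n, rfl⟩, Subtype.ext hn⟩

/-- The generated subalgebra. -/
noncomputable def subAlg (hN : FTOn N ⊤) : QCAlg X where
  presheaf := presheaf B N
  isSheaf := isSheaf B N
  str := str B N
  isQC := isQC B N hN

/-- Its inclusion. -/
noncomputable def incl (hN : FTOn N ⊤) : subAlg B N hN ⟶ B where
  hom :=
    { app := fun U => CommRingCat.ofHom (genLoc B N U.unop).subtype
      naturality := fun _ _ _ => rfl }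
  comm := rfl

theorem incl_injective (hN : FTOn N ⊤) (V : X.Opens) :
    Function.Injective ((incl B N hN).hom.app (op V)).hom := fun _ _ h => Subtype.ext h

theorem mem_range_incl (hN : FTOn N ⊤) {V : X.Opens} {s : Γ(B.toModule, V)} (hs : s ∈ N.mem V) :
    (show B.presheaf.obj (op V) from s) ∈ Set.range ((incl B N hN).hom.app (op V)).hom :=
  ⟨⟨_, genRing_le_genLoc B N V (Subring.subset_closure (Or.inr hs))⟩, rfl⟩

theorem finiteType (hN : FTOn N ⊤) (V : X.affineOpens) :
    ((subAlg B N hN).str.app (op V.1)).hom.FiniteType := by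
  have hG := isQCoh_toModule B
  haveI := finite_of_isFT (isQCoh_of_ftOn hG hN) (isFT_of_ftOn hG hN) V.2
  obtain ⟨T, hT⟩ := (Module.Finite.fg_top (R := Γ(X, V.1)) (M := Γ(N.toModules, V.1)))
  classical
  have hmem : ∀ t : Γ(N.toModules, V.1),
      (show B.presheaf.obj (op V.1) from N.ι.app V.1 t) ∈ genLoc B N V.1 := fun t =>
    genRing_le_genLoc B N _ (Subring.subset_closure (Or.inr (N.ι_app_mem _ t)))
  letI := ((subAlg B N hN).str.app (op V.1)).hom.toAlgebra
  let g : Γ(N.toModules, V.1) → (subAlg B N hN).presheaf.obj (op V.1) := fun t => ⟨_, hmem t⟩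
  refine ⟨⟨T.image g, eq_top_iff.2 fun b _ => ?_⟩⟩
  let A := Algebra.adjoin Γ(X, V.1) (T.image g : Set ((subAlg B N hN).presheaf.obj (op V.1)))
  suffices key : genRing B N V.1 ≤ A.toSubring.map (genLoc B N V.1).subtype by
    obtain ⟨a, ha, hab⟩ := key (genLoc_le_genRing B N hN V.2 b.2)
    rwa [← Subtype.ext (p := fun x => x ∈ genLoc B N V.1) hab]
  refine Subring.closure_le.2 ?_
  rintro x (⟨a, rfl⟩ | hx)
  · exact ⟨_, A.algebraMap_mem a, rfl⟩
  · obtain ⟨t, rfl⟩ := N.exists_app_eq hx
    refine ⟨g t, ?_, rfl⟩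
    show g t ∈ A
    have ht : t ∈ Submodule.span Γ(X, V.1) (T : Set Γ(N.toModules, V.1)) := hT ▸ Submodule.mem_top
    clear hx
    induction ht using Submodule.span_induction with
    | mem x hx => exact Algebra.subset_adjoin (Finset.mem_image_of_mem g hx)
    | zero =>
      have e : g 0 = 0 := Subtype.ext (map_zero (N.ι.app V.1).hom)
      rw [e]; exact zero_mem _
    | add x y _ _ hx hy =>
      have e : g (x + y) = g x + g y := Subtype.ext (map_add (N.ι.app V.1).hom x y)
      rw [e]; exact add_mem hx hy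
    | smul a x _ hx =>
      have e : g (a • x) = algebraMap Γ(X, V.1) ((subAlg B N hN).presheaf.obj (op V.1)) a * g x := Subtype.ext (ι_app_smul a x)
      rw [e]; exact mul_mem (A.algebraMap_mem a) hx

/-- A section lies in a quasi-coherent subalgebra of finite type. -/
theorem exists_subalgebra_through {U : X.Opens} (hU : IsAffineOpen U) (hs : ExtStep U)
    (b : B.presheaf.obj (op U)) :
    ∃ (B' : QCAlg X) (φ : B' ⟶ B),
      (∀ V : X.Opens, Function.Injective (φ.hom.app (op V)).hom) ∧
      (∀ V : X.affineOpens, (B'.str.app (op (V : X.Opens))).hom.FiniteType) ∧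
      b ∈ Set.range (φ.hom.app (op U)).hom := by
  obtain ⟨N, hN, hb⟩ := exists_ftOn_contains (isQCoh_toModule B) hU hs
    {(show Γ(B.toModule, U) from b)} (Set.finite_singleton _)
  exact ⟨subAlg B N hN, incl B N hN, incl_injective B N hN, finiteType B N hN, mem_range_incl B N hN (hb rfl)⟩

end Groth.Agent.VBPnX.QSubAlg
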