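import Groth.Agent.VBPnX.EulerPn
import Groth.Agent.PnCoh.Finite.SerreVanishing
import Groth.Agent.PnCoh.Finite.Projective
import Groth.Agent.QCoh.OpenSub

/-!
# The Euler characteristic of high twists
-/

set_option autoImplicit false
set_option linter.style.haveILetI false
set_option backward.isDefEq.respectTransparency false
set_option backward.isDefEq.respectTransparency.types false

universe u

open CategoryTheory CategoryTheory.Limits AlgebraicGeometry TopologicalSpace Opposite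
open Groth.Agent.PnCoh Groth.Agent.PnCoh.Finite

noncomputable section

namespace Groth.Agent.VBPnX.EulerPn

variable {R A : Type u} [CommRing R] [CommRing A] [Algebra R A]
  {𝒜 : ℕ → Submodule R A} [GradedAlgebra 𝒜] {κ : Type u} {f : κ → A}
  [(Proj 𝒜).Over (Spec (CommRingCat.of R))] [IsLocallyNoetherian (Proj 𝒜)] {r : ℕ}
  {X : Scheme.{u}} (i : X ⟶ Proj 𝒜) [IsClosedImmersion i] [X.Over (Spec (CommRingCat.of R))]

/-- High twists have only global sections. -/
theorem exists_chiUpTo_eq_hLen [Finite κ] (hf : ∀ j, f j ∈ 𝒜 1) (hcov : ⨆ j, D 𝒜 (f j) = ⊤)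
    (hvan : ∀ M : (Proj 𝒜).Modules, Coh.IsQCoh M → ∀ q, r + 1 ≤ q → Subsingleton (Coh.HH (Proj 𝒜) M q))
    (htw : ∀ q, 0 < q → ∃ d₀ : ℤ, ∀ d, d₀ ≤ d →
      Subsingleton (Coh.HH (Proj 𝒜) (Twist.twist 𝒜 d) q))
    (hi : i ≫ (Proj 𝒜 ↘ Spec (CommRingCat.of R)) = X ↘ Spec (CommRingCat.of R))
    (F : X.Modules) (hF : Coh.IsCoh F) : ∃ N : ℤ, ∀ n : ℤ, N ≤ n →
      chiUpTo R r (CohB1.tensorMod F ((Scheme.Modules.pullback i).obj (Twist.twist 𝒜 n))) =
        (hLen R (CohB1.tensorMod F ((Scheme.Modules.pullback i).obj (Twist.twist 𝒜 n))) 0 : ℤ) := by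
  have hnoeth : ∀ j, IsNoetherianRing Γ(Proj 𝒜, D 𝒜 (f j)) := fun j =>
    IsLocallyNoetherian.component_noetherian ⟨_, isAffineOpen_D hf j⟩
  have hgood := good_of_isCoh (f := f) hf (QCoh.isCoh_pushforward_finite i hF)
  have key : ∀ q, 0 < q → ∃ d₀ : ℤ, ∀ d, d₀ ≤ d → Subsingleton (Coh.HH (Proj 𝒜)
      ((DCoh.tensorBi.flip.obj (Twist.twist 𝒜 d)).obj ((Scheme.Modules.pushforward i).obj F)) q) :=
    fun q hq => exists_vanishing hf hcov hnoeth (r + 1) hvan htw _ hgood q hq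
  choose d₀ hd₀ using key
  refine ⟨∑ q ∈ (Finset.Icc 1 r).attach, |d₀ q.1 (Finset.mem_Icc.1 q.2).1|, fun n hn => ?_⟩
  rw [chiUpTo, Finset.sum_range_succ', Finset.sum_eq_zero, zero_add, pow_zero, one_mul]
  intro q hq
  have hq' : q + 1 ∈ Finset.Icc 1 r := by
    rw [Finset.mem_range] at hq; exact Finset.mem_Icc.2 ⟨by omega, by omega⟩
  have hle : d₀ (q + 1) (Nat.succ_pos q) ≤ n := le_trans (le_abs_self _) (le_trans
    (Finset.single_le_sum (f := fun p : {p // p ∈ Finset.Icc 1 r} => |d₀ p.1 (Finset.mem_Icc.1 p.2).1|)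
      (fun p _ => abs_nonneg _) (Finset.mem_attach _ ⟨q + 1, hq'⟩)) hn)
  have h1 : Subsingleton (Coh.HH X
      (CohB1.tensorMod F ((Scheme.Modules.pullback i).obj (Twist.twist 𝒜 n))) (q + 1)) := by
    have hqc : Coh.IsQCoh (CohB1.tensorMod F ((Scheme.Modules.pullback i).obj (Twist.twist 𝒜 n))) :=
      KFlatLib.isQCoh_tensor hF.1 (QCoh.isQCoh_pullback i (isQCoh_twist f hf hcov n))
    obtain ⟨e⟩ := exists_linearEquiv_push R i hi hqc (q + 1)
    exact e.toEquiv.subsingleton_congr.2 (QCoh.subsingleton_HH_of_iso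
      (@asIso _ _ _ _ _ (KFlatLib.isIso_projMod_of_isClosedImmersion i F (Twist.twist 𝒜 n))) (q + 1)
      (hd₀ (q + 1) (Nat.succ_pos q) n hle))
  simp [hLen, Module.length_eq_zero]

end Groth.Agent.VBPnX.EulerPn
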