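import Groth.Prelude.Def_CechOX
import Groth.Agent.SiteBase.CechContract
import Groth.Agent.QCoh.Ab.CechBridge
import Groth.Agent.RelTildeX.SheafCrit
import Mathlib

/-!
# The Čech complex of sheaves of a covering is a resolution
-/

set_option autoImplicit false
set_option linter.style.haveILetI false
set_option maxHeartbeats 800000
set_option backward.isDefEq.respectTransparency false
set_option backward.isDefEq.respectTransparency.types false

universe w v v' u u'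

open CategoryTheory CategoryTheory.Limits AlgebraicGeometry TopologicalSpace Opposite Simplicial

noncomputable section

namespace Groth.Agent.VBPnX.CechShRes

section General

variable {C : Type u} [Category.{u} C] [HasFiniteProducts C] {A : Type u'} [Category.{v} A] [Preadditive A]
  [HasProducts.{u} A] {ι : Type u} (U : ι → C) (P : Cᵒᵖ ⥤ A)

/-- The projections of the Čech complex. -/
abbrev cπ {p : ℕ} (σ : Fin (p + 1) → ι) : ((cechComplexFunctor U).obj P).X p ⟶ P.obj (op (∏ᶜ (U ∘ σ))) :=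
  Pi.π (fun σ : Fin (p + 1) → ι => P.obj (op (∏ᶜ (U ∘ σ)))) σ

/-- The face of a tuple. -/
abbrev face {p : ℕ} (σ : Fin (p + 2) → ι) (a : Fin (p + 2)) :
    (∏ᶜ (U ∘ σ) : C) ⟶ ∏ᶜ (U ∘ fun b => σ (a.succAbove b)) :=
  Pi.lift fun b => Pi.π (U ∘ σ) (a.succAbove b)

theorem cechD_π {p : ℕ} (σ : Fin (p + 2) → ι) :
    ((cechComplexFunctor U).obj P).d p (p + 1) ≫ cπ U P σ =
      ∑ a : Fin (p + 2), (-1 : ℤ) ^ (a : ℕ) • (cπ U P (fun b => σ (a.succAbove b)) ≫ P.map (face U σ a).op) := by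
  have e : ((cechComplexFunctor U).obj P).d p (p + 1) =
      AlgebraicTopology.AlternatingCofaceMapComplex.objD
        ((FormalCoproduct.cosimplicialObjectFunctor (FormalCoproduct.mk _ U).cech).obj P) p := by
    simp [cechComplexFunctor, FormalCoproduct.cochainComplexFunctor,
      AlgebraicTopology.alternatingCofaceMapComplex,
      AlgebraicTopology.AlternatingCofaceMapComplex.obj]
  rw [e, AlgebraicTopology.AlternatingCofaceMapComplex.objD]
  refine (Preadditive.sum_comp _ _ _).trans (Finset.sum_congr rfl fun a _ => ?_)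
  rw [Preadditive.zsmul_comp]
  exact congrArg (fun z => (-1 : ℤ) ^ (a : ℕ) • z) (Pi.lift_π _ σ)

variable {B : Type u} {B' : Type u'} [Category.{u} B'] [Preadditive B'] [HasProducts.{u} B']
  (G : A ⥤ B') [G.Additive] [∀ p : ℕ, PreservesLimitsOfShape (Discrete (Fin (p + 1) → ι)) G]

/-- Product-preserving additive functors commute with the Čech complex. -/
def mapIso : (G.mapHomologicalComplex (ComplexShape.up ℕ)).obj ((cechComplexFunctor U).obj P) ≅
    (cechComplexFunctor U).obj (P ⋙ G) :=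
  HomologicalComplex.Hom.isoOfComponents
    (fun p => PreservesProduct.iso G (fun σ : Fin (p + 1) → ι => P.obj (op (∏ᶜ (U ∘ σ))))) (by
      rintro p q (rfl : p + 1 = q)
      refine Pi.hom_ext _ _ fun σ => ?_
      have hπ : ∀ (r : ℕ) (τ : Fin (r + 1) → ι),
          (PreservesProduct.iso G (fun σ : Fin (r + 1) → ι => P.obj (op (∏ᶜ (U ∘ σ))))).hom ≫ cπ U (P ⋙ G) τ =
            G.map (cπ U P τ) := fun r τ => piComparison_comp_π G _ τ
      rw [Category.assoc, Category.assoc]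
      erw [cechD_π U (P ⋙ G) σ, hπ (p + 1) σ]
      rw [Preadditive.comp_sum]
      refine Eq.trans ?_ (G.map_comp _ _)
      rw [cechD_π U P σ, G.map_sum]
      refine Finset.sum_congr rfl fun a _ => ?_
      rw [Preadditive.comp_zsmul, G.map_zsmul, G.map_comp, ← Category.assoc, hπ]
      rfl)

end General

section Acyclic

open Groth.Agent.QCoh.Ab

variable {T : TopCat.{u}} (P : TopCat.Presheaf AddCommGrpCat.{u} T) {ι : Type u} (U : ι → Opens T)

/-- A presheaf insensitive to intersecting with a member of the family has vanishing Čech cohomology. -/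
theorem acyclic_of_bijective_res (j : ι)
    (hP : ∀ V : Opens T, Function.Bijective (P.map (homOfLE (inf_le_left : V ⊓ U j ≤ V)).op)) :
    Acyclic P U := by
  let U' : ι → Opens T := fun k => U k ⊓ U j
  have hj : U' j = iSup U' := le_antisymm (le_iSup U' j) (iSup_le fun k => le_inf inf_le_right inf_le_right)
  have hac : Acyclic P U' := (exactAt_iff_acyclic P U').1 fun p => by
    rw [HomologicalComplex.exactAt_iff_isZero_homology]
    refine IsZero.of_iso ?_ ((CechContract.equiv P U' j hj).toHomologyIso (p + 1)).symm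
    exact HomologicalComplex.isZero_single_obj_homology (ComplexShape.up ℕ) 0 _ (p + 1) (Nat.succ_ne_zero p)
  intro p c hc hd
  have hle : ∀ {r : ℕ} {σ : Fin r → ι} {V : Opens T}, Le U' σ V → Le U σ V := fun h a => (h a).trans inf_le_left
  have hle' : ∀ {r : ℕ} {σ : Fin r → ι} {V : Opens T}, Le U σ V → Le U' σ (V ⊓ U j) := fun h a =>
    le_inf (inf_le_left.trans (h a)) inf_le_right
  obtain ⟨b, hbn, hb⟩ := hac p (fun σ V => c σ ⟨V.1, hle V.2⟩)
    (fun σ W W' h h' i => hc σ W W' (hle h) (hle h') i) (funext₂ fun σ V => by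
      exact congrFun (congrFun hd σ) ⟨V.1, hle V.2⟩)
  choose e he using fun (σ : Fin (p + 1) → ι) (V : {W : Opens T // Le U σ W}) =>
    (hP V.1).2 (b σ ⟨V.1 ⊓ U j, hle' V.2⟩)
  have hen : IsNatural (P := P) (U := U) e := by
    intro σ W W' h h' i
    refine (hP W').1 ?_
    refine Eq.trans ?_ (he σ ⟨W', h'⟩).symm
    rw [map_map'' P i (homOfLE inf_le_left) ((homOfLE inf_le_left) ≫ i),
      ← map_map'' P (homOfLE inf_le_left) (homOfLE (inf_le_inf_right (U j) (leOfHom i))) ((homOfLE inf_le_left) ≫ i)]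
    refine (congrArg (P.map _) (he σ ⟨W, h⟩)).trans ?_
    exact hbn σ _ _ _ _ _
  refine ⟨e, hen, funext₂ fun σ V => (hP V.1).1 ?_⟩
  rw [hc σ V.1 (V.1 ⊓ U j) V.2 (fun a => inf_le_left.trans (V.2 a)) (homOfLE inf_le_left)]
  refine Eq.trans ?_ (congrFun (congrFun hb σ) ⟨V.1 ⊓ U j, hle' V.2⟩)
  show P.map _ (d e σ V) = d b σ ⟨V.1 ⊓ U j, hle' V.2⟩
  simp only [QCoh.Ab.d, map_sum, map_zsmul]
  exact Finset.sum_congr rfl fun a _ => congrArg (fun z => (-1 : ℤ) ^ (a : ℕ) • z) (he _ ⟨V.1, _⟩)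

end Acyclic

variable {X : Scheme.{u}} {ι : Type u} (𝒰 : ι → X.Opens) (F : X.Modules)

/-- Sections over an open. -/
def sec (W : X.Opens) : X.Modules ⥤ AddCommGrpCat.{u} :=
  SheafOfModules.forget X.ringCatSheaf ⋙ PresheafOfModules.evaluation X.ringCatSheaf.obj (op W) ⋙
    forget₂ _ AddCommGrpCat.{u}

instance (W : X.Opens) : (sec W).Additive where map_add := rfl

instance (W : X.Opens) : PreservesLimitsOfSize.{u, u} (sec W) := by
  have : PreservesLimitsOfSize.{u, u} (SheafOfModules.forget.{u} X.ringCatSheaf) :=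
    SheafOfModules.forgetPreservesLimitsOfSize.{u} _
  have : PreservesLimitsOfSize.{u, u} (forget₂ (ModuleCat.{u} (X.ringCatSheaf.obj.obj (op W))) AddCommGrpCat.{u}) :=
    ModuleCat.forget₂AddCommGroup_preservesLimitsOfSize.{u, u}
  unfold sec; infer_instance

theorem exactAt_sections (F : X.Modules) {W : X.Opens} {j : ι} (hW : W ≤ 𝒰 j) (p : ℕ) :
    (((sec W).mapHomologicalComplex (ComplexShape.up ℕ)).obj ((CechOX.cechSh 𝒰).obj F)).ExactAt (p + 1) := by
  refine HomologicalComplex.ExactAt.of_iso ?_ (mapIso 𝒰 (CechOX.pushRestrFam.flip.obj F) (sec W)).symm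
  refine ((QCoh.Ab.exactAt_iff_acyclic _ _).2 (acyclic_of_bijective_res _ 𝒰 j fun (V : X.Opens) => ?_)) p
  show Function.Bijective (F.presheaf.map (homOfLE (CechOX.image_preimage_mono (inf_le_left : V ⊓ 𝒰 j ≤ V) W)).op)
  have e : (V ⊓ 𝒰 j).ι ''ᵁ ((V ⊓ 𝒰 j).ι ⁻¹ᵁ W) = V.ι ''ᵁ (V.ι ⁻¹ᵁ W) := by
    rw [Scheme.Hom.image_preimage_eq_opensRange_inf, Scheme.Hom.image_preimage_eq_opensRange_inf,
      Scheme.Opens.opensRange_ι, Scheme.Opens.opensRange_ι, inf_assoc, inf_eq_right.2 hW]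
  rw [Subsingleton.elim (homOfLE (CechOX.image_preimage_mono (inf_le_left : V ⊓ 𝒰 j ≤ V) W)) (eqToHom e)]
  exact ConcreteCategory.bijective_of_isIso _

theorem isZero_homology (h𝒰 : ⨆ i, 𝒰 i = ⊤) (p : ℕ) :
    IsZero (((CechOX.cechSh 𝒰).obj F).homology (p + 1)) := by
  rw [← HomologicalComplex.exactAt_iff_isZero_homology,
    HomologicalComplex.exactAt_iff' _ p (p + 1) (p + 2) (by simp) (by simp)]
  refine RelTildeX.exact_of_locally _ fun U s hs x hx => ?_
  obtain ⟨j, hj⟩ := Opens.mem_iSup.1 (h𝒰.ge (Set.mem_univ x))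
  have h := exactAt_sections 𝒰 F (inf_le_right : U ⊓ 𝒰 j ≤ 𝒰 j) p
  rw [HomologicalComplex.exactAt_iff' _ p (p + 1) (p + 2) (by simp) (by simp), ShortComplex.ab_exact_iff] at h
  refine ⟨U ⊓ 𝒰 j, inf_le_left, ⟨hx, hj⟩, ?_⟩
  have hmz := map_zero ((((CechOX.cechSh 𝒰).obj F).X (p + 2)).presheaf.map (homOfLE (inf_le_left : U ⊓ 𝒰 j ≤ U)).op).hom
  refine h ((((CechOX.cechSh 𝒰).obj F).X (p + 1)).presheaf.map (homOfLE inf_le_left).op s) ?_
  show Scheme.Modules.Hom.app (((CechOX.cechSh 𝒰).obj F).d (p + 1) (p + 2)) (U ⊓ 𝒰 j) _ = 0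
  refine (ConcreteCategory.congr_hom
    ((Scheme.Modules.Hom.mapPresheaf (((CechOX.cechSh 𝒰).obj F).d (p + 1) (p + 2))).naturality
      (homOfLE inf_le_left).op) s).trans ?_
  exact (congrArg _ hs).trans hmz

theorem opens_prod_le {p : ℕ} (σ : Fin (p + 1) → ι) (a : Fin (p + 1)) : (∏ᶜ (𝒰 ∘ σ) : X.Opens) ≤ 𝒰 (σ a) :=
  leOfHom (Pi.π (𝒰 ∘ σ) a)

theorem le_opens_prod {p : ℕ} {σ : Fin (p + 1) → ι} {W : X.Opens} (h : ∀ a, W ≤ 𝒰 (σ a)) : W ≤ ∏ᶜ (𝒰 ∘ σ) :=
  leOfHom (Pi.lift fun a => homOfLE (h a) : W ⟶ ∏ᶜ (𝒰 ∘ σ))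

theorem aug_π (i : Fin 1 → ι) :
    CechOX.cechShAug 𝒰 F ≫ cπ 𝒰 (CechOX.pushRestrFam.flip.obj F) i =
      (Scheme.Modules.restrictAdjunction (∏ᶜ (𝒰 ∘ i) : X.Opens).ι).unit.app F :=
  Pi.lift_π _ i

theorem unit_map {A B : X.Opens} (g : B ⟶ A) :
    (Scheme.Modules.restrictAdjunction A.ι).unit.app F ≫ (CechOX.pushRestrFam.flip.obj F).map g.op =
      (Scheme.Modules.restrictAdjunction B.ι).unit.app F := by
  refine Scheme.Modules.hom_ext _ _ fun W => AddCommGrpCat.hom_ext (AddMonoidHom.ext fun s => ?_)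
  show F.presheaf.map (homOfLE (CechOX.image_preimage_mono (leOfHom g) W)).op
    (F.presheaf.map (homOfLE (A.ι.image_preimage_le W)).op s) = F.presheaf.map (homOfLE (B.ι.image_preimage_le W)).op s
  exact Groth.Agent.QCoh.Ab.map_map'' (X := X.toPresheafedSpace.carrier) F.presheaf _ _ _ s

theorem aug_d : CechOX.cechShAug 𝒰 F ≫ ((CechOX.cechSh 𝒰).obj F).d 0 1 = 0 := by
  refine Pi.hom_ext _ _ fun σ => ?_
  rw [zero_comp, Category.assoc]
  erw [cechD_π 𝒰 (CechOX.pushRestrFam.flip.obj F) σ]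
  rw [Preadditive.comp_sum, Fin.sum_univ_two]
  simp only [Fin.val_zero, pow_zero, one_smul, Fin.val_one, pow_one, neg_smul]
  rw [Preadditive.comp_neg, ← sub_eq_add_neg, sub_eq_zero, ← Category.assoc, ← Category.assoc]
  erw [aug_π, aug_π]
  exact (unit_map F _).trans (unit_map F _).symm

theorem bijective_res {W : X.Opens} {i : Fin 1 → ι} (hW : W ≤ 𝒰 (i 0)) :
    Function.Bijective (((Scheme.Modules.restrictAdjunction (∏ᶜ (𝒰 ∘ i) : X.Opens).ι).unit.app F).app W) := by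
  rw [Scheme.Modules.restrictAdjunction_unit_app_app]
  have e : (∏ᶜ (𝒰 ∘ i) : X.Opens).ι ''ᵁ ((∏ᶜ (𝒰 ∘ i) : X.Opens).ι ⁻¹ᵁ W) = W := by
    rw [Scheme.Hom.image_preimage_eq_opensRange_inf, Scheme.Opens.opensRange_ι, inf_eq_right]
    exact le_opens_prod 𝒰 fun a => by rw [show a = 0 from Fin.ext (by omega)]; exact hW
  rw [Subsingleton.elim (homOfLE ((∏ᶜ (𝒰 ∘ i) : X.Opens).ι.image_preimage_le W)) (eqToHom e)]
  exact ConcreteCategory.bijective_of_isIso _

theorem mono_aug (h𝒰 : ⨆ i, 𝒰 i = ⊤) : Mono (CechOX.cechShAug 𝒰 F) := by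
  refine Preadditive.mono_of_cancel_zero _ fun {Z} g hg => ?_
  refine Scheme.Modules.hom_ext _ _ fun W => AddCommGrpCat.hom_ext (AddMonoidHom.ext fun z => ?_)
  refine QCoh.eq_zero_of_locally W (g.app W z) fun x hx => ?_
  obtain ⟨j, hj⟩ := Opens.mem_iSup.1 (h𝒰.ge (Set.mem_univ x))
  refine ⟨W ⊓ 𝒰 j, homOfLE inf_le_left, ⟨hx, hj⟩, ?_⟩
  refine (bijective_res 𝒰 F (i := fun _ => j) inf_le_right).1 ?_
  rw [map_zero, ← aug_π 𝒰 F (fun _ => j)]
  have h0 : ∀ z', g.app (W ⊓ 𝒰 j) z' ∈ AddMonoidHom.ker ((CechOX.cechShAug 𝒰 F).app (W ⊓ 𝒰 j)).hom := fun z' =>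
    congr(($hg).app (W ⊓ 𝒰 j) z')
  have h1 : F.presheaf.map (homOfLE inf_le_left).op (g.app W z) =
      g.app (W ⊓ 𝒰 j) (Z.presheaf.map (homOfLE inf_le_left).op z) :=
    (ConcreteCategory.congr_hom ((Scheme.Modules.Hom.mapPresheaf g).naturality (homOfLE inf_le_left).op) z).symm
  rw [h1, Scheme.Modules.Hom.comp_app, ConcreteCategory.comp_apply]
  exact (congrArg _ (h0 _)).trans (map_zero _)

theorem exact_aug (h𝒰 : ⨆ i, 𝒰 i = ⊤) :
    (ShortComplex.mk (CechOX.cechShAug 𝒰 F) (((CechOX.cechSh 𝒰).obj F).d 0 1) (aug_d 𝒰 F)).Exact := by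
  refine RelTildeX.exact_of_locally _ fun U s hs x hx => ?_
  obtain ⟨j, hj⟩ := Opens.mem_iSup.1 (h𝒰.ge (Set.mem_univ x))
  let V := U ⊓ 𝒰 j
  let P := CechOX.pushRestrFam.flip.obj F
  let s' : Γ(((CechOX.cechSh 𝒰).obj F).X 0, V) :=
    (((CechOX.cechSh 𝒰).obj F).X 0).presheaf.map (homOfLE inf_le_left).op s
  have hs' : Scheme.Modules.Hom.app (((CechOX.cechSh 𝒰).obj F).d 0 1) V s' = 0 := by
    refine (ConcreteCategory.congr_hom
      ((Scheme.Modules.Hom.mapPresheaf (((CechOX.cechSh 𝒰).obj F).d 0 1)).naturality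
        (homOfLE inf_le_left).op) s).trans ?_
    exact (congrArg _ hs).trans (map_zero ((((CechOX.cechSh 𝒰).obj F).X 1).presheaf.map (homOfLE (inf_le_left : V ≤ U)).op).hom)
  obtain ⟨t, ht⟩ := (bijective_res 𝒰 F (i := fun _ => j) (inf_le_right : V ≤ 𝒰 j)).2
    ((cπ 𝒰 P (fun _ => j)).app V s')
  refine ⟨V, inf_le_left, ⟨hx, hj⟩, t, ?_⟩
  have hinj : ∀ a b : Γ(((CechOX.cechSh 𝒰).obj F).X 0, V),
      (∀ i : Fin 1 → ι, (cπ 𝒰 P i).app V a = (cπ 𝒰 P i).app V b) → a = b := by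
    intro a b h
    refine (Concrete.productEquiv.{u} (fun i : Fin 1 → ι => (sec V).obj (P.obj (op (∏ᶜ (𝒰 ∘ i))))) |>.injective.comp
      (ConcreteCategory.bijective_of_isIso (PreservesProduct.iso (sec V)
        (fun i : Fin 1 → ι => P.obj (op (∏ᶜ (𝒰 ∘ i))))).hom).1) (funext fun i => ?_)
    simp only [Function.comp_apply, Concrete.productEquiv_apply_apply]
    rw [← ConcreteCategory.comp_apply, ← ConcreteCategory.comp_apply]
    erw [piComparison_comp_π]
    exact h i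
  refine hinj _ _ fun i => ?_
  have ha : (cπ 𝒰 P i).app V ((CechOX.cechShAug 𝒰 F).app V t) =
      ((Scheme.Modules.restrictAdjunction (∏ᶜ (𝒰 ∘ i) : X.Opens).ι).unit.app F).app V t := by
    rw [← aug_π 𝒰 F i]
    rfl
  refine ha.trans ?_
  let τ : Fin 2 → ι := ![j, i 0]
  have e0 : (fun b : Fin 1 => τ ((0 : Fin 2).succAbove b)) = i := funext fun b => by
    rw [Subsingleton.elim b 0]; rfl
  have e1 : (fun b : Fin 1 => τ ((1 : Fin 2).succAbove b)) = fun _ => j := funext fun b => by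
    rw [Subsingleton.elim b 0]; rfl
  have hd := congr(($(cechD_π 𝒰 P τ)).app V s')
  rw [Fin.sum_univ_two] at hd
  simp only [Fin.val_zero, pow_zero, one_smul, Fin.val_one, pow_one, neg_smul] at hd
  have hd0 : (P.map (face 𝒰 τ 0).op).app V ((cπ 𝒰 P (fun b => τ ((0 : Fin 2).succAbove b))).app V s') =
      (P.map (face 𝒰 τ 1).op).app V ((cπ 𝒰 P (fun b => τ ((1 : Fin 2).succAbove b))).app V s') := by
    rw [← sub_eq_zero, sub_eq_add_neg]
    refine hd.symm.trans ?_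
    show (cπ 𝒰 P τ).app V (Scheme.Modules.Hom.app (((CechOX.cechSh 𝒰).obj F).d 0 1) V s') = 0
    rw [hs', map_zero]
  -- restrict along the isomorphism `V ⊓ (U_j ⊓ U_k) = V ⊓ U_k`
  have hiso : ∀ (k : Fin 1 → ι) (hk : k = i) (g : (∏ᶜ (𝒰 ∘ τ) : X.Opens) ⟶ ∏ᶜ (𝒰 ∘ k)),
      Function.Injective ((P.map g.op).app V) := by
    rintro k rfl g
    show Function.Injective (F.presheaf.map (homOfLE (CechOX.image_preimage_mono (leOfHom g) V)).op)
    have e : (∏ᶜ (𝒰 ∘ τ) : X.Opens).ι ''ᵁ ((∏ᶜ (𝒰 ∘ τ) : X.Opens).ι ⁻¹ᵁ V) =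
        (∏ᶜ (𝒰 ∘ k) : X.Opens).ι ''ᵁ ((∏ᶜ (𝒰 ∘ k) : X.Opens).ι ⁻¹ᵁ V) := by
      refine le_antisymm (CechOX.image_preimage_mono (leOfHom g) V) ?_
      rw [Scheme.Hom.image_preimage_eq_opensRange_inf, Scheme.Hom.image_preimage_eq_opensRange_inf,
        Scheme.Opens.opensRange_ι, Scheme.Opens.opensRange_ι]
      refine le_inf (le_opens_prod 𝒰 fun a => ?_) inf_le_right
      fin_cases a
      · exact inf_le_right.trans inf_le_right
      · exact inf_le_left.trans (opens_prod_le 𝒰 k 0)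
    rw [Subsingleton.elim (homOfLE (CechOX.image_preimage_mono (leOfHom g) V)) (eqToHom e)]
    exact (ConcreteCategory.bijective_of_isIso _).1
  clear_value τ
  revert hd0
  revert hiso
  generalize face 𝒰 τ 0 = g0
  generalize face 𝒰 τ 1 = g1
  revert g0 g1
  generalize (fun b : Fin 1 => τ ((0 : Fin 2).succAbove b)) = i0 at e0
  generalize (fun b : Fin 1 => τ ((1 : Fin 2).succAbove b)) = i1 at e1
  subst e0
  subst e1
  intro g0 g1 hiso hd0
  refine hiso i0 rfl g0 ?_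
  refine Eq.trans ?_ hd0.symm
  rw [← ht]
  exact (congr(($(unit_map F g0)).app V t)).trans (congr(($(unit_map F g1)).app V t)).symm

end Groth.Agent.VBPnX.CechShRes
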