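import Groth.Agent.VBPnX.EssExt
import Groth.Agent.VBPnX.InjSlim.ExtZero
import Groth.Agent.VBPnX.InjSlim.Tilde

/-!
# Injective quasi-coherent modules on locally Noetherian schemes

An injective object of `QCoh X` is injective as an `O_X`-module: its injective hull in all modules is
quasi-coherent, being locally a direct summand of an injective quasi-coherent module.
-/

set_option autoImplicit false
set_option linter.style.haveILetI false
set_option backward.isDefEq.respectTransparency false
set_option backward.isDefEq.respectTransparency.types false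

universe u

open CategoryTheory CategoryTheory.Limits AlgebraicGeometry TopologicalSpace Groth.Agent.VBPnX.InjSlim

namespace Groth.Agent.VBPnX.InjQCohLN

variable {X : Scheme.{u}}

/-- Essential extensions of modules restrict to essential extensions on opens. -/
theorem isEss_restrict (U : X.Opens) {A B : X.Modules} {f : A ⟶ B} (hf : EssExt.IsEss f) :
    EssExt.IsEss ((Scheme.Modules.restrictFunctor U.ι).map f) := by
  haveI := hf.mono
  let R := Scheme.Modules.restrictFunctor U.ι
  refine ⟨inferInstance, fun {Z} g hg => ?_⟩
  let adj := lshAdj U.ι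
  let m : (lsh U.ι).obj (kernel g) ⟶ B := (adj.homEquiv _ _).symm (kernel.ι g)
  have hm : adj.unit.app (kernel g) ≫ R.map m = kernel.ι g :=
    (adj.homEquiv_unit _ _ _).symm.trans ((adj.homEquiv _ _).apply_symm_apply _)
  let π := cokernel.π m
  have hfπ : Mono (f ≫ π) := by
    refine Preadditive.mono_of_cancel_zero _ fun {L} x hx => eq_zero_of_stalk x fun p => ?_
    let Φ := DerSch.stalkFunctor X p
    by_cases hp : p ∈ U
    · refine stalk_zero_of_restrict U x ?_ p hp
      haveI : IsIso (adj.unit.app (kernel g)) := inferInstance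
      have hRm : R.map m ≫ g = 0 := by
        rw [← cancel_epi (adj.unit.app (kernel g)), ← Category.assoc, hm, kernel.condition, comp_zero]
      haveI := hg
      have h1 : R.map x ≫ R.map f ≫ R.map π = 0 := by
        rw [← Functor.map_comp, ← Functor.map_comp, hx, Functor.map_zero]
      haveI : PreservesColimitsOfSize.{0, 0} R :=
        (Scheme.Modules.restrictAdjunction U.ι).leftAdjoint_preservesColimits
      obtain ⟨g', hg'⟩ := CokernelCofork.IsColimit.desc'
        (CokernelCofork.mapIsColimit _ (cokernelIsCokernel m) R) g hRm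
      change R.map π ≫ g' = g at hg'
      rw [← cancel_mono (R.map f ≫ g), zero_comp, ← hg']
      simp only [← Category.assoc] at h1 ⊢
      rw [h1, zero_comp]
    · have hz : IsZero (Φ.obj ((lsh U.ι).obj (kernel g))) :=
        isZero_stalk_lsh U.ι p (by simpa using hp) _
      haveI : IsIso (Φ.map π) := by
        haveI : PreservesFiniteColimits Φ := inferInstance
        have := (CokernelCofork.mapIsColimit _ (cokernelIsCokernel m) Φ)
        exact CokernelCofork.IsColimit.isIso_π _ this (hz.eq_of_src _ _)
      haveI : Mono (Φ.map f) := inferInstance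
      rw [← cancel_mono (Φ.map f), ← cancel_mono (Φ.map π), zero_comp, zero_comp, ← Functor.map_comp,
        ← Functor.map_comp, Category.assoc, hx, Functor.map_zero]
  haveI : Mono π := hf.mono_of_comp π hfπ
  have hm0 : m = 0 := zero_of_comp_mono π (cokernel.condition m)
  rw [hm0, Functor.map_zero, comp_zero] at hm
  exact Preadditive.mono_of_kernel_iso_zero (IsZero.isoZero ((IsZero.iff_id_eq_zero _).2
    (by rw [← cancel_mono (kernel.ι g), Category.id_comp, zero_comp, ← hm])))

/-- A retract of a quasi-coherent module is quasi-coherent. -/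
theorem isQCoh_of_retract {M T : X.Modules} (hT : Coh.IsQCoh T) (t : M ⟶ T) (r : T ⟶ M)
    (htr : t ≫ r = 𝟙 M) : Coh.IsQCoh M := by
  let e : kernel (𝟙 T - r ≫ t) ≅ M :=
    { hom := kernel.ι _ ≫ r
      inv := kernel.lift _ t (by
        rw [Preadditive.comp_sub, Category.comp_id, reassoc_of% htr, sub_self])
      hom_inv_id := by
        rw [← cancel_mono (kernel.ι (𝟙 T - r ≫ t)), Category.assoc, kernel.lift_ι, Category.id_comp,
          Category.assoc]
        have h := kernel.condition (𝟙 T - r ≫ t)
        rw [Preadditive.comp_sub, Category.comp_id, sub_eq_zero] at h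
        exact h.symm
      inv_hom_id := by rw [← Category.assoc, kernel.lift_ι, htr] }
  exact (QCoh.isQCoh_iff_iso e).1 (QCoh.isQCoh_kernel hT hT _)

/-- A quasi-coherent module on a Noetherian affine scheme embeds into an injective quasi-coherent one. -/
theorem exists_mono_injective {U : X.Opens} (hU : IsAffineOpen U) [IsNoetherianRing Γ(X, U)]
    {M : (U : Scheme.{u}).Modules} (hM : Coh.IsQCoh M) :
    ∃ (T : (U : Scheme.{u}).Modules) (φ : M ⟶ T), Mono φ ∧ Coh.IsQCoh T ∧ Injective T := by
  let e := hU.isoSpec
  let M' := M.restrict e.inv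
  let N := moduleSpecΓFunctor.obj M'
  haveI := (isQuasicoherent_iff_isIso_fromTildeΓ _).1 (QCoh.isQCoh_restrict e.inv hM)
  haveI : Mono (tilde.map (Injective.ι N)) := QCoh.tildeMap_mono _
  let ψ : M' ⟶ tilde (Injective.under N) := inv M'.fromTildeΓ ≫ tilde.map (Injective.ι N)
  haveI : Mono ψ := mono_comp _ _
  haveI : Injective (tilde (Injective.under N)) := injective_tilde _
  let adj := Scheme.Modules.restrictAdjunction e.inv
  refine ⟨(Scheme.Modules.pushforward e.inv).obj (tilde (Injective.under N)), adj.homEquiv _ _ ψ, ?_,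
    QCoh.isQCoh_pushforward _ (QCoh.isQCoh_spec_iff.2 ⟨_, ⟨Iso.refl _⟩⟩),
    Injective.injective_of_adjoint adj _⟩
  refine Preadditive.mono_of_cancel_zero _ fun {Z} x hx => ?_
  have h : adj.homEquiv _ _ ((Scheme.Modules.restrictFunctor e.inv).map x ≫ ψ) = 0 := by
    rw [Adjunction.homEquiv_naturality_left, hx]
  have h0 : (Scheme.Modules.restrictFunctor e.inv).map x ≫ ψ = 0 := by
    rw [← (adj.homEquiv _ _).symm_apply_apply ((Scheme.Modules.restrictFunctor e.inv).map x ≫ ψ), h,
      Adjunction.homEquiv_counit, Functor.map_zero, zero_comp]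
  have h1 : (Scheme.Modules.restrictFunctor e.inv).map x = 0 := zero_of_comp_mono ψ h0
  let η : Scheme.Modules.restrictFunctor e.inv ⋙ Scheme.Modules.restrictFunctor e.hom ≅ 𝟭 _ :=
    (Scheme.Modules.restrictFunctorComp e.hom e.inv).symm ≪≫
      Scheme.Modules.restrictFunctorCongr e.hom_inv_id ≪≫ Scheme.Modules.restrictFunctorId
  have h2 := η.hom.naturality x
  rw [Functor.comp_map, h1, Functor.map_zero, zero_comp] at h2
  exact zero_of_epi_comp (η.hom.app Z) h2.symm

/-- The injective hull in all modules of a quasi-coherent module on a locally Noetherian scheme is quasi-coherent. -/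
theorem isQCoh_of_isEss [IsLocallyNoetherian X] {M E : X.Modules} (hM : Coh.IsQCoh M) [Injective E]
    {f : M ⟶ E} (hf : EssExt.IsEss f) : Coh.IsQCoh E := by
  refine QCoh.isQCoh_of_isOpenCover (fun V : X.affineOpens => V.1)
    (TopologicalSpace.IsOpenCover.mk (iSup_affineOpens_eq_top X)) fun V => ?_
  haveI := IsLocallyNoetherian.component_noetherian V
  haveI : IsAffine (V.1 : Scheme.{u}) := V.2
  haveI : IsLocallyNoetherian (V.1 : Scheme.{u}) := isLocallyNoetherian_of_isOpenImmersion V.1.ι
  haveI : IsNoetherian (V.1 : Scheme.{u}) := {}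
  haveI : Injective ((Scheme.Modules.restrictFunctor V.1.ι).obj E) := by
    haveI : (lsh V.1.ι).PreservesMonomorphisms := inferInstance
    exact Injective.injective_of_adjoint (lshAdj V.1.ι) E
  obtain ⟨T, φ, hφ, hT, hTi⟩ := exists_mono_injective V.2 (QCoh.isQCoh_restrict V.1.ι hM)
  haveI := hTi
  have hess := isEss_restrict V.1 hf
  haveI := hess.mono
  haveI := hφ
  let t : (Scheme.Modules.restrictFunctor V.1.ι).obj E ⟶ T :=
    Injective.factorThru φ ((Scheme.Modules.restrictFunctor V.1.ι).map f)
  haveI : Mono t := hess.mono_of_comp t (by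
    rw [Injective.comp_factorThru]; exact hφ)
  exact isQCoh_of_retract hT t (Injective.factorThru (𝟙 _) t) (Injective.comp_factorThru _ _)

/-- An injective quasi-coherent module is injective among all modules. -/
theorem injective_obj [IsLocallyNoetherian X]
    (J : ObjectProperty.FullSubcategory (fun M : X.Modules => Coh.IsQCoh M)) (hJ : Injective J) :
    Injective J.obj := by
  haveI := hJ
  obtain ⟨E, f, hEi, hf⟩ := EssExt.exists_essential_injective J.obj
  haveI := hEi
  haveI := hf.mono
  let E' : ObjectProperty.FullSubcategory (fun M : X.Modules => Coh.IsQCoh M) :=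
    ⟨E, isQCoh_of_isEss J.property hf⟩
  let f' : J ⟶ E' := ObjectProperty.homMk f
  haveI : Mono f' :=
    (ObjectProperty.ι (fun M : X.Modules => Coh.IsQCoh M)).mono_of_mono_map (show Mono f from hf.mono)
  let R : Retract J.obj E :=
    { i := f
      r := (Injective.factorThru (𝟙 J) f').hom
      retract := congrArg (fun φ => (ObjectProperty.ι _).map φ) (Injective.comp_factorThru (𝟙 J) f') }
  exact R.injective

end Groth.Agent.VBPnX.InjQCohLN
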