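import Groth.Agent.LC.GorRingRows
import Groth.Agent.AvramovLib.Main

/-!
# Complete intersection fibres of composites
-/

set_option autoImplicit false
set_option linter.style.haveILetI false

universe u

open IsLocalRing TensorProduct
open Groth.Agent.LC (isNoetherianRing_atPrime localRingHom_mk_surjective ker_localRingHom_mk)

namespace Groth.Agent.VBPnX.CIFibres

/-- Local form: `B_q` is a complete intersection iff `A_p` and the local ring of the fibre are. -/
theorem atPrime_iff {A B : Type u} [CommRing A] [IsNoetherianRing A] [CommRing B] [IsNoetherianRing B]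
    [Algebra A B] [Module.Flat A B] (q : Ideal B) [q.IsPrime]
    [IsLocalRing (EGA4.FibLocRing A B q)] :
    Pi1.IsCompleteIntersection (Localization.AtPrime q) ↔
      (Pi1.IsCompleteIntersection (Localization.AtPrime (q.comap (algebraMap A B))) ∧
        Pi1.IsCompleteIntersection (EGA4.FibLocRing A B q)) := by
  let p := q.comap (algebraMap A B)
  letI := (Localization.localRingHom p q (algebraMap A B) rfl).toAlgebra
  haveI : IsScalarTower A (Localization.AtPrime p) (Localization.AtPrime q) :=
    IsScalarTower.of_algebraMap_eq fun a => by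
      rw [RingHom.algebraMap_toAlgebra, Localization.localRingHom_to_map, ← IsScalarTower.algebraMap_apply]
  haveI : IsLocalHom (algebraMap (Localization.AtPrime p) (Localization.AtPrime q)) :=
    Localization.isLocalHom_localRingHom p q (algebraMap A B) rfl
  haveI : IsNoetherianRing (Localization.AtPrime p) := isNoetherianRing_atPrime p
  haveI : IsNoetherianRing (Localization.AtPrime q) := isNoetherianRing_atPrime q
  haveI : Module.Flat B (Localization.AtPrime q) := IsLocalization.flat _ q.primeCompl
  haveI : Module.Flat A (Localization.AtPrime q) := Module.Flat.trans A B _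
  haveI : Module.Flat (Localization.AtPrime p) (Localization.AtPrime q) :=
    (Module.flat_iff_of_isLocalization (Localization.AtPrime p) p.primeCompl _).mpr inferInstance
  have hJ : (maximalIdeal (Localization.AtPrime p)).map
      (algebraMap (Localization.AtPrime p) (Localization.AtPrime q)) =
        p.map (algebraMap A (Localization.AtPrime q)) := by
    rw [← Localization.AtPrime.map_eq_maximalIdeal, Ideal.map_map, ← IsScalarTower.algebraMap_eq]
  let e := Ideal.quotEquivOfEq hJ
  haveI := e.symm.isLocalRing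
  rw [AvramovLib.avramov (A := Localization.AtPrime p) (B := Localization.AtPrime q)]
  exact and_congr_right fun _ => AvramovLib.isCI_ringEquiv_iff e

theorem fibLoc_of_fiber {A B : Type u} [CommRing A] [IsNoetherianRing A] [CommRing B] [IsNoetherianRing B]
    [Algebra A B] (q : Ideal B) [q.IsPrime]
    (h : ∀ (p : Ideal A) [p.IsPrime] (P : Ideal (p.Fiber B)) [P.IsPrime],
      Pi1.IsCompleteIntersection (Localization.AtPrime P)) :
    ∃ (_ : IsLocalRing (EGA4.FibLocRing A B q)) (_ : IsNoetherianRing (EGA4.FibLocRing A B q)),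
      Pi1.IsCompleteIntersection (EGA4.FibLocRing A B q) := by
  let p := q.comap (algebraMap A B)
  obtain ⟨Q, hQ⟩ := FlatLoc6.exists_fiber_prime p q rfl
  suffices key : ∀ (q' : Ideal B) [q'.IsPrime], Q.asIdeal.comap Algebra.TensorProduct.includeRight = q' →
      ∃ (_ : IsLocalRing (EGA4.FibLocRing A B q')) (_ : IsNoetherianRing (EGA4.FibLocRing A B q')),
        Pi1.IsCompleteIntersection (EGA4.FibLocRing A B q') from key q hQ
  rintro _ _ rfl
  obtain ⟨e⟩ := FlatLoc6.exists_fibLocEquiv p Q.asIdeal
  haveI : IsNoetherianRing (p.Fiber B) := FlatLoc6.isNoetherianRing_fiber p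
  haveI := isNoetherianRing_atPrime Q.asIdeal
  haveI : IsLocalRing (EGA4.FibLocRing A B (Q.asIdeal.comap Algebra.TensorProduct.includeRight)) :=
    e.isLocalRing
  haveI := isNoetherianRing_of_ringEquiv _ e
  exact ⟨inferInstance, inferInstance, (AvramovLib.isCI_ringEquiv_iff (A := Localization.AtPrime Q.asIdeal) e).1 (h p Q.asIdeal)⟩

theorem fiber_of_fibLoc {A B : Type u} [CommRing A] [CommRing B] [IsNoetherianRing B]
    [Algebra A B] (p : Ideal A) [p.IsPrime]
    (h : ∀ (q : Ideal B) [q.IsPrime], q.comap (algebraMap A B) = p →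
      ∃ (_ : IsLocalRing (EGA4.FibLocRing A B q)) (_ : IsNoetherianRing (EGA4.FibLocRing A B q)),
        Pi1.IsCompleteIntersection (EGA4.FibLocRing A B q))
    (Q : Ideal (p.Fiber B)) [Q.IsPrime] : Pi1.IsCompleteIntersection (Localization.AtPrime Q) := by
  haveI : IsNoetherianRing (p.Fiber B) := FlatLoc6.isNoetherianRing_fiber p
  obtain ⟨e⟩ := FlatLoc6.exists_fibLocEquiv p Q
  obtain ⟨hl, hn, hci⟩ := h _ (FlatLoc6.comap_fiber_prime p Q)
  haveI := isNoetherianRing_atPrime Q
  exact (AvramovLib.isCI_ringEquiv_iff e.symm).1 hci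

theorem ci_fibres_comp (A B C : Type u) [CommRing A] [CommRing B] [CommRing C] [IsNoetherianRing A]
    [IsNoetherianRing B] [IsNoetherianRing C] [Algebra A B] [Algebra B C] [Algebra A C] [IsScalarTower A B C]
    [Module.Flat B C] (hAB : ∀ (q : Ideal A) [q.IsPrime] (P : Ideal (q.Fiber B)) [P.IsPrime], Pi1.IsCompleteIntersection (Localization.AtPrime P))
    (hBC : ∀ (q : Ideal B) [q.IsPrime] (P : Ideal (q.Fiber C)) [P.IsPrime], Pi1.IsCompleteIntersection (Localization.AtPrime P)) (q : Ideal A) [q.IsPrime]
    (P₀ : Ideal (q.Fiber C)) [P₀.IsPrime] : Pi1.IsCompleteIntersection (Localization.AtPrime P₀) := by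
  refine fiber_of_fibLoc q (fun Q _ hQ => ?_) P₀
  let I := q.map (algebraMap A B)
  let J := I.map (algebraMap B C)
  let B' := B ⧸ I
  let C' := C ⧸ J
  haveI : Module.Flat B' C' := Groth.Agent.LC.exists_quotientMap_flat I
  have hJQ : J ≤ Q := by
    show (q.map (algebraMap A B)).map (algebraMap B C) ≤ Q
    rw [Ideal.map_map, ← IsScalarTower.algebraMap_eq, Ideal.map_le_iff_le_comap, hQ]
  let Q' := Q.map (Ideal.Quotient.mk J)
  haveI : Q'.IsPrime := Ideal.map_isPrime_of_surjective Ideal.Quotient.mk_surjective (by rw [Ideal.mk_ker]; exact hJQ)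
  have hQ' : Q'.comap (Ideal.Quotient.mk J) = Q := by
    rw [Ideal.comap_map_of_surjective' _ Ideal.Quotient.mk_surjective, Ideal.mk_ker, sup_eq_left.2 hJQ]
  let P' := Q'.comap (algebraMap B' C')
  let P := Q.comap (algebraMap B C)
  have hP' : P'.comap (Ideal.Quotient.mk I) = P := by
    show (Q'.comap (algebraMap B' C')).comap (Ideal.Quotient.mk I) = Q.comap (algebraMap B C)
    rw [Ideal.comap_comap, show (algebraMap B' C').comp (Ideal.Quotient.mk I) =
      (Ideal.Quotient.mk J).comp (algebraMap B C) from rfl, ← Ideal.comap_comap, hQ']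
  -- `B'` localized at `P'` is the fibre of `A → B`
  have hB : Pi1.IsCompleteIntersection (Localization.AtPrime P') := by
    haveI := isNoetherianRing_atPrime P'
    obtain ⟨hl₁, hn₁, hci₁⟩ := fibLoc_of_fiber (A := A) (P'.comap (Ideal.Quotient.mk I)) hAB
    refine (AvramovLib.isCI_ringEquiv_iff (A := EGA4.FibLocRing A B (P'.comap (Ideal.Quotient.mk I)))
      ((Ideal.quotEquivOfEq ?_).trans (RingHom.quotientKerEquivOfSurjective (localRingHom_mk_surjective I P')))).1 hci₁
    rw [ker_localRingHom_mk, Ideal.map_map, ← IsScalarTower.algebraMap_eq,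
      show (P'.comap (Ideal.Quotient.mk I)).comap (algebraMap A B) = q by
        refine (congrArg (Ideal.comap (algebraMap A B)) hP').trans ?_
        show (Q.comap (algebraMap B C)).comap (algebraMap A B) = q
        rw [Ideal.comap_comap, ← IsScalarTower.algebraMap_eq, hQ]]
  -- the fibre of `B' → C'` is the fibre of `B → C`
  have hF : ∃ (_ : IsLocalRing (EGA4.FibLocRing B' C' Q')), Pi1.IsCompleteIntersection (EGA4.FibLocRing B' C' Q') := by
    let π := (Ideal.Quotient.mk (P'.map (algebraMap B' (Localization.AtPrime Q')))).comp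
      (Localization.localRingHom (Q'.comap (Ideal.Quotient.mk J)) Q' (Ideal.Quotient.mk J) rfl)
    have hπ : Function.Surjective π :=
      Ideal.Quotient.mk_surjective.comp (localRingHom_mk_surjective J Q')
    obtain ⟨hl₁, hn₁, hci₁⟩ := fibLoc_of_fiber (A := B) (Q'.comap (Ideal.Quotient.mk J)) hBC
    have hπker : RingHom.ker π =
        ((Q'.comap (Ideal.Quotient.mk J)).comap (algebraMap B C)).map
          (algebraMap B (Localization.AtPrime (Q'.comap (Ideal.Quotient.mk J)))) := by
      have hcomp : (algebraMap B' (Localization.AtPrime Q')).comp (Ideal.Quotient.mk I) =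
          (Localization.localRingHom (Q'.comap (Ideal.Quotient.mk J)) Q' (Ideal.Quotient.mk J) rfl).comp
            (algebraMap B (Localization.AtPrime (Q'.comap (Ideal.Quotient.mk J)))) := by
        ext b
        rw [RingHom.comp_apply, RingHom.comp_apply,
          IsScalarTower.algebraMap_apply B C (Localization.AtPrime (Q'.comap (Ideal.Quotient.mk J))),
          Localization.localRingHom_to_map, IsScalarTower.algebraMap_apply B' C' (Localization.AtPrime Q')]
        rfl
      have hPmap : P' = P.map (Ideal.Quotient.mk I) := by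
        rw [← hP', Ideal.map_comap_of_surjective _ Ideal.Quotient.mk_surjective]
      rw [← RingHom.comap_ker, Ideal.mk_ker, hPmap, Ideal.map_map, hcomp, ← Ideal.map_map,
        Ideal.comap_map_of_surjective' _ (localRingHom_mk_surjective J Q'), ker_localRingHom_mk]
      have e1 : (Q'.comap (Ideal.Quotient.mk J)).comap (algebraMap B C) = P := congrArg _ hQ'
      rw [e1]
      refine sup_eq_left.2 ?_
      show (I.map (algebraMap B C)).map _ ≤ _
      rw [Ideal.map_map, ← IsScalarTower.algebraMap_eq]
      refine Ideal.map_mono ?_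
      show q.map (algebraMap A B) ≤ Q.comap (algebraMap B C)
      rw [Ideal.map_le_iff_le_comap, Ideal.comap_comap, ← IsScalarTower.algebraMap_eq, hQ]
    haveI := isNoetherianRing_atPrime Q'
    haveI : IsLocalRing (EGA4.FibLocRing B' C' Q') :=
      ((Ideal.quotEquivOfEq hπker.symm).trans (RingHom.quotientKerEquivOfSurjective hπ)).isLocalRing
    exact ⟨inferInstance, (AvramovLib.isCI_ringEquiv_iff (A := EGA4.FibLocRing B C (Q'.comap (Ideal.Quotient.mk J)))
      ((Ideal.quotEquivOfEq hπker.symm).trans (RingHom.quotientKerEquivOfSurjective hπ))).1 hci₁⟩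
  obtain ⟨hlF, hF⟩ := hF
  have hC := (atPrime_iff (A := B') Q').2 ⟨hB, hF⟩
  suffices key : ∀ (Q₁ : Ideal C) [Q₁.IsPrime], Q'.comap (Ideal.Quotient.mk J) = Q₁ →
      ∃ (_ : IsLocalRing (EGA4.FibLocRing A C Q₁)) (_ : IsNoetherianRing (EGA4.FibLocRing A C Q₁)),
        Pi1.IsCompleteIntersection (EGA4.FibLocRing A C Q₁) from key Q hQ'
  rintro _ _ rfl
  have hker2 : RingHom.ker (Localization.localRingHom (Q'.comap (Ideal.Quotient.mk J)) Q' (Ideal.Quotient.mk J) rfl) =
      ((Q'.comap (Ideal.Quotient.mk J)).comap (algebraMap A C)).map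
        (algebraMap A (Localization.AtPrime (Q'.comap (Ideal.Quotient.mk J)))) := by
    rw [ker_localRingHom_mk, show (Q'.comap (Ideal.Quotient.mk J)).comap (algebraMap A C) = q from
      (congrArg _ hQ').trans hQ]
    show ((q.map (algebraMap A B)).map (algebraMap B C)).map _ = _
    rw [Ideal.map_map, Ideal.map_map, RingHom.comp_assoc, ← IsScalarTower.algebraMap_eq A B C,
      ← IsScalarTower.algebraMap_eq]
  let e3 := (RingHom.quotientKerEquivOfSurjective (localRingHom_mk_surjective J Q')).symm.trans
    (Ideal.quotEquivOfEq hker2)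
  haveI : IsLocalRing (EGA4.FibLocRing A C (Q'.comap (Ideal.Quotient.mk J))) := e3.isLocalRing
  haveI := isNoetherianRing_atPrime Q'
  haveI := isNoetherianRing_of_ringEquiv _ e3
  exact ⟨inferInstance, inferInstance, (AvramovLib.isCI_ringEquiv_iff e3).1 hC⟩

end Groth.Agent.VBPnX.CIFibres
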