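import Groth.Prelude.Def_CechOX
import Groth.Agent.VBPnX.CechShRes
import Groth.Agent.QCohEquiv7.Rpush
import Groth.Agent.PnCoh.Finite.SerreVanishing
import Groth.Agent.QCoh.Qcqs
import Groth.Agent.QCoh.RpushClosed
import Groth.Agent.TriCat.MapExtend
import Groth.Agent.KFlatLib.Scheme.AcyclicPush

/-!
# The relative Čech complex computes the derived direct image
-/

set_option autoImplicit false
set_option linter.style.haveILetI false
set_option maxHeartbeats 800000
set_option backward.isDefEq.respectTransparency false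
set_option backward.isDefEq.respectTransparency.types false

universe u

open CategoryTheory CategoryTheory.Limits AlgebraicGeometry TopologicalSpace Opposite

attribute [local instance] HasDerivedCategory.standard

noncomputable section

namespace Groth.Agent.VBPnX.RelCech

open Groth.Agent

variable {X S : Scheme.{u}}

theorem quasiSeparatedSpace_of_affineDiag (X : Scheme.{u})
    [IsAffineHom (pullback.diagonal (terminal.from X))] : QuasiSeparatedSpace X :=
  haveI : QuasiSeparated (terminal.from X) := ⟨inferInstance⟩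
  quasiSeparatedSpace_of_quasiSeparated (terminal.from X)

theorem isAffineHom_open_comp [IsAffineHom (pullback.diagonal (terminal.from S))] {W : X.Opens}
    (hW : IsAffineOpen W) (f : X ⟶ S) : IsAffineHom (W.ι ≫ f) :=
  haveI : IsAffine (W : Scheme.{u}) := hW
  QCohEquiv7.isAffineHom_of_affineDiagonal (fun _ _ h h' => h.inf h') _

variable {ι : Type u} (𝒰 : ι → X.Opens)

theorem isAffineOpen_inter [IsAffineHom (pullback.diagonal (terminal.from X))]
    (h𝒰 : ∀ i, IsAffineOpen (𝒰 i)) {p : ℕ} (i : Fin (p + 1) → ι) : IsAffineOpen (∏ᶜ (𝒰 ∘ i) : X.Opens) := by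
  have e : (∏ᶜ (𝒰 ∘ i) : X.Opens) = ⨅ k, 𝒰 (i k) :=
    le_antisymm (le_iInf fun k => leOfHom (Limits.Pi.π (𝒰 ∘ i) k))
      (leOfHom (Limits.Pi.lift fun k => homOfLE (iInf_le (fun k => 𝒰 (i k)) k)))
  rw [e]
  exact IsAffineOpen.iInf fun k => h𝒰 _

theorem isQCoh_pushRestr {W : X.Opens} [IsAffineHom W.ι] {F : X.Modules} (hF : Coh.IsQCoh F) :
    Coh.IsQCoh ((CechOX.pushRestr W).obj F) := by
  haveI : QuasiCompact W.ι := inferInstance
  exact QCoh.isQCoh_pushforward W.ι (QCoh.isQCoh_restrict W.ι hF)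

theorem isZero_rightDerived_pushRestr [HasInjectiveResolutions X.Modules] (f : X ⟶ S)
    {W : X.Opens} [IsAffineHom W.ι] [IsAffineHom (W.ι ≫ f)] {F : X.Modules} (hF : Coh.IsQCoh F) (q : ℕ) :
    IsZero ((Coh.Rpush f (q + 1)).obj ((CechOX.pushRestr W).obj F)) := by
  haveI : HasInjectiveResolutions (W : Scheme.{u}).Modules := KFlatLib.hasInjectiveResolutions_modules
  haveI : HasInjectiveResolutions S.Modules := KFlatLib.hasInjectiveResolutions_modules
  let N := (Scheme.Modules.restrictFunctor W.ι).obj F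
  have hN : Coh.IsQCoh N := QCoh.isQCoh_restrict W.ι hF
  obtain ⟨e₁⟩ := QCoh.nonempty_Rpush_affine_push W.ι f hN (q + 1)
  obtain ⟨e₂⟩ := QCoh.nonempty_Rpush_affine_push (W.ι ≫ f) (𝟙 S) hN (q + 1)
  rw [Category.comp_id] at e₂
  haveI : Epi (QCoh.godπ ((Coh.push (W.ι ≫ f)).obj N) q) := (QCoh.godSES_shortExact _ q).epi_g
  obtain ⟨e₃⟩ := QCoh.nonempty_Rpush_iso (𝟙 S) ((Coh.push (W.ι ≫ f)).obj N) q
  haveI : (Scheme.Modules.pushforward (𝟙 S)).PreservesEpimorphisms :=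
    Functor.PreservesEpimorphisms.of_iso (Scheme.Modules.pushforwardId S).symm
  exact Limits.IsZero.of_iso (Limits.isZero_cokernel_of_epi _) (e₁ ≪≫ e₂.symm ≪≫ e₃)

theorem isAffineHom_inter_comp [IsAffineHom (pullback.diagonal (terminal.from X))]
    [IsAffineHom (pullback.diagonal (terminal.from S))] (h𝒰 : ∀ i, IsAffineOpen (𝒰 i)) (f : X ⟶ S) {p : ℕ}
    (σ : Fin (p + 1) → ι) : IsAffineHom ((∏ᶜ (𝒰 ∘ σ) : X.Opens).ι ≫ f) :=
  isAffineHom_open_comp (isAffineOpen_inter 𝒰 h𝒰 σ) f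

theorem isAffineHom_inter [IsAffineHom (pullback.diagonal (terminal.from X))]
    (h𝒰 : ∀ i, IsAffineOpen (𝒰 i)) {p : ℕ} (σ : Fin (p + 1) → ι) :
    IsAffineHom (∏ᶜ (𝒰 ∘ σ) : X.Opens).ι := by
  simpa using isAffineHom_inter_comp 𝒰 h𝒰 (𝟙 X) σ

variable [Finite ι] (hA : ∀ (p : ℕ) (σ : Fin (p + 1) → ι), IsAffineHom (∏ᶜ (𝒰 ∘ σ) : X.Opens).ι)
  {F : X.Modules} (hF : Coh.IsQCoh F)

include hA hF in
theorem isQCoh_term (p : ℕ) : Coh.IsQCoh (((CechOX.cechSh 𝒰).obj F).X p) := by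
  classical
  have : Fintype ι := Fintype.ofFinite ι
  let T : (Fin (p + 1) → ι) → X.Modules := fun i => (CechOX.pushRestr (∏ᶜ (𝒰 ∘ i))).obj F
  haveI : Limits.HasBiproduct T := Limits.HasBiproduct.of_hasProduct T
  exact ((QCoh.isQCoh_iff_iso (Limits.biproduct.isoProduct T)).1
    (PnCoh.Finite.isQCoh_biproduct T fun i => haveI := hA p i; isQCoh_pushRestr hF) :)

include hA hF in
theorem isZero_rightDerived_term
    [HasInjectiveResolutions X.Modules] (f : X ⟶ S)
    (hB : ∀ (p : ℕ) (σ : Fin (p + 1) → ι), IsAffineHom ((∏ᶜ (𝒰 ∘ σ) : X.Opens).ι ≫ f)) (p q : ℕ) :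
    IsZero ((Coh.Rpush f (q + 1)).obj (((CechOX.cechSh 𝒰).obj F).X p)) := by
  classical
  have : Fintype ι := Fintype.ofFinite ι
  let T : (Fin (p + 1) → ι) → X.Modules := fun i => (CechOX.pushRestr (∏ᶜ (𝒰 ∘ i))).obj F
  haveI : Limits.HasBiproduct T := Limits.HasBiproduct.of_hasProduct T
  haveI : (Coh.Rpush f (q + 1)).Additive := inferInstance
  refine IsZero.of_iso ?_ ((Coh.Rpush f (q + 1)).mapIso (Limits.biproduct.isoProduct T).symm)
  rw [IsZero.iff_id_eq_zero, ← CategoryTheory.Functor.map_id]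
  have ht : 𝟙 (⨁ T) = ∑ i, Limits.biproduct.π T i ≫ Limits.biproduct.ι T i := by
    refine Limits.biproduct.hom_ext _ _ fun k => ?_
    rw [Category.id_comp, Preadditive.sum_comp, Finset.sum_eq_single k]
    · rw [Category.assoc, Limits.biproduct.ι_π_self, Category.comp_id]
    · intro i _ hi
      rw [Category.assoc, Limits.biproduct.ι_π_ne _ hi, comp_zero]
    · exact fun h => absurd (Finset.mem_univ k) h
  refine (congrArg (Coh.Rpush f (q + 1)).map ht).trans ?_
  rw [Functor.map_sum]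
  refine Finset.sum_eq_zero fun i _ => ?_
  haveI := hA p i
  haveI := hB p i
  rw [Functor.map_comp, (isZero_rightDerived_pushRestr f hF q).eq_of_tgt
    ((Coh.Rpush f (q + 1)).map (Limits.biproduct.π T i)) 0, zero_comp]

omit [Finite ι] in
theorem quasiIso_aug (hcov : ⨆ i, 𝒰 i = ⊤) (G : X.Modules)
    (φ : (CochainComplex.single₀ X.Modules).obj G ⟶ (CechOX.cechSh 𝒰).obj G)
    (hφ : φ.f 0 = CechOX.cechShAug 𝒰 G) : QuasiIso φ := by
  refine ⟨fun p => ?_⟩
  match p with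
  | 0 =>
    rw [CochainComplex.quasiIsoAt₀_iff, ShortComplex.quasiIso_iff_of_zeros]
    · have hm : Mono (φ.f 0) := hφ ▸ CechShRes.mono_aug 𝒰 G hcov
      refine ⟨?_, hm⟩
      refine (ShortComplex.exact_iff_of_iso ?_).2 (CechShRes.exact_aug 𝒰 G hcov)
      exact ShortComplex.isoMk (Iso.refl _) (Iso.refl _) (Iso.refl _) (by simp [hφ]) (by simp)
    all_goals rfl
  | p + 1 =>
    rw [quasiIsoAt_iff_exactAt]
    · exact (HomologicalComplex.exactAt_iff_isZero_homology _ _).2 (CechShRes.isZero_homology 𝒰 G hcov p)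
    · exact CochainComplex.exactAt_succ_single_obj _ _

theorem nonempty_rpush_of_affine (f : X ⟶ S) [QuasiCompact f] [QuasiSeparated f]
    (hcov : ⨆ i, 𝒰 i = ⊤) [DCoh.HasRpush f] (hA : ∀ (p : ℕ) (σ : Fin (p + 1) → ι), IsAffineHom (∏ᶜ (𝒰 ∘ σ) : X.Opens).ι)
    (hB : ∀ (p : ℕ) (σ : Fin (p + 1) → ι), IsAffineHom ((∏ᶜ (𝒰 ∘ σ) : X.Opens).ι ≫ f)) (hF : Coh.IsQCoh F) :
    Nonempty (DCoh.toD S (CechOX.relCechZ 𝒰 f F) ≅ (DCoh.Rpush f).obj (DCoh.inD X F)) := by
  haveI : HasInjectiveResolutions X.Modules := KFlatLib.hasInjectiveResolutions_modules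
  let K := CechOX.cechShZ 𝒰 F
  have hq : ∀ n, Coh.IsQCoh (K.X n) := fun n => by
    by_cases hn : ∃ p, ComplexShape.embeddingUpNat.f p = n
    · obtain ⟨p, hp⟩ := hn
      exact (QCoh.isQCoh_iff_iso (((CechOX.cechSh 𝒰).obj F).extendXIso _ hp)).2 (isQCoh_term 𝒰 hA hF p)
    · exact KFlatLib.isQCoh_of_isZero (HomologicalComplex.isZero_extend_X _ _ n fun i hi => hn ⟨i, hi⟩)
  have hac : ∀ n, TriCat.IsRightAcyclic (Scheme.Modules.pushforward f) (K.X n) := fun n i hi => by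
    obtain ⟨q, rfl⟩ := Nat.exists_eq_add_of_le' hi
    by_cases hn : ∃ p, ComplexShape.embeddingUpNat.f p = n
    · obtain ⟨p, hp⟩ := hn
      exact (isZero_rightDerived_term 𝒰 hA hF f hB p q).of_iso
        ((Coh.Rpush f (q + 1)).mapIso (((CechOX.cechSh 𝒰).obj F).extendXIso _ hp))
    · exact (Coh.Rpush f (q + 1)).map_isZero
        (HomologicalComplex.isZero_extend_X _ _ n fun i hi => hn ⟨i, hi⟩)
  haveI := KFlatLib.isIso_rpushUnit_of_acyclic f K hq hac
  let φ := ((CochainComplex.fromSingle₀Equiv ((CechOX.cechSh 𝒰).obj F) F)).symm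
    ⟨CechOX.cechShAug 𝒰 F, CechShRes.aug_d 𝒰 F⟩
  haveI : QuasiIso φ := quasiIso_aug 𝒰 hcov F φ (by simp [φ])
  exact ⟨DerivedCategory.Q.mapIso
      (TriCat.mapExtendIso (Scheme.Modules.pushforward f) ComplexShape.embeddingUpNat ((CechOX.cechSh 𝒰).obj F)).symm ≪≫
    asIso ((KFlatLib.rpushUnit f).app K) ≪≫
    (DCoh.Rpush f).mapIso ((asIso (DerivedCategory.Q.map ((HomologicalComplex.extendSingleIso
        ComplexShape.embeddingUpNat F 0 0 (by simp)).inv ≫
      HomologicalComplex.extendMap φ ComplexShape.embeddingUpNat))).symm ≪≫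
      ((DerivedCategory.singleFunctorIsoCompQ X.Modules 0).app F).symm)⟩

theorem quasiCompact_and_quasiSeparated (f : X ⟶ S) [CompactSpace X] [IsAffineHom (pullback.diagonal (terminal.from X))]
    [IsAffineHom (pullback.diagonal (terminal.from S))] : QuasiCompact f ∧ QuasiSeparated f := by
  haveI : QuasiSeparatedSpace S := quasiSeparatedSpace_of_affineDiag S
  haveI : QuasiSeparated (f ≫ terminal.from S) := by
    rw [show f ≫ terminal.from S = terminal.from X from Subsingleton.elim _ _]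
    exact ⟨inferInstance⟩
  exact ⟨inferInstance, QuasiSeparated.of_comp f (terminal.from S)⟩

variable [IsAffineHom (pullback.diagonal (terminal.from X))]

theorem nonempty_rpush (f : X ⟶ S) [CompactSpace X] [IsAffineHom (pullback.diagonal (terminal.from S))]
    (hcov : ⨆ i, 𝒰 i = ⊤) [DCoh.HasRpush f] (h𝒰 : ∀ i, IsAffineOpen (𝒰 i)) (hF : Coh.IsQCoh F) :
    Nonempty (DCoh.toD S (CechOX.relCechZ 𝒰 f F) ≅ (DCoh.Rpush f).obj (DCoh.inD X F)) := by
  obtain ⟨_, _⟩ := quasiCompact_and_quasiSeparated f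
  exact nonempty_rpush_of_affine 𝒰 f hcov (fun _ σ => isAffineHom_inter 𝒰 h𝒰 σ)
    (fun _ σ => isAffineHom_inter_comp 𝒰 h𝒰 f σ) hF

theorem isQCoh_relCech (f : X ⟶ S) [CompactSpace X] [IsAffineHom (pullback.diagonal (terminal.from S))]
    (h𝒰 : ∀ i, IsAffineOpen (𝒰 i)) (hF : Coh.IsQCoh F) (p : ℕ) :
    Coh.IsQCoh (((CechOX.relCech 𝒰 f).obj F).X p) := by
  obtain ⟨_, _⟩ := quasiCompact_and_quasiSeparated f
  exact (QCoh.isQCoh_pushforward f (isQCoh_term 𝒰 (fun _ σ => isAffineHom_inter 𝒰 h𝒰 σ) hF p) :)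

end Groth.Agent.VBPnX.RelCech
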