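import Groth.Agent.VBPnX.RelCech
import Groth.Agent.FlatBC6.AffZero
import Groth.Agent.CohPullLib.PullOnPab
import Groth.Agent.CohPullLib.BCComp
import Groth.Agent.QCoh.Qcqs

/-!
# Base change of the relative Čech complex
-/

set_option autoImplicit false
set_option linter.style.haveILetI false
set_option maxHeartbeats 800000
set_option backward.isDefEq.respectTransparency false
set_option backward.isDefEq.respectTransparency.types false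

universe u

open CategoryTheory CategoryTheory.Limits AlgebraicGeometry TopologicalSpace Opposite

attribute [local instance] HasDerivedCategory.standard

noncomputable section

namespace Groth.Agent.VBPnX.RelCechBC

open Groth.Agent Groth.Agent.QCoh

variable {X S S' X' : Scheme.{u}} {f : X ⟶ S} {g : S' ⟶ S} {f' : X' ⟶ S'} {g' : X' ⟶ X}
  (w : g' ≫ f = f' ≫ g) {W : X.Opens} {W' : X'.Opens} (h : W' ≤ g' ⁻¹ᵁ W) (F : X.Modules)

include w in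
theorem sq_w : g'.resLE W W' h ≫ W.ι ≫ f = (W'.ι ≫ f') ≫ g := by
  rw [← Category.assoc, Scheme.Hom.resLE_comp_ι, Category.assoc, w, Category.assoc]

/-- The base change of the direct image of the restriction to an open. -/
def θ : (Scheme.Modules.pullback g).obj ((Scheme.Modules.pushforward f).obj ((CechOX.pushRestr W).obj F)) ⟶
    (Scheme.Modules.pushforward f').obj ((CechOX.pushRestr W').obj ((Scheme.Modules.pullback g').obj F)) :=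
  CohBC.bc0 (W.ι ≫ f) g (W'.ι ≫ f') (g'.resLE W W' h) (sq_w w h) (F.restrict W.ι) ≫
    (Scheme.Modules.pushforward (W'.ι ≫ f')).map (CohPull.pullOnIso g' W W' h F).hom

theorem θ_app_pullSec (V : S.Opens) {V' : S'.Opens} (hle : V' ≤ g ⁻¹ᵁ V)
    (x : Γ(F, W.ι ''ᵁ (W.ι ⁻¹ᵁ (f ⁻¹ᵁ V))))
    (h₁ : W'.ι ''ᵁ (W'.ι ⁻¹ᵁ (f' ⁻¹ᵁ V')) ≤ g' ⁻¹ᵁ (W.ι ''ᵁ (W.ι ⁻¹ᵁ (f ⁻¹ᵁ V)))) :
    (θ w h F).app V' (pullSec g ((Scheme.Modules.pushforward f).obj ((CechOX.pushRestr W).obj F)) hle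
        (show Γ((Scheme.Modules.pushforward f).obj ((CechOX.pushRestr W).obj F), V) from x)) =
      (show Γ((Scheme.Modules.pushforward f').obj ((CechOX.pushRestr W').obj ((Scheme.Modules.pullback g').obj F)), V')
        from pullSec g' F h₁ x) := by
  have e := CohPullLib.bc0_app_pullSec (sq_w w h) (F.restrict W.ι) hle
    (show Γ(F.restrict W.ι, (W.ι ≫ f) ⁻¹ᵁ V) from x)
  refine (congrArg (fun t => ((Scheme.Modules.pushforward (W'.ι ≫ f')).map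
    (CohPull.pullOnIso g' W W' h F).hom).app V' t) e).trans ?_
  exact CohPullLib.pullOnIso_pullSec' g' W W' h F ((W.ι ≫ f) ⁻¹ᵁ V) ((W'.ι ≫ f') ⁻¹ᵁ V')
    (CohPullLib.sectLE (sq_w w h) hle) x h₁

theorem θ_natural {W₂ : X.Opens} {W₂' : X'.Opens} (h₂ : W₂' ≤ g' ⁻¹ᵁ W₂) (i : W₂ ⟶ W) (i' : W₂' ⟶ W') :
    (Scheme.Modules.pullback g).map ((Scheme.Modules.pushforward f).map
        ((CechOX.pushRestrFam.flip.obj F).map i.op)) ≫ θ w h₂ F =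
      θ w h F ≫ (Scheme.Modules.pushforward f').map
        ((CechOX.pushRestrFam.flip.obj ((Scheme.Modules.pullback g').obj F)).map i'.op) := by
  refine CohPullLib.pullback_hom_ext g _ _ fun V x => ?_
  rw [Scheme.Modules.Hom.comp_app, Scheme.Modules.Hom.comp_app, ConcreteCategory.comp_apply,
    ConcreteCategory.comp_apply]
  have hh : ∀ {A : X.Opens} {A' : X'.Opens}, A' ≤ g' ⁻¹ᵁ A →
      A'.ι ''ᵁ (A'.ι ⁻¹ᵁ (f' ⁻¹ᵁ (g ⁻¹ᵁ V))) ≤ g' ⁻¹ᵁ (A.ι ''ᵁ (A.ι ⁻¹ᵁ (f ⁻¹ᵁ V))) := by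
    intro A A' hA
    rw [Scheme.Hom.image_preimage_eq_opensRange_inf, Scheme.Hom.image_preimage_eq_opensRange_inf,
      Scheme.Opens.opensRange_ι, Scheme.Opens.opensRange_ι]
    exact inf_le_inf hA (CohPullLib.sectLE w le_rfl)
  refine (congrArg _ (ExistEasy.pullSec_natural g ((Scheme.Modules.pushforward f).map
    ((CechOX.pushRestrFam.flip.obj F).map i.op)) le_rfl x)).trans ?_
  refine (θ_app_pullSec w h₂ F V le_rfl _ (hh h₂)).trans ?_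
  refine Eq.trans ?_ (congrArg _ (θ_app_pullSec w h F V le_rfl x (hh h))).symm
  exact (ExistEasy.pullSec_res g' F (CechOX.image_preimage_mono (leOfHom i) (f ⁻¹ᵁ V))
    (CechOX.image_preimage_mono (leOfHom i') (f' ⁻¹ᵁ (g ⁻¹ᵁ V))) (hh h) (hh h₂) x).symm

theorem isIso_θ (H : IsPullback g' f' f g) (hF : Coh.IsQCoh F) [IsAffineHom (W.ι ≫ f)] (e : W' = g' ⁻¹ᵁ W) :
    IsIso (θ H.w h F) := by
  subst e
  have hp : IsPullback (g'.resLE W (g' ⁻¹ᵁ W) h) ((g' ⁻¹ᵁ W).ι ≫ f') (W.ι ≫ f) g := by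
    rw [Scheme.Hom.resLE_eq_morphismRestrict]
    exact (isPullback_morphismRestrict g' W).paste_vert H
  have h1 : IsIso (CohBC.bc0 (W.ι ≫ f) g ((g' ⁻¹ᵁ W).ι ≫ f') (g'.resLE W (g' ⁻¹ᵁ W) h) (sq_w H.w h)
      (F.restrict W.ι)) := FlatBC6.isIso_bc0_affine hp (QCoh.isQCoh_restrict W.ι hF)
  have h2 : IsIso ((Scheme.Modules.pushforward ((g' ⁻¹ᵁ W).ι ≫ f')).map
    (CohPull.pullOnIso g' W (g' ⁻¹ᵁ W) h F).hom) := inferInstance
  exact @IsIso.comp_isIso _ _ _ _ _ _ _ h1 h2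

theorem piIso_π {C : Type (u + 1)} [Category.{u} C] {J : Type u} [HasProductsOfShape J C] {a b : J → C}
    (e : ∀ j, a j ≅ b j) (j : J) : (Pi.mapIso e).hom ≫ Pi.π b j = Pi.π a j ≫ (e j).hom := by
  simp

variable {ι : Type u} (𝒰 : ι → X.Opens)

variable (g') in
/-- The preimage covering. -/
abbrev pre : ι → X'.Opens := fun i => g' ⁻¹ᵁ (𝒰 i)

theorem inter_pre {p : ℕ} (σ : Fin (p + 1) → ι) :
    (∏ᶜ (pre g' 𝒰 ∘ σ) : X'.Opens) = g' ⁻¹ᵁ (∏ᶜ (𝒰 ∘ σ) : X.Opens) := by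
  refine le_antisymm (fun x hx => ?_) (CechShRes.le_opens_prod _ fun a =>
    g'.preimage_mono (CechShRes.opens_prod_le 𝒰 σ a))
  let O : X.Opens := ⟨⋂ a, ((𝒰 (σ a)) : Set X), isOpen_iInter_of_finite fun a => (𝒰 (σ a)).2⟩
  exact (CechShRes.le_opens_prod 𝒰 (σ := σ) (W := O) fun a y hy => Set.mem_iInter.1 hy a)
    (Set.mem_iInter.2 fun a => (CechShRes.opens_prod_le (pre g' 𝒰) σ a hx : g' x ∈ 𝒰 (σ a)))

theorem nonempty_pullback_relCech [Finite ι] [(Scheme.Modules.pullback g).Additive] (H : IsPullback g' f' f g)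
    (hF : Coh.IsQCoh F) (hB : ∀ (p : ℕ) (σ : Fin (p + 1) → ι), IsAffineHom ((∏ᶜ (𝒰 ∘ σ) : X.Opens).ι ≫ f)) :
    Nonempty (((Scheme.Modules.pullback g).mapHomologicalComplex (ComplexShape.up ℕ)).obj
        ((CechOX.relCech 𝒰 f).obj F) ≅
      (CechOX.relCech (pre g' 𝒰) f').obj ((Scheme.Modules.pullback g').obj F)) := by
  let P := CechOX.pushRestrFam.flip.obj F
  let P' := CechOX.pushRestrFam.flip.obj ((Scheme.Modules.pullback g').obj F)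
  let G := Scheme.Modules.pushforward f ⋙ Scheme.Modules.pullback g
  let G' := Scheme.Modules.pushforward f'
  haveI : G.Additive := inferInstance
  haveI : PreservesFiniteProducts G := inferInstance
  haveI : PreservesFiniteProducts G' := inferInstance
  haveI hi : ∀ (p : ℕ) (σ : Fin (p + 1) → ι),
      IsIso (θ H.w (W := ∏ᶜ (𝒰 ∘ σ)) (W' := ∏ᶜ (pre g' 𝒰 ∘ σ)) (inter_pre 𝒰 σ).le F) := fun p σ =>
    haveI := hB p σ
    isIso_θ _ F H hF (inter_pre 𝒰 σ)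
  let c : ∀ p : ℕ, ((cechComplexFunctor 𝒰).obj (P ⋙ G)).X p ≅ ((cechComplexFunctor (pre g' 𝒰)).obj (P' ⋙ G')).X p :=
    fun p => @Pi.mapIso (Fin (p + 1) → ι) S'.Modules _ (fun σ => (P ⋙ G).obj (op (∏ᶜ (𝒰 ∘ σ))))
      (fun σ => (P' ⋙ G').obj (op (∏ᶜ (pre g' 𝒰 ∘ σ)))) _
      fun σ => asIso (θ H.w (W := ∏ᶜ (𝒰 ∘ σ)) (W' := ∏ᶜ (pre g' 𝒰 ∘ σ)) (inter_pre 𝒰 σ).le F)
  have hc : ∀ (r : ℕ) (τ : Fin (r + 1) → ι), (c r).hom ≫ CechShRes.cπ (pre g' 𝒰) (P' ⋙ G') τ =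
      CechShRes.cπ 𝒰 (P ⋙ G) τ ≫ θ H.w (W := ∏ᶜ (𝒰 ∘ τ)) (W' := ∏ᶜ (pre g' 𝒰 ∘ τ)) (inter_pre 𝒰 τ).le F :=
    fun r τ => piIso_π _ τ
  let t : (cechComplexFunctor 𝒰).obj (P ⋙ G) ≅ (cechComplexFunctor (pre g' 𝒰)).obj (P' ⋙ G') :=
    HomologicalComplex.Hom.isoOfComponents c (by
      rintro p q (rfl : p + 1 = q)
      refine Pi.hom_ext _ _ fun σ => ?_
      rw [Category.assoc, Category.assoc]
      erw [CechShRes.cechD_π (pre g' 𝒰) (P' ⋙ G') σ, hc (p + 1) σ]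
      rw [Preadditive.comp_sum]
      refine Eq.trans ?_ (Category.assoc _ _ _)
      rw [CechShRes.cechD_π 𝒰 (P ⋙ G) σ, Preadditive.sum_comp]
      refine Finset.sum_congr rfl fun a _ => ?_
      rw [Preadditive.comp_zsmul, Preadditive.zsmul_comp, Category.assoc, ← Category.assoc, hc, Category.assoc]
      refine congrArg ((-1 : ℤ) ^ (a : ℕ) • ·) ?_
      exact congrArg (CechShRes.cπ 𝒰 (P ⋙ G) _ ≫ ·)
        (θ_natural H.w (W := ∏ᶜ (𝒰 ∘ fun b => σ (a.succAbove b))) (inter_pre 𝒰 _).le F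
          (inter_pre 𝒰 σ).le (CechShRes.face 𝒰 σ a) (CechShRes.face (pre g' 𝒰) σ a)).symm)
  exact ⟨CechShRes.mapIso 𝒰 P G ≪≫ t ≪≫ (CechShRes.mapIso (pre g' 𝒰) P' G').symm⟩

end Groth.Agent.VBPnX.RelCechBC

open Groth.Agent.VBPnX.RelCechBC in
theorem Groth.Agent.VBPnX.RelCechBC.isAffineHom_pre {X S S' X' : Scheme.{u}} {f : X ⟶ S} {g : S' ⟶ S} {f' : X' ⟶ S'}
    {g' : X' ⟶ X} (H : IsPullback g' f' f g) {ι : Type u} (𝒰 : ι → X.Opens) {p : ℕ} (σ : Fin (p + 1) → ι)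
    [IsAffineHom (∏ᶜ (𝒰 ∘ σ) : X.Opens).ι] [IsAffineHom ((∏ᶜ (𝒰 ∘ σ) : X.Opens).ι ≫ f)] :
    IsAffineHom (∏ᶜ (pre g' 𝒰 ∘ σ) : X'.Opens).ι ∧ IsAffineHom ((∏ᶜ (pre g' 𝒰 ∘ σ) : X'.Opens).ι ≫ f') := by
  rw [inter_pre]
  have h := isPullback_morphismRestrict g' (∏ᶜ (𝒰 ∘ σ) : X.Opens)
  exact ⟨MorphismProperty.of_isPullback h (inferInstanceAs (IsAffineHom (∏ᶜ (𝒰 ∘ σ) : X.Opens).ι)),
    MorphismProperty.of_isPullback (h.paste_vert H) (inferInstanceAs (IsAffineHom ((∏ᶜ (𝒰 ∘ σ) : X.Opens).ι ≫ f)))⟩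

open Groth.Agent.VBPnX Groth.Agent.VBPnX.RelCechBC in
theorem Groth.Agent.VBPnX.RelCechBC.nonempty_baseChange {X S S' X' : Scheme.{u}} {f : X ⟶ S} {g : S' ⟶ S}
    {f' : X' ⟶ S'} {g' : X' ⟶ X} (H : IsPullback g' f' f g) [CompactSpace X]
    [IsAffineHom (pullback.diagonal (terminal.from X))] [IsAffineHom (pullback.diagonal (terminal.from S))]
    (F : X.Modules) (hF : Coh.IsQCoh F) {ι : Type u} [Finite ι] (𝒰 : ι → X.Opens)
    (h𝒰 : ∀ i, IsAffineOpen (𝒰 i)) (hcov : ⨆ i, 𝒰 i = ⊤) [(Scheme.Modules.pullback g).Additive]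
    [DCoh.HasRpush f'] :
    Nonempty (((Scheme.Modules.pullback g).mapHomologicalComplex (ComplexShape.up ℕ)).obj
        ((CechOX.relCech 𝒰 f).obj F) ≅
      (CechOX.relCech (pre g' 𝒰) f').obj ((Scheme.Modules.pullback g').obj F)) ∧
    Nonempty (DCoh.toD S' ((((Scheme.Modules.pullback g).mapHomologicalComplex (ComplexShape.up ℕ)).obj
        ((CechOX.relCech 𝒰 f).obj F)).extend ComplexShape.embeddingUpNat) ≅
      (DCoh.Rpush f').obj (DCoh.inD _ ((Scheme.Modules.pullback g').obj F))) := by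
  have hB := fun (p : ℕ) (σ : Fin (p + 1) → ι) => RelCech.isAffineHom_inter_comp 𝒰 h𝒰 f σ
  have hA := fun (p : ℕ) (σ : Fin (p + 1) → ι) => RelCech.isAffineHom_inter 𝒰 h𝒰 σ
  have h' := fun (p : ℕ) (σ : Fin (p + 1) → ι) => haveI := hA p σ; haveI := hB p σ; isAffineHom_pre H 𝒰 σ
  obtain ⟨_, _⟩ := RelCech.quasiCompact_and_quasiSeparated f
  haveI : QuasiCompact f' := MorphismProperty.of_isPullback H ‹_›
  haveI : QuasiSeparated f' := MorphismProperty.of_isPullback H ‹_›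
  obtain ⟨e⟩ := nonempty_pullback_relCech F 𝒰 H hF hB
  obtain ⟨e'⟩ := RelCech.nonempty_rpush_of_affine (pre g' 𝒰) f'
    (by rw [show (⨆ i, pre g' 𝒰 i) = g' ⁻¹ᵁ (⨆ i, 𝒰 i) from (Scheme.Hom.preimage_iSup g' 𝒰).symm, hcov]; rfl)
    (fun p σ => (h' p σ).1) (fun p σ => (h' p σ).2) (Groth.Agent.QCoh.isQCoh_pullback g' hF)
  exact ⟨⟨e⟩, ⟨DerivedCategory.Q.mapIso ((ComplexShape.embeddingUpNat.extendFunctor S'.Modules).mapIso e) ≪≫ e'⟩⟩
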