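import Mathlib.CategoryTheory.Abelian.GrothendieckCategory.Subobject
import Mathlib.CategoryTheory.Abelian.GrothendieckCategory.EnoughInjectives
import Mathlib.CategoryTheory.Subobject.Lattice
import Mathlib.CategoryTheory.Preadditive.Injective.Basic

/-!
# Essential extensions in a Grothendieck abelian category
-/

set_option linter.style.haveILetI false
set_option backward.isDefEq.respectTransparency false
set_option backward.isDefEq.respectTransparency.types false

universe v u

open CategoryTheory CategoryTheory.Limits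

namespace Groth.Agent.VBPnX.EssExt

variable {C : Type u} [Category.{v} C] [Abelian C]

/-- An essential monomorphism: a map out of the target is mono as soon as it is mono on the source. -/
structure IsEss {A B : C} (f : A ⟶ B) : Prop where
  mono : Mono f
  mono_of_comp : ∀ {Z : C} (g : B ⟶ Z), Mono (f ≫ g) → Mono g

theorem IsEss.id (A : C) : IsEss (𝟙 A) := ⟨inferInstance, fun g h => by rwa [Category.id_comp] at h⟩

variable [IsGrothendieckAbelian.{v} C]

/-- Unions of chains of subobjects: a map out of the union is mono if it is so on each member. -/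
theorem exists_union {I : C} (c : Set (Subobject I)) (hc : IsChain (· ≤ ·) c) (hne : c.Nonempty) :
    ∃ (Q : Subobject I) (hQ : ∀ S ∈ c, S ≤ Q), ∀ (Z : C) (g : (Q : C) ⟶ Z),
      (∀ S (hS : S ∈ c), Mono (Subobject.ofLE S Q (hQ S hS) ≫ g)) → Mono g := by
  obtain ⟨K, ⟨e⟩⟩ : ∃ K : Type v, Nonempty (K ≃ c) := ⟨_, ⟨(equivShrink c).symm⟩⟩
  let S : K → Subobject I := fun k => (e k).1
  letI : Preorder K := Preorder.lift S
  haveI : IsDirectedOrder K := ⟨fun k l => by
    rcases hc.total (e k).2 (e l).2 with h | h
    · exact ⟨l, h, le_refl _⟩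
    · exact ⟨k, le_refl _, h⟩⟩
  haveI : Nonempty K := ⟨e.symm ⟨hne.some, hne.some_mem⟩⟩
  have hle : ∀ {k l : K}, (k ⟶ l) → S k ≤ S l := fun {k l} φ => (show S k ≤ S l from (show k ≤ l from leOfHom φ))
  let F : K ⥤ MonoOver I :=
    { obj := fun k => MonoOver.mk (S k).arrow
      map := fun {k l} f => MonoOver.homMk (Subobject.ofLE (S k) (S l) (hle f)) (Subobject.ofLE_arrow _)
      map_id := fun _ => Subsingleton.elim _ _
      map_comp := fun _ _ => Subsingleton.elim _ _ }
  haveI : HasColimitsOfShape K C := inferInstance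
  let D : K ⥤ C := F ⋙ MonoOver.forget _ ⋙ Over.forget _
  let f : colimit D ⟶ I := colimit.desc D (Cocone.mk I
    { app := fun k => (S k).arrow
      naturality := fun k l φ => by
        change Subobject.ofLE (S k) (S l) (hle φ) ≫ (S l).arrow = (S k).arrow ≫ 𝟙 I
        simp })
  have hf : ∀ k, colimit.ι D k ≫ f = (S k).arrow := fun k => colimit.ι_desc _ _
  haveI : Mono f := IsGrothendieckAbelian.mono_of_isColimit_monoOver F (colimit.isColimit D) f hf
  have hS : ∀ T ∈ c, ∃ k, S k = T := fun T hT => ⟨e.symm ⟨T, hT⟩, by simp [S]⟩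
  have hQ : ∀ T ∈ c, T ≤ Subobject.mk f := fun T hT => by
    obtain ⟨k, rfl⟩ := hS T hT
    exact Subobject.le_mk_of_comm (colimit.ι D k) (hf k)
  have hι : ∀ k, colimit.ι D k ≫ (Subobject.underlyingIso f).inv =
      Subobject.ofLE (S k) (Subobject.mk f) (hQ _ (e k).2) := fun k => by
    rw [← cancel_mono (Subobject.mk f).arrow, Category.assoc, Subobject.underlyingIso_arrow,
      Subobject.ofLE_arrow, hf]
  refine ⟨Subobject.mk f, hQ, fun Z g hg => ?_⟩
  let g' : colimit D ⟶ Z := (Subobject.underlyingIso f).inv ≫ g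
  haveI : ∀ k, Mono (colimit.ι D k ≫ g') := fun k => by
    rw [← Category.assoc, hι k]
    exact hg _ (e k).2
  let F' : K ⥤ MonoOver Z :=
    { obj := fun k => MonoOver.mk (colimit.ι D k ≫ g')
      map := fun {k l} φ => MonoOver.homMk (D.map φ) (colimit.w_assoc D φ g')
      map_id := fun _ => Subsingleton.elim _ _
      map_comp := fun _ _ => Subsingleton.elim _ _ }
  haveI : Mono g' := IsGrothendieckAbelian.mono_of_isColimit_monoOver F' (colimit.isColimit D) g'
    (fun _ => rfl)
  have : g = (Subobject.underlyingIso f).hom ≫ g' := by simp [g']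
  rw [this]
  infer_instance

/-- Every object has an injective essential extension. -/
theorem exists_essential_injective (A : C) :
    ∃ (E : C) (f : A ⟶ E), Injective E ∧ IsEss f := by
  obtain ⟨⟨I, hI, i, hi⟩⟩ := EnoughInjectives.presentation A
  haveI := hI
  haveI := hi
  let P : Set (Subobject I) :=
    {S | ∃ h : Subobject.mk i ≤ S, IsEss (Subobject.ofLE (Subobject.mk i) S h)}
  obtain ⟨S, -, ⟨hiS, hS⟩, hSmax⟩ := zorn_le_nonempty₀ P (fun c hcP hc y hy => by
    obtain ⟨Q, hQ, hQmono⟩ := exists_union c hc ⟨y, hy⟩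
    refine ⟨Q, ⟨(hcP hy).1.trans (hQ y hy), ⟨inferInstance, fun {Z} g hg => ?_⟩⟩, hQ⟩
    refine hQmono Z g fun T hT => (hcP hT).2.mono_of_comp _ ?_
    rwa [← Category.assoc, Subobject.ofLE_comp_ofLE]) (Subobject.mk i)
    ⟨le_rfl, by rw [Subobject.ofLE_refl]; exact IsEss.id _⟩
  let πS := cokernel.π S.arrow
  let P' : Set (Subobject I) := {K | Mono (K.arrow ≫ πS)}
  obtain ⟨K, -, hK, hKmax⟩ := zorn_le_nonempty₀ P' (fun c hcP hc y hy => by
    obtain ⟨Q, hQ, hQmono⟩ := exists_union c hc ⟨y, hy⟩
    refine ⟨Q, hQmono _ (Q.arrow ≫ πS) fun T hT => ?_, hQ⟩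
    rw [← Category.assoc, Subobject.ofLE_arrow]
    exact hcP hT) (⊥ : Subobject I) (by
      show Mono _
      exact Preadditive.mono_of_cancel_zero _ fun x _ =>
        (isZero_zero C).of_iso ((eqToIso (by rfl)).trans Subobject.botCoeIsoZero) |>.eq_of_tgt _ _)
  haveI : Mono (K.arrow ≫ πS) := hK
  let πK := cokernel.π K.arrow
  let b := S.arrow ≫ πK
  haveI : Mono b := Preadditive.mono_of_cancel_zero _ fun x hx => by
    let y := Abelian.monoLift K.arrow (x ≫ S.arrow) (by rw [Category.assoc]; exact hx)
    have hy : y ≫ K.arrow = x ≫ S.arrow := Abelian.monoLift_comp _ _ _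
    have h0 : y ≫ K.arrow ≫ πS = 0 := by
      rw [← Category.assoc, hy, Category.assoc, cokernel.condition, comp_zero]
    have : y = 0 := zero_of_comp_mono _ h0
    rw [this, zero_comp] at hy
    exact zero_of_comp_mono _ hy.symm
  have hbess : ∀ {Z : C} (g : cokernel K.arrow ⟶ Z), Mono (b ≫ g) → Mono g := fun {Z} g hg => by
    let K' := kernelSubobject (πK ≫ g)
    have hKK' : K ≤ K' := le_kernelSubobject _ K (by rw [← Category.assoc, cokernel.condition, zero_comp])
    have hK' : K' ∈ P' := Preadditive.mono_of_cancel_zero _ fun x hx => by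
      let y := Abelian.monoLift S.arrow (x ≫ K'.arrow) (by rw [Category.assoc]; exact hx)
      have hy : y ≫ S.arrow = x ≫ K'.arrow := Abelian.monoLift_comp _ _ _
      have h0 : y ≫ (b ≫ g) = 0 := by
        simp only [b, Category.assoc]
        rw [← Category.assoc, hy, Category.assoc, kernelSubobject_arrow_comp, comp_zero]
      have : y = 0 := zero_of_comp_mono _ h0
      rw [this, zero_comp] at hy
      exact zero_of_comp_mono _ hy.symm
    refine Preadditive.mono_of_cancel_zero _ fun {W} x hx => ?_
    let x' := pullback.fst πK x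
    have hx' : (kernelSubobject (πK ≫ g)).Factors x' :=
      kernelSubobject_factors _ _ (by
        rw [← Category.assoc, pullback.condition, Category.assoc, hx, comp_zero])
    have hfac := Subobject.factorThru_arrow K x' (Subobject.factors_of_le x' (hKmax hK' hKK') hx')
    have : pullback.snd πK x ≫ x = 0 := by
      rw [← pullback.condition]
      show x' ≫ πK = 0
      rw [← hfac, Category.assoc, cokernel.condition, comp_zero]
    have hepi : Epi (pullback.snd πK x) := Abelian.epi_pullback_of_epi_f _ _
    exact (cancel_epi (pullback.snd πK x)).1 (this.trans comp_zero.symm)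
  let t : cokernel K.arrow ⟶ I := Injective.factorThru S.arrow b
  have ht : b ≫ t = S.arrow := Injective.comp_factorThru _ _
  haveI : Mono t := hbess t (by rw [ht]; infer_instance)
  let T := Subobject.mk t
  have hST : S ≤ T := Subobject.le_mk_of_comm b ht
  have hTP : T ∈ P := by
    refine ⟨hiS.trans hST, ⟨inferInstance, fun {Z} g hg => ?_⟩⟩
    have e1 : Subobject.ofLE S T hST = b ≫ (Subobject.underlyingIso t).inv := by
      rw [← cancel_mono T.arrow, Subobject.ofLE_arrow, Category.assoc, Subobject.underlyingIso_arrow, ht]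
    have h2 : Mono (Subobject.ofLE S T hST ≫ g) := hS.mono_of_comp _ (by
      rwa [← Category.assoc, Subobject.ofLE_comp_ofLE])
    rw [e1, Category.assoc] at h2
    haveI := hbess _ h2
    have : g = (Subobject.underlyingIso t).hom ≫ (Subobject.underlyingIso t).inv ≫ g := by simp
    rw [this]
    exact mono_comp' inferInstance ‹_›
  have hTS : T ≤ S := hSmax hTP hST
  obtain ⟨c, hc⟩ : ∃ c : cokernel K.arrow ⟶ (S : C), c ≫ S.arrow = t :=
    ⟨Subobject.ofMkLE t S hTS, Subobject.ofMkLE_arrow _⟩
  have hbc : b ≫ c = 𝟙 _ := by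
    rw [← cancel_mono S.arrow, Category.assoc, hc, ht, Category.id_comp]
  let r : Retract (S : C) I :=
    { i := S.arrow
      r := πK ≫ c
      retract := by rw [← Category.assoc]; exact hbc }
  refine ⟨(S : C), (Subobject.underlyingIso i).inv ≫ Subobject.ofLE _ S hiS, r.injective,
    ⟨inferInstance, fun g hg => hS.mono_of_comp g ?_⟩⟩
  rw [Category.assoc] at hg
  haveI := hg
  have : Subobject.ofLE (Subobject.mk i) S hiS ≫ g = (Subobject.underlyingIso i).hom ≫
      ((Subobject.underlyingIso i).inv ≫ Subobject.ofLE (Subobject.mk i) S hiS ≫ g) := by simp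
  rw [this]
  infer_instance

end Groth.Agent.VBPnX.EssExt
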