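import Groth.Agent.HomDimLib.Local
import Groth.Agent.ExtShX.Depth
import Groth.Agent.DepthAlongLib.Basic
import Groth.Agent.RegLoc6.Serre
import Mathlib

/-!
# Torsion homomorphisms modulo the liftable ones

For `0 → K → E → C → 0` with `E` injective and an ideal `J`, the cokernel of
`Γ_J Hom(M, E) → Γ_J Hom(M, C)`; it is built from the groups `Ext^1(M/J^k M, K)`.
-/

set_option autoImplicit false
set_option linter.style.haveILetI false
set_option maxHeartbeats 1000000
set_option backward.isDefEq.respectTransparency false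
set_option backward.isDefEq.respectTransparency.types false

universe u

open CategoryTheory CategoryTheory.Limits Abelian

noncomputable section

namespace Groth.Agent.VBPnX.TorsHom

variable {A : Type u} [CommRing A] (J : Ideal A)

/-- The homomorphisms killed by a power of `J`. -/
def T (M N : Type u) [AddCommGroup M] [Module A M] [AddCommGroup N] [Module A N] : Submodule A (M →ₗ[A] N) where
  carrier := {φ | ∃ k : ℕ, ∀ r ∈ J ^ k, r • φ = 0}
  add_mem' := by
    rintro φ ψ ⟨a, ha⟩ ⟨b, hb⟩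
    refine ⟨a + b, fun r hr => ?_⟩
    rw [smul_add, ha r (Ideal.pow_le_pow_right (Nat.le_add_right a b) hr),
      hb r (Ideal.pow_le_pow_right (Nat.le_add_left b a) hr), add_zero]
  zero_mem' := ⟨0, fun r _ => smul_zero r⟩
  smul_mem' := by
    rintro c φ ⟨a, ha⟩
    exact ⟨a, fun r hr => by rw [smul_comm, ha r hr, smul_zero]⟩

theorem mem_T_iff {M N : Type u} [AddCommGroup M] [Module A M] [AddCommGroup N] [Module A N] {φ : M →ₗ[A] N} :
    φ ∈ T J M N ↔ ∃ k : ℕ, J ^ k • (⊤ : Submodule A M) ≤ LinearMap.ker φ := by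
  refine exists_congr fun k => ⟨fun h => Submodule.smul_le.2 fun r hr m _ => ?_, fun h r hr => LinearMap.ext fun m => ?_⟩
  · rw [LinearMap.mem_ker, map_smul]
    exact LinearMap.congr_fun (h r hr) m
  · rw [LinearMap.smul_apply, LinearMap.zero_apply, ← map_smul]
    exact h (Submodule.smul_mem_smul hr Submodule.mem_top)

theorem mem_T_comp {M N N' : Type u} [AddCommGroup M] [Module A M] [AddCommGroup N] [Module A N]
    [AddCommGroup N'] [Module A N'] (g : N →ₗ[A] N') {φ : M →ₗ[A] N} (h : φ ∈ T J M N) : g ∘ₗ φ ∈ T J M N' := by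
  obtain ⟨k, hk⟩ := h
  exact ⟨k, fun r hr => by rw [← LinearMap.comp_smul, hk r hr, LinearMap.comp_zero]⟩

theorem mem_T_precomp {M M' N : Type u} [AddCommGroup M] [Module A M] [AddCommGroup M'] [Module A M']
    [AddCommGroup N] [Module A N] (g : M' →ₗ[A] M) {φ : M →ₗ[A] N} (h : φ ∈ T J M N) : φ ∘ₗ g ∈ T J M' N := by
  obtain ⟨k, hk⟩ := h
  exact ⟨k, fun r hr => by rw [← LinearMap.smul_comp, hk r hr, LinearMap.zero_comp]⟩

/-- Torsion maps from a module with no point in the support along `J` are zero. -/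
theorem T_eq_bot {M N : Type u} [AddCommGroup M] [Module A M] [Module.Finite A M] [AddCommGroup N] [Module A N]
    (h : ∀ q ∈ Module.support A M, ¬ J ≤ q.asIdeal) : T J M N = ⊥ := by
  refine eq_bot_iff.2 fun φ hφ => ?_
  obtain ⟨k, hk⟩ := (mem_T_iff J).1 hφ
  have hsub : Subsingleton (M ⧸ (J ^ k • (⊤ : Submodule A M))) := by
    rw [← Module.support_eq_empty_iff (R := A), Module.support_quotient, Set.eq_empty_iff_forall_notMem]
    rintro q ⟨hq, hJ⟩
    exact h q hq (q.2.le_of_pow_le hJ)
  rw [Submodule.Quotient.subsingleton_iff] at hsub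
  exact (Submodule.mem_bot A).2 (LinearMap.ext fun m => hk (hsub.ge Submodule.mem_top))

variable (S : ShortComplex (ModuleCat.{u} A))

/-- Postcomposition on torsion maps. -/
def post (M : Type u) [AddCommGroup M] [Module A M] : T J M S.X₂ →ₗ[A] T J M S.X₃ :=
  ((LinearMap.compRight A S.g.hom).comp (T J M S.X₂).subtype).codRestrict _ fun φ => mem_T_comp J S.g.hom φ.2

/-- Torsion maps to the cokernel modulo the liftable ones. -/
abbrev H (M : Type u) [AddCommGroup M] [Module A M] : Type u := T J M S.X₃ ⧸ LinearMap.range (post J S M)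

/-- Functoriality in `M`. -/
def res {M M' : Type u} [AddCommGroup M] [Module A M] [AddCommGroup M'] [Module A M'] (g : M' →ₗ[A] M) :
    H J S M →ₗ[A] H J S M' :=
  Submodule.mapQ _ _ (((LinearMap.lcomp A S.X₃ g).comp (T J M S.X₃).subtype).codRestrict _
      fun φ => mem_T_precomp J g φ.2) (by
    rintro _ ⟨ψ, rfl⟩
    exact ⟨⟨ψ.1 ∘ₗ g, mem_T_precomp J g ψ.2⟩, Subtype.ext (LinearMap.ext fun _ => rfl)⟩)

variable [IsNoetherianRing A] [Injective S.X₂]

theorem exists_extend {M' M : Type u} [AddCommGroup M'] [Module A M'] [AddCommGroup M] [Module A M]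
    [Module.Finite A M] (ι : M' →ₗ[A] M) (hι : Function.Injective ι) {ψ : M' →ₗ[A] S.X₂}
    (hψ : ψ ∈ T J M' S.X₂) : ∃ ψ' ∈ T J M S.X₂, ψ' ∘ₗ ι = ψ := by
  obtain ⟨k, hk⟩ := (mem_T_iff J).1 hψ
  obtain ⟨c, hc⟩ := Ideal.exists_pow_inf_eq_pow_smul J (LinearMap.range ι)
  let m := k + c
  have hle : (J ^ m • (⊤ : Submodule A M)).comap ι ≤ LinearMap.ker ψ := by
    intro x hx
    have h1 : ι x ∈ J ^ m • (⊤ : Submodule A M) ⊓ LinearMap.range ι := ⟨hx, x, rfl⟩
    rw [hc m (Nat.le_add_left c k), show m - c = k from Nat.add_sub_cancel k c] at h1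
    have h2 : ι x ∈ J ^ k • LinearMap.range ι := Submodule.smul_mono le_rfl inf_le_right h1
    rw [← Submodule.map_top, ← Submodule.map_smul''] at h2
    obtain ⟨y, hy, hxy⟩ := h2
    exact hι hxy ▸ hk hy
  let ι' := Submodule.mapQ ((J ^ m • (⊤ : Submodule A M)).comap ι) (J ^ m • (⊤ : Submodule A M)) ι le_rfl
  have hι' : Function.Injective ι' := by
    rw [← LinearMap.ker_eq_bot, Submodule.ker_mapQ]
    exact Submodule.mkQ_map_self _
  haveI : Module.Injective A S.X₂ := Module.injective_module_of_injective_object A S.X₂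
  obtain ⟨ψ'', hψ''⟩ := LC.exists_extension ι' hι' (Submodule.liftQ _ ψ hle)
  refine ⟨ψ'' ∘ₗ Submodule.mkQ _, (mem_T_iff J).2 ⟨m, fun x hx => ?_⟩, LinearMap.ext fun x => ?_⟩
  · rw [LinearMap.mem_ker, LinearMap.comp_apply, Submodule.mkQ_apply, (Submodule.Quotient.mk_eq_zero _).2 hx, map_zero]
  · exact LinearMap.congr_fun hψ'' (Submodule.Quotient.mk x)

theorem exact_res {M₁ M₂ M₃ : Type u} [AddCommGroup M₁] [Module A M₁] [AddCommGroup M₂] [Module A M₂]
    [Module.Finite A M₂] [AddCommGroup M₃] [Module A M₃] (f : M₁ →ₗ[A] M₂) (g : M₂ →ₗ[A] M₃)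
    (hf : Function.Injective f) (hg : Function.Surjective g) (hfg : Function.Exact f g) :
    LinearMap.ker (res J S f) ≤ LinearMap.range (res J S g) := by
  intro z hz
  induction z using Submodule.Quotient.induction_on with
  | _ φ =>
    rw [LinearMap.mem_ker] at hz
    obtain ⟨ψ, hψ⟩ := (Submodule.Quotient.mk_eq_zero _).1 hz
    obtain ⟨ψ', hψ', hψf⟩ := exists_extend J S f hf ψ.2
    let φ' : M₂ →ₗ[A] S.X₃ := φ.1 - S.g.hom ∘ₗ ψ'
    have hker : LinearMap.ker g ≤ LinearMap.ker φ' := by
      intro x hx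
      obtain ⟨y, rfl⟩ := (hfg x).1 hx
      have h1 := LinearMap.congr_fun (congrArg Subtype.val hψ) y
      change S.g.hom (ψ.1 y) = φ.1 (f y) at h1
      rw [LinearMap.mem_ker]
      show φ.1 (f y) - S.g.hom (ψ' (f y)) = 0
      rw [← h1, ← hψf]
      exact sub_self _
    let θ : M₃ →ₗ[A] S.X₃ :=
      (Submodule.liftQ _ φ' hker) ∘ₗ (LinearMap.quotKerEquivOfSurjective g hg).symm.toLinearMap
    have hθ : θ ∘ₗ g = φ' := LinearMap.ext fun x => by
      show Submodule.liftQ _ φ' hker ((LinearMap.quotKerEquivOfSurjective g hg).symm (g x)) = φ' x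
      rw [show (LinearMap.quotKerEquivOfSurjective g hg).symm (g x) = Submodule.Quotient.mk x by
        rw [LinearEquiv.symm_apply_eq]; rfl]
      rfl
    have hθT : θ ∈ T J M₃ S.X₃ := by
      obtain ⟨k, hk⟩ := sub_mem φ.2 (mem_T_comp J S.g.hom hψ')
      refine ⟨k, fun r hr => LinearMap.ext fun y => ?_⟩
      obtain ⟨x, rfl⟩ := hg y
      rw [LinearMap.smul_apply, ← LinearMap.comp_apply, hθ, LinearMap.zero_apply]
      exact LinearMap.congr_fun (hk r hr) x
    refine ⟨Submodule.Quotient.mk ⟨θ, hθT⟩, ?_⟩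
    refine (Submodule.Quotient.eq _).2 ⟨⟨-ψ', neg_mem hψ'⟩, Subtype.ext (LinearMap.ext fun x => ?_)⟩
    show S.g.hom (-(ψ' x)) = θ (g x) - φ.1 x
    rw [← LinearMap.comp_apply θ g, hθ, map_neg]
    show _ = φ.1 x - S.g.hom (ψ' x) - φ.1 x
    abel

variable {S}

/-- Nothing is left if the groups `Ext^1(M/J^k M, K)` vanish. -/
theorem post_surjective (hS : S.ShortExact) {M : Type u} [AddCommGroup M] [Module A M]
    (h : ∀ k : ℕ, Subsingleton (Ext (ModuleCat.of A (M ⧸ (J ^ k • (⊤ : Submodule A M)))) S.X₁ 1)) :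
    Function.Surjective (post J S M) := by
  intro φ
  obtain ⟨k, hk⟩ := (mem_T_iff J).1 φ.2
  let φ' : ModuleCat.of A (M ⧸ (J ^ k • (⊤ : Submodule A M))) ⟶ S.X₃ := ModuleCat.ofHom (Submodule.liftQ _ φ.1 hk)
  haveI := h k
  obtain ⟨x, hx⟩ := Ext.covariant_sequence_exact₃ _ hS (Ext.mk₀ φ') rfl (Subsingleton.elim _ _)
  obtain ⟨ψ, rfl⟩ := Ext.addEquiv₀.symm.surjective x
  rw [Ext.addEquiv₀_symm_apply, Ext.mk₀_comp_mk₀] at hx
  have hψ : ψ ≫ S.g = φ' := Ext.addEquiv₀.symm.injective (by rw [Ext.addEquiv₀_symm_apply, Ext.addEquiv₀_symm_apply]; exact hx)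
  refine ⟨⟨ψ.hom ∘ₗ Submodule.mkQ _, (mem_T_iff J).2 ⟨k, fun y hy => ?_⟩⟩, Subtype.ext (LinearMap.ext fun y => ?_)⟩
  · rw [LinearMap.mem_ker, LinearMap.comp_apply, Submodule.mkQ_apply, (Submodule.Quotient.mk_eq_zero _).2 hy, map_zero]
  · exact ConcreteCategory.congr_hom hψ (Submodule.Quotient.mk y)

theorem subsingleton_H (hS : S.ShortExact) {M : Type u} [AddCommGroup M] [Module A M]
    (h : ∀ k : ℕ, Subsingleton (Ext (ModuleCat.of A (M ⧸ (J ^ k • (⊤ : Submodule A M)))) S.X₁ 1)) :
    Subsingleton (H J S M) := by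
  rw [Submodule.Quotient.subsingleton_iff, LinearMap.range_eq_top]
  exact post_surjective J hS h

/-- On modules killed by `J` one gets a submodule of `Ext^1`. -/
theorem finite_H_of_killed (hS : S.ShortExact) {M : Type u} [AddCommGroup M] [Module A M]
    (hM : ∀ r ∈ J, ∀ m : M, r • m = 0) [Module.Finite A (Ext (ModuleCat.of A M) S.X₁ 1)] :
    Module.Finite A (H J S M) := by
  haveI : IsNoetherian A (Ext (ModuleCat.of A M) S.X₁ 1) := isNoetherian_of_isNoetherianRing_of_finite A _
  let δ : T J M S.X₃ →ₗ[A] Ext (ModuleCat.of A M) S.X₁ 1 :=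
    (((hS.extClass.postcompOfLinear A (ModuleCat.of A M) (a := 0) (b := 1) rfl).comp
      (Ext.linearEquiv₀ (R := A)).symm.toLinearMap).comp
        (ModuleCat.homLinearEquiv (S := A) (M := ModuleCat.of A M) (N := S.X₃)).symm.toLinearMap).comp
      (T J M S.X₃).subtype
  have hker : LinearMap.ker δ ≤ LinearMap.range (post J S M) := by
    intro φ hφ
    obtain ⟨x, hx⟩ := Ext.covariant_sequence_exact₃ _ hS (Ext.mk₀ (ModuleCat.ofHom φ.1 : ModuleCat.of A M ⟶ S.X₃))
      (rfl : 0 + 1 = 1) hφ
    obtain ⟨ψ, rfl⟩ := Ext.addEquiv₀.symm.surjective x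
    rw [Ext.addEquiv₀_symm_apply, Ext.mk₀_comp_mk₀] at hx
    have hψ : ψ ≫ S.g = ModuleCat.ofHom φ.1 :=
      Ext.addEquiv₀.symm.injective (by rw [Ext.addEquiv₀_symm_apply, Ext.addEquiv₀_symm_apply]; exact hx)
    refine ⟨⟨ψ.hom, ⟨1, fun r hr => LinearMap.ext fun m => ?_⟩⟩,
      Subtype.ext (LinearMap.ext fun m => ConcreteCategory.congr_hom hψ m)⟩
    rw [LinearMap.smul_apply, ← map_smul, hM r (pow_one J ▸ hr) m, map_zero]
    rfl
  haveI : Module.Finite A (T J M S.X₃ ⧸ LinearMap.ker δ) :=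
    Module.Finite.equiv δ.quotKerEquivRange.symm
  exact Module.Finite.of_surjective (Submodule.factor hker) (Submodule.factor_surjective hker)

/-- Dévissage. -/
theorem finite_H (hS : S.ShortExact)
    (hfin : ∀ (p : Ideal A) [p.IsPrime], J ≤ p → Module.Finite A (Ext (ModuleCat.of A (A ⧸ p)) S.X₁ 1))
    (M : Type u) [AddCommGroup M] [Module A M] [hMf : Module.Finite A M]
    (hvan : ∀ (p : PrimeSpectrum A), p ∈ Module.support A M → ¬ J ≤ p.asIdeal → ∀ k : ℕ,
      Subsingleton (Ext (ModuleCat.of A ((A ⧸ p.asIdeal) ⧸ (J ^ k • (⊤ : Submodule A (A ⧸ p.asIdeal))))) S.X₁ 1)) :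
    Module.Finite A (H J S M) := by
  revert hvan
  induction hMf using IsNoetherianRing.induction_on_isQuotientEquivQuotientPrime A with
  | subsingleton N =>
    intro _
    haveI : Subsingleton (N →ₗ[A] S.X₃) := ⟨fun a b => LinearMap.ext fun x => by rw [Subsingleton.elim x 0, map_zero, map_zero]⟩
    exact inferInstance
  | quotient N p e =>
    intro hvan
    have hfinq : Module.Finite A (H J S (A ⧸ p.asIdeal)) := by
      by_cases hJp : J ≤ p.asIdeal
      · haveI := hfin p.asIdeal hJp
        refine finite_H_of_killed J hS fun r hr m => ?_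
        obtain ⟨a, rfl⟩ := Ideal.Quotient.mk_surjective m
        show Ideal.Quotient.mk p.asIdeal (r * a) = 0
        exact Ideal.Quotient.eq_zero_iff_mem.2 (p.asIdeal.mul_mem_right _ (hJp hr))
      · have hp : p ∈ Module.support A N := by
          rw [e.support_eq, Module.support_eq_zeroLocus, Ideal.annihilator_quotient]
          exact fun x hx => hx
        haveI := subsingleton_H J hS (hvan p hp hJp)
        exact inferInstance
    haveI := hfinq
    refine Module.Finite.of_surjective (res J S e.toLinearMap) fun z => ⟨res J S e.symm.toLinearMap z, ?_⟩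
    induction z using Submodule.Quotient.induction_on with
    | _ φ =>
      refine congrArg Submodule.Quotient.mk (Subtype.ext (LinearMap.ext fun x => ?_))
      show φ.1 (e.symm (e x)) = φ.1 x
      rw [e.symm_apply_apply]
  | exact N₁ N₂ N₃ f g hf hg hfg h₁ h₃ =>
    intro hvan
    have hs := Module.support_of_exact hfg hf hg
    haveI := h₁ fun p hp => hvan p (hs ▸ Or.inl hp)
    haveI := h₃ fun p hp => hvan p (hs ▸ Or.inr hp)
    haveI : IsNoetherian A (H J S N₁) := isNoetherian_of_isNoetherianRing_of_finite A _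
    refine ⟨Submodule.fg_of_fg_map_of_fg_inf_ker (res J S f) (IsNoetherian.noetherian _) ?_⟩
    rw [top_inf_eq]
    haveI : Module.Finite A (LinearMap.range (res J S g)) := Module.Finite.range _
    haveI : IsNoetherian A (LinearMap.range (res J S g)) := isNoetherian_of_isNoetherianRing_of_finite A _
    haveI : IsNoetherian A (LinearMap.ker (res J S f)) :=
      isNoetherian_of_le (exact_res J S f g hf hg hfg)
    exact (Module.Finite.iff_fg.1 inferInstance)

/-- A local criterion for the vanishing of `Ext^i`. -/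
theorem subsingleton_ext_of_primes (Q : Type u) [AddCommGroup Q] [Module A Q] [Module.Finite A Q]
    (N : Type u) [AddCommGroup N] [Module A N] [Module.Finite A N] (i : ℕ)
    (h : ∀ q ∈ Module.support A Q,
      (IsRegularLocalRing (Localization.AtPrime q.asIdeal) ∧
          ringKrullDim (Localization.AtPrime q.asIdeal) < (i : WithBot ℕ∞)) ∨
        ∀ q' ∈ Module.support A Q, q'.asIdeal ≤ q.asIdeal →
          ((i + 1 : ℕ) : ℕ∞) ≤ LocCoh.depth (Localization.AtPrime q'.asIdeal) (LocalizedModule q'.asIdeal.primeCompl N)) :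
    Subsingleton (Ext (ModuleCat.of A Q) (ModuleCat.of A N) i) := by
  refine HomDimLib.ext_subsingleton_of_forall_localized Q N i fun q _ => ?_
  by_cases hq : (⟨q, inferInstance⟩ : PrimeSpectrum A) ∈ Module.support A Q
  · rcases h _ hq with ⟨hreg, hlt⟩ | hd
    · haveI := hreg
      have hpd := RegLoc6.pdLE_of_isRegularLocalRing (Localization.AtPrime q) (LocalizedModule q.primeCompl Q)
      rw [← (isRegularLocalRing_iff _).1 hreg] at hlt
      have hlt' : (IsLocalRing.maximalIdeal (Localization.AtPrime q)).spanFinrank < i := by exact_mod_cast hlt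
      exact @HasProjectiveDimensionLT.subsingleton _ _ _ _ _ _ hpd i hlt' _
    · let I := Module.annihilator A Q
      refine ExtShX.subsingleton_ext_of_le_idealDepth _ _ (I.map (algebraMap A (Localization.AtPrime q))) ?_
        (DepthAlongLib.le_idealDepth_atPrime I N q _ fun p _ hIp hpq => hd ⟨p, inferInstance⟩ ?_ hpq) i
        (Nat.lt_succ_self i)
      · refine Ideal.map_le_iff_le_comap.2 fun a ha => Ideal.mem_comap.2 (Module.mem_annihilator.2 fun z => ?_)
        induction z using LocalizedModule.induction_on with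
        | h m s =>
          rw [IsScalarTower.algebraMap_smul, LocalizedModule.smul'_mk, Module.mem_annihilator.1 ha m,
            LocalizedModule.zero_mk]
      · rw [Module.support_eq_zeroLocus]
        exact hIp
  · haveI : Subsingleton (LocalizedModule q.primeCompl Q) := Module.notMem_support_iff.1 hq
    haveI := (ModuleCat.isZero_of_subsingleton (ModuleCat.of (Localization q.primeCompl) (LocalizedModule q.primeCompl Q))).hasProjectiveDimensionLT_zero
    exact HasProjectiveDimensionLT.subsingleton _ 0 i (Nat.zero_le i) _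

end Groth.Agent.VBPnX.TorsHom
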