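import Groth.Agent.VBPnX.ExtZQCoh
import Groth.Agent.VBPnX.TorsHom
import Groth.Agent.ExtShX.Injective
import Groth.Agent.QCoh.Support
import Groth.Agent.QCoh.SubCompare
import Mathlib

/-!
# Sections of the local Ext sheaves with supports over an affine open
-/

set_option autoImplicit false
set_option linter.style.haveILetI false
set_option maxHeartbeats 1600000
set_option backward.isDefEq.respectTransparency false
set_option backward.isDefEq.respectTransparency.types false

universe u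

open CategoryTheory CategoryTheory.Limits AlgebraicGeometry TopologicalSpace Opposite Abelian

noncomputable section

namespace Groth.Agent.VBPnX.ExtZSections

variable {X : Scheme.{u}} (U : X.Opens) (F : X.Modules) [ModSite.HasSheafHom (O := X.sheaf) F]

/-- `Γ_Z ℋom(F, N)`. -/
abbrev SF : X.Modules ⥤ X.Modules := ModSite.sheafHom (O := X.sheaf) F ⋙ ModSite.sectOn X.sheaf U

/-- The inclusion into `ℋom(F, N)`, followed by the comparison with the sheaf of stalkwise maps. -/
def inc (N : X.Modules) : (SF U F).obj N ⟶ RefHull.homSh F N :=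
  (ModSite.sectOnι X.sheaf U).app (ExtShX.shHom F N) ≫ (ExtShX.iso F N).hom

theorem homSh_app_add {N : X.Modules} {V : X.Opens} (a b : Γ(RefHull.homSh F N, V)) (m : Γ(F, V)) :
    RefX.app le_rfl (a + b) m = RefX.app le_rfl a m + RefX.app le_rfl b m :=
  ZClosLib.section_ext N _ _ fun y hy => by
    rw [map_add, RefX.germ_app, RefX.germ_app, RefX.germ_app]; rfl

theorem homSh_app_smul {N : X.Modules} {V : X.Opens} (r : Γ(X, V)) (a : Γ(RefHull.homSh F N, V)) (m : Γ(F, V)) :
    RefX.app le_rfl (r • a) m = r • RefX.app le_rfl a m :=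
  ZClosLib.section_ext N _ _ fun y hy => by
    rw [QCoh.germ_smul', RefX.germ_app, RefX.germ_app]; rfl

/-- A section of the sheaf Hom as a linear map. -/
def linH (N : X.Modules) (V : X.Opens) : Γ(RefHull.homSh F N, V) →ₗ[Γ(X, V)] (Γ(F, V) →ₗ[Γ(X, V)] Γ(N, V)) where
  toFun := RefX.toLin
  map_add' a b := LinearMap.ext fun m => homSh_app_add F a b m
  map_smul' r a := LinearMap.ext fun m => homSh_app_smul F r a m

theorem linH_bijective {N : X.Modules} (hF : CohB1.IsFP F) {V : X.Opens} (hV : IsAffineOpen V) :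
    Function.Bijective (linH F N V) := by
  have hq := QCoh.isQCoh_of_isFP hF
  refine ⟨fun a b h => RefX.toLin_injective hq hV a b fun m => LinearMap.congr_fun h m, fun θ => ?_⟩
  haveI := QCoh.finitePresentation_of_isFP hF hV
  have hsm : ∀ (r : Γ(X, V)) (m : Γ(F, V)), θ (r • m) = AModX.resR (le_refl V) r • θ m := fun r m => by
    rw [AModX.resR_self]; exact map_smul θ r m
  let θ' : letI := RefX.resModule N (le_refl V); Γ(F, V) →ₗ[Γ(X, V)] Γ(N, V) :=
    letI := RefX.resModule N (le_refl V)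
    { toFun := θ, map_add' := map_add θ, map_smul' := hsm }
  refine ⟨RefX.ofLin hq hV le_rfl θ', LinearMap.ext fun m => ZClosLib.section_ext N _ _ fun y hy => ?_⟩
  show N.presheaf.germ V y hy (RefX.app le_rfl (RefX.ofLin hq hV le_rfl θ') m) = _
  rw [RefX.germ_app, RefX.ofLin_germ hq hV le_rfl θ' hy m]
  rfl

/-- A section of `Γ_Z ℋom(F, N)` as a linear map. -/
def lin (N : X.Modules) (V : X.Opens) : Γ((SF U F).obj N, V) →ₗ[Γ(X, V)] (Γ(F, V) →ₗ[Γ(X, V)] Γ(N, V)) :=
  (linH F N V).comp (QCoh.appLin (inc U F N) V)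

theorem lin_natural {N N' : X.Modules} (p : N ⟶ N') {V : X.Opens} (z : Γ((SF U F).obj N, V)) :
    lin U F N' V (((SF U F).map p).app V z) = QCoh.appLin p V ∘ₗ lin U F N V z := by
  have h1 : Scheme.Modules.Hom.app ((ModSite.sectOnι X.sheaf U).app (ExtShX.shHom F N')) V (((SF U F).map p).app V z) =
      Scheme.Modules.Hom.app ((ModSite.sheafHom (O := X.sheaf) F).map p) V
        (Scheme.Modules.Hom.app ((ModSite.sectOnι X.sheaf U).app (ExtShX.shHom F N)) V z) := by
    have h0 := (ModSite.sectOnι X.sheaf U).naturality ((ModSite.sheafHom (O := X.sheaf) F).map p)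
    rw [Functor.id_map] at h0
    exact congrArg (fun φ : (SF U F).obj N ⟶ ExtShX.shHom F N' => Scheme.Modules.Hom.app φ V z) h0
  refine LinearMap.ext fun m => ZClosLib.section_ext N' _ _ fun y hy => ?_
  show N'.presheaf.germ V y hy (RefX.app le_rfl ((ExtShX.toHomSh F N').app V
      (Scheme.Modules.Hom.app ((ModSite.sectOnι X.sheaf U).app (ExtShX.shHom F N')) V (((SF U F).map p).app V z))) m) = _
  rw [h1]
  generalize hs : Scheme.Modules.Hom.app ((ModSite.sectOnι X.sheaf U).app (ExtShX.shHom F N)) V z = s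
  rw [RefX.germ_app, ExtShX.toHomSh_app_val,
    ← RefHull.stalkMapₗ_germ ((ModSite.sheafHom (O := X.sheaf) F).map p) (U := V) y hy s, ExtShX.evL_natural]
  show RefHull.stalkMapₗ p y _ = N'.presheaf.germ V y hy (p.app V (RefX.app le_rfl ((ExtShX.toHomSh F N).app V
    (Scheme.Modules.Hom.app ((ModSite.sectOnι X.sheaf U).app (ExtShX.shHom F N)) V z)) m))
  rw [hs, ← RefHull.stalkMapₗ_germ p (U := V) y hy, RefX.germ_app, ExtShX.toHomSh_app_val]

theorem inc_app_injective (N : X.Modules) (V : X.Opens) : Function.Injective ((inc U F N).app V) := by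
  haveI : Mono ((ModSite.sectOnι X.sheaf U).app (ExtShX.shHom F N)) :=
    inferInstanceAs (Mono (kernel.ι _))
  haveI : Mono (inc U F N) := mono_comp _ _
  exact QCoh.app_injective (inc U F N) V

variable [IsLocallyNoetherian X] {V : X.Opens} (hV : IsAffineOpen V) {J : Ideal Γ(X, V)}
  (hJ : ∀ z (hz : z ∈ V), z ∉ (U : Set X) ↔ J ≤ (hV.primeIdealOf ⟨z, hz⟩).asIdeal)

include hJ in
theorem lin_mem {N : X.Modules} (hF : CohB1.IsFP F) (hN : Coh.IsQCoh N) (z : Γ((SF U F).obj N, V)) :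
    lin U F N V z ∈ TorsHom.T J Γ(F, V) Γ(N, V) := by
  haveI : IsNoetherianRing Γ(X, V) := IsLocallyNoetherian.component_noetherian ⟨V, hV⟩
  let H := RefHull.homSh F N
  let s : Γ(H, V) := (inc U F N).app V z
  have hle : J ≤ Ideal.radical (LinearMap.ker (LinearMap.toSpanSingleton Γ(X, V) Γ(H, V) s) : Ideal Γ(X, V)) := by
    intro f hf
    have hD : X.basicOpen f ≤ U := fun y hy => by
      by_contra hyU
      exact (QCoh.mem_basicOpen_iff_notMem hV (X.basicOpen_le f hy) f).1 hy ((hJ y (X.basicOpen_le f hy)).1 hyU hf)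
    have h0 : (ModSite.restr X.sheaf U).map ((ModSite.sectOnι X.sheaf U).app (ExtShX.shHom F N)) = 0 :=
      (SuppCore.comp_unit_eq_zero_iff U _).1 (kernel.condition _)
    have h1 : ∀ w, Scheme.Modules.Hom.app ((ModSite.sectOnι X.sheaf U).app (ExtShX.shHom F N)) (X.basicOpen f) w = 0 :=
      fun w => congrArg (fun φ : (ModSite.restr X.sheaf U).obj _ ⟶ (ModSite.restr X.sheaf U).obj _ =>
        (φ.val.app (op (Over.mk (homOfLE hD)))).hom w) h0
    have h2 : H.presheaf.map (homOfLE (X.basicOpen_le f)).op s = 0 := by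
      refine (ConcreteCategory.congr_hom ((Scheme.Modules.Hom.mapPresheaf (inc U F N)).naturality
        (homOfLE (X.basicOpen_le f)).op) z).symm.trans ?_
      show (ExtShX.iso F N).hom.app _ (Scheme.Modules.Hom.app ((ModSite.sectOnι X.sheaf U).app (ExtShX.shHom F N)) _ _) = 0
      rw [h1, map_zero]
    obtain ⟨n, hn⟩ := QCoh.exists_pow_smul_eq_zero (RefX.isQCoh_homSh hF hN) hV f s h2
    exact ⟨n, hn⟩
  obtain ⟨k, hk⟩ := Ideal.exists_pow_le_of_le_radical_of_fg hle (IsNoetherian.noetherian J)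
  refine ⟨k, fun r hr => ?_⟩
  show r • linH F N V s = 0
  rw [← map_smul, show r • s = 0 from hk hr, map_zero]

include hJ in
theorem exists_lin {N : X.Modules} (hF : CohB1.IsFP F) {φ : Γ(F, V) →ₗ[Γ(X, V)] Γ(N, V)}
    (hφ : φ ∈ TorsHom.T J Γ(F, V) Γ(N, V)) : ∃ z, lin U F N V z = φ := by
  obtain ⟨s, hs⟩ := (linH_bijective (N := N) F hF hV).2 φ
  obtain ⟨k, hk⟩ := hφ
  have hs0 : ∀ r ∈ J ^ k, r • s = 0 := fun r hr =>
    (linH_bijective (N := N) F hF hV).1 (by rw [map_smul, hs, hk r hr, map_zero])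
  let t : Γ(ExtShX.shHom F N, V) := (ExtShX.iso F N).inv.app V s
  have ht0 : ∀ r ∈ J ^ k, r • t = 0 := fun r hr => by
    rw [← Scheme.Modules.Hom.app_smul, hs0 r hr, map_zero]
  obtain ⟨z, hz⟩ := (SuppCore.sect_sectOn_iff (O := X.sheaf) U (ExtShX.shHom F N) (W := V) t).2 (fun W g hg => by
    obtain ⟨g'⟩ := hg
    show (ExtShX.shHom F N).presheaf.map g.op t = 0
    refine ZClosLib.section_ext _ _ _ fun y hy => ?_
    rw [map_zero, TopCat.Presheaf.germ_res_apply]
    have hyV : y ∈ V := leOfHom g hy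
    have hyU : ¬ J ≤ (hV.primeIdealOf ⟨y, hyV⟩).asIdeal := fun h => (hJ y hyV).2 h (leOfHom g' hy)
    obtain ⟨f, hfJ, hfy⟩ := SetLike.not_le_iff_exists.1 hyU
    have hu := (IsUnit.pow k (show IsUnit ((X.presheaf.germ V y hyV).hom f) from
      (X.mem_basicOpen f y hyV).1 ((QCoh.mem_basicOpen_iff_notMem hV hyV f).2 hfy)))
    refine hu.smul_left_cancel.1 ?_
    rw [smul_zero, ← map_pow, ← QCoh.germ_smul', ht0 _ (Ideal.pow_mem_pow hfJ k), map_zero])
  refine ⟨z, hs ▸ congrArg (linH F N V) ?_⟩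
  show (ExtShX.iso F N).hom.app V (Scheme.Modules.Hom.app ((ModSite.sectOnι X.sheaf U).app (ExtShX.shHom F N)) V z) = s
  rw [show Scheme.Modules.Hom.app ((ModSite.sectOnι X.sheaf U).app (ExtShX.shHom F N)) V z = t from hz]
  rw [← ConcreteCategory.comp_apply, ← Scheme.Modules.Hom.comp_app, Iso.inv_hom_id]
  rfl

include hV in
theorem lin_injective {N : X.Modules} (hF : CohB1.IsFP F) :
    Function.Injective (lin U F N V) :=
  fun _ _ h => inc_app_injective U F N V ((linH_bijective F hF hV).1 h)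

/-- Sections of a short complex over an open. -/
def secSC (S : ShortComplex X.Modules) (V : X.Opens) : ShortComplex (ModuleCat.{u} Γ(X, V)) :=
  ShortComplex.mk (ModuleCat.ofHom (QCoh.appLin S.f V)) (ModuleCat.ofHom (QCoh.appLin S.g V))
    (ModuleCat.hom_ext (LinearMap.ext fun x => congr(($(S.zero)).app V x)))

omit [IsLocallyNoetherian X] in
include hV in
theorem secSC_shortExact {S : ShortComplex X.Modules} (hS : S.ShortExact) (h₁ : Coh.IsQCoh S.X₁) :
    (secSC S V).ShortExact := by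
  haveI := hS.mono_f
  refine ModuleCat.shortComplex_shortExact _ (fun x => ⟨fun h => ?_, ?_⟩) (QCoh.app_injective S.f V)
    (QCoh.app_surjective_of_shortExact hS h₁ hV)
  · exact QCoh.exists_app_f_eq hS V x h
  · rintro ⟨y, rfl⟩
    exact congr(($(S.zero)).app V y)

omit [IsLocallyNoetherian X] in
/-- Dimension shifting along an injective middle term. -/
theorem exists_extShift {A : Type u} [CommRing A] {S : ShortComplex (ModuleCat.{u} A)} (hS : S.ShortExact)
    [Injective S.X₂] (Q : ModuleCat.{u} A) (n : ℕ) :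
    Nonempty (Ext Q S.X₃ (n + 1) ≃ₗ[A] Ext Q S.X₁ (n + 1 + 1)) := by
  refine ⟨LinearEquiv.ofBijective (hS.extClass.postcompOfLinear A Q (a := n + 1) (b := n + 1 + 1) rfl) ⟨?_, ?_⟩⟩
  · rw [← LinearMap.ker_eq_bot, eq_bot_iff]
    intro x hx
    obtain ⟨y, rfl⟩ := Ext.covariant_sequence_exact₃ Q hS x rfl hx
    rw [Ext.eq_zero_of_injective y, Ext.zero_comp]
    exact Submodule.zero_mem _
  · intro x
    exact Ext.covariant_sequence_exact₁ Q hS x (Ext.eq_zero_of_injective _) rfl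

/-- `ℰxt^{q+1}_Z(F, G)` as a cokernel, together with the shift of Ext groups over an affine open. -/
theorem exists_pres [HasInjectiveResolutions X.Modules] (S₀ : X.Modules ⥤ X.Modules) [S₀.Additive]
    [PreservesFiniteLimits S₀] {V : X.Opens} (hV : IsAffineOpen V) :
    ∀ (q : ℕ) (G : X.Modules), Coh.IsQCoh G → ∃ T : ShortComplex X.Modules, T.ShortExact ∧ Coh.IsQCoh T.X₁ ∧
      Coh.IsQCoh T.X₂ ∧ Coh.IsQCoh T.X₃ ∧ Injective T.X₂ ∧
      Nonempty ((S₀.rightDerived (q + 1)).obj G ≅ cokernel (S₀.map T.g)) ∧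
      ∀ Q : ModuleCat.{u} Γ(X, V), Nonempty (Ext Q (ModuleCat.of Γ(X, V) Γ(T.X₁, V)) 1 ≃ₗ[Γ(X, V)]
        Ext Q (ModuleCat.of Γ(X, V) Γ(G, V)) (q + 1)) := by
  haveI : EnoughInjectives X.Modules :=
    SpObjSS.enoughInjectives_of_hasInjectiveResolutions (C := X.Modules)
  have key : ∀ G : X.Modules, Coh.IsQCoh G → ∃ T : ShortComplex X.Modules, T.ShortExact ∧ T.X₁ = G ∧
      Coh.IsQCoh T.X₂ ∧ Coh.IsQCoh T.X₃ ∧ Injective T.X₂ := by
    intro G hG
    obtain ⟨E, f, hf, hE, hEi⟩ := ExtZQCoh.exists_mono_qcoh_injective hG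
    haveI := hf
    exact ⟨ShortComplex.mk f (cokernel.π f) (cokernel.condition f),
      { exact := ShortComplex.exact_of_g_is_cokernel _ (cokernelIsCokernel f)
        mono_f := hf
        epi_g := inferInstanceAs (Epi (cokernel.π f)) }, rfl, hE, QCoh.isQCoh_cokernel hG hE f, hEi⟩
  intro q
  induction q with
  | zero =>
    intro G hG
    obtain ⟨T, hT, rfl, hE, hC, hEi⟩ := key G hG
    haveI := hEi
    let δ := (SESResLib.derivedLES S₀).δ T hT 0 1 rfl
    have hepi : Epi δ := ((SESResLib.derivedLES S₀).exact₁ T hT 0 1 rfl).epi_f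
      ((S₀.isZero_rightDerived_obj_injective_succ 0 T.X₂).eq_of_tgt _ _)
    have hc := @ShortComplex.Exact.gIsCokernel _ _ _ _ _ ((SESResLib.derivedLES S₀).exact₃ T hT 0 1 rfl) hepi
    exact ⟨T, hT, hG, hE, hC, hEi, ⟨hc.coconePointUniqueUpToIso (cokernelIsCokernel _) ≪≫
      cokernel.mapIso _ _ (S₀.rightDerivedZeroIsoSelf.app T.X₂) (S₀.rightDerivedZeroIsoSelf.app T.X₃)
        (S₀.rightDerivedZeroIsoSelf.hom.naturality T.g)⟩, fun Q => ⟨LinearEquiv.refl _ _⟩⟩
  | succ q ih =>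
    intro G hG
    obtain ⟨T₀, hT₀, rfl, hE, hC, hEi⟩ := key G hG
    haveI := hEi
    obtain ⟨T, hT, h1, h2, h3, h4, ⟨e⟩, hext⟩ := ih T₀.X₃ hC
    let δ := (SESResLib.derivedLES S₀).δ T₀ hT₀ (q + 1) (q + 1 + 1) rfl
    have hepi : Epi δ := ((SESResLib.derivedLES S₀).exact₁ T₀ hT₀ (q + 1) (q + 1 + 1) rfl).epi_f
      ((S₀.isZero_rightDerived_obj_injective_succ (q + 1) T₀.X₂).eq_of_tgt _ _)
    have hmono : Mono δ := ((SESResLib.derivedLES S₀).exact₃ T₀ hT₀ (q + 1) (q + 1 + 1) rfl).mono_g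
      ((S₀.isZero_rightDerived_obj_injective_succ q T₀.X₂).eq_of_src _ _)
    haveI : IsIso δ := isIso_of_mono_of_epi δ
    refine ⟨T, hT, h1, h2, h3, h4, ⟨(asIso δ).symm ≪≫ e⟩, fun Q => ?_⟩
    haveI := ExtShX.injective_sections (G := T₀.X₂) hV
    haveI : Injective (secSC T₀ V).X₂ := Module.injective_object_of_injective_module Γ(X, V) Γ(T₀.X₂, V)
    obtain ⟨a⟩ := hext Q
    obtain ⟨b⟩ := exists_extShift (secSC_shortExact hV hT₀ hG) Q q
    exact ⟨a.trans b⟩

section Main

variable {G : X.Modules} [HasInjectiveResolutions (ModSite.Mod X.sheaf)]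

theorem preservesFiniteLimits_SF : PreservesFiniteLimits (SF U F) := by
  let SH : X.Modules ⥤ X.Modules := ModSite.sheafHom (O := X.sheaf) F
  let T : X.Modules ⥤ X.Modules := ModSite.sectOn X.sheaf U
  haveI : PreservesFiniteLimits SH := by
    have : PreservesLimitsOfSize.{0, 0} SH :=
      (ModSite.sheafHomAdj (O := X.sheaf) F).rightAdjoint_preservesLimits
    exact ⟨fun _ => inferInstance⟩
  haveI : PreservesFiniteLimits T := by
    have : PreservesLimitsOfSize.{0, 0} T :=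
      (SuppCore.quotSectAdj (O := X.sheaf) U).rightAdjoint_preservesLimits
    exact ⟨fun _ => inferInstance⟩
  exact comp_preservesFiniteLimits SH T

theorem additive_SF : (SF U F).Additive := by
  let SH : X.Modules ⥤ X.Modules := ModSite.sheafHom (O := X.sheaf) F
  let T : X.Modules ⥤ X.Modules := ModSite.sectOn X.sheaf U
  haveI : SH.Additive := ModSite.sheafHom_additive X.sheaf F
  haveI : T.Additive := ModSite.sectOn_additive X.sheaf U
  exact Functor.instAdditiveComp SH T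

include hV hJ in
/-- Degree zero. -/
theorem finite_sections_zero (hF : Coh.IsCoh F) (hG : Coh.IsCoh G) :
    Module.Finite Γ(X, V) Γ((ModSite.extZSh (O := X.sheaf) U F 0).obj G, V) ∧
      ((∀ q ∈ Module.support Γ(X, V) Γ(F, V), ¬ J ≤ q.asIdeal) →
        Subsingleton Γ((ModSite.extZSh (O := X.sheaf) U F 0).obj G, V)) := by
  haveI : HasInjectiveResolutions X.Modules := ‹HasInjectiveResolutions (ModSite.Mod X.sheaf)›
  haveI : EnoughInjectives X.Modules := SpObjSS.enoughInjectives_of_hasInjectiveResolutions (C := X.Modules)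
  haveI := preservesFiniteLimits_SF U F
  haveI := additive_SF U F
  haveI : IsNoetherianRing Γ(X, V) := IsLocallyNoetherian.component_noetherian ⟨V, hV⟩
  haveI : Module.Finite Γ(X, V) Γ(F, V) := (QCoh.isCoh_iff.1 hF).2 ⟨V, hV⟩
  haveI : Module.Finite Γ(X, V) Γ(G, V) := (QCoh.isCoh_iff.1 hG).2 ⟨V, hV⟩
  have hfp := KZ.LFRes.isFP_of_isCoh hF
  let e : (ModSite.extZSh (O := X.sheaf) U F 0).obj G ⟶ (SF U F).obj G :=
    ((SF U F).rightDerivedZeroIsoSelf.app G).hom
  haveI : IsIso e := inferInstanceAs (IsIso ((SF U F).rightDerivedZeroIsoSelf.app G).hom)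
  let L : Γ((ModSite.extZSh (O := X.sheaf) U F 0).obj G, V) →ₗ[Γ(X, V)] (Γ(F, V) →ₗ[Γ(X, V)] Γ(G, V)) :=
    (lin U F G V).comp (QCoh.appLin e V)
  have hL : Function.Injective L := fun a b h => QCoh.app_injective e V (lin_injective U F hV hfp h)
  haveI : Module.Finite Γ(X, V) (Γ(F, V) →ₗ[Γ(X, V)] Γ(G, V)) := inferInstance
  refine ⟨Module.Finite.of_injective L hL, fun h => ⟨fun a b => hL ?_⟩⟩
  have hz : ∀ c, L c = 0 := fun c => by
    have hm : L c ∈ TorsHom.T J Γ(F, V) Γ(G, V) := lin_mem U F hV hJ hfp hG.1 _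
    rw [TorsHom.T_eq_bot J h] at hm
    exact (Submodule.mem_bot _).1 hm
  rw [hz a, hz b]

include hV hJ in
/-- Positive degrees: a quotient of torsion homomorphisms modulo the liftable ones. -/
theorem exists_H (hF : Coh.IsCoh F) (hG : Coh.IsQCoh G) (q : ℕ) :
    ∃ (S : ShortComplex (ModuleCat.{u} Γ(X, V))), S.ShortExact ∧ Injective S.X₂ ∧
      (∀ Q : ModuleCat.{u} Γ(X, V), Nonempty (Ext Q S.X₁ 1 ≃ₗ[Γ(X, V)]
        Ext Q (ModuleCat.of Γ(X, V) Γ(G, V)) (q + 1))) ∧
      ∃ L : TorsHom.H J S Γ(F, V) →ₗ[Γ(X, V)] Γ((ModSite.extZSh (O := X.sheaf) U F (q + 1)).obj G, V),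
        Function.Surjective L := by
  haveI : HasInjectiveResolutions X.Modules := ‹HasInjectiveResolutions (ModSite.Mod X.sheaf)›
  haveI := preservesFiniteLimits_SF U F
  haveI := additive_SF U F
  have hfp := KZ.LFRes.isFP_of_isCoh hF
  obtain ⟨T, hT, h1, h2, h3, h4, ⟨e⟩, hext⟩ := exists_pres (SF U F) hV q G hG
  have hS : ∀ N, Coh.IsQCoh N → Coh.IsQCoh ((SF U F).obj N) := fun N hN =>
    ExtZQCoh.isQCoh_sectOn U ((QCoh.isQCoh_iff_iso (ExtShX.iso F N)).2 (RefX.isQCoh_homSh hfp hN))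
  haveI := h4
  haveI := ExtShX.injective_sections (G := T.X₂) hV
  refine ⟨secSC T V, secSC_shortExact hV hT h1,
    Module.injective_object_of_injective_module Γ(X, V) Γ(T.X₂, V), hext, ?_⟩
  let lC : Γ((SF U F).obj T.X₃, V) ≃ₗ[Γ(X, V)] TorsHom.T J Γ(F, V) Γ(T.X₃, V) :=
    LinearEquiv.ofBijective ((lin U F T.X₃ V).codRestrict _ fun z => lin_mem U F hV hJ hfp h3 z)
      ⟨fun a b h => lin_injective U F hV hfp (congrArg Subtype.val h), fun φ => by
        obtain ⟨z, hz⟩ := exists_lin U F hV hJ hfp φ.2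
        exact ⟨z, Subtype.ext hz⟩⟩
  let m : (SF U F).obj T.X₃ ⟶ (ModSite.extZSh (O := X.sheaf) U F (q + 1)).obj G :=
    cokernel.π ((SF U F).map T.g) ≫ e.inv
  haveI : Epi m := epi_comp _ _
  refine ⟨Submodule.liftQ _ ((QCoh.appLin m V).comp lC.symm.toLinearMap) ?_, ?_⟩
  · rintro _ ⟨ψ, rfl⟩
    obtain ⟨z, hz⟩ := exists_lin U F hV hJ hfp ψ.2
    have hz' : lC (((SF U F).map T.g).app V z) = TorsHom.post J (secSC T V) Γ(F, V) ψ :=
      Subtype.ext ((lin_natural U F T.g z).trans (congrArg (fun θ => QCoh.appLin T.g V ∘ₗ θ) hz))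
    show (QCoh.appLin m V) (lC.symm _) = 0
    rw [← hz', LinearEquiv.symm_apply_apply]
    have h0 : (SF U F).map T.g ≫ m = 0 := by
      rw [← Category.assoc, cokernel.condition, zero_comp]
    exact congr(($h0).app V z)
  · intro y
    obtain ⟨x, hx⟩ := QCoh.app_surjective_of_epi (hS _ h3)
      (ExtZQCoh.isQCoh_rightDerived (SF U F) hS (q + 1) G hG) m hV y
    refine ⟨Submodule.Quotient.mk (lC x), ?_⟩
    show (QCoh.appLin m V) (lC.symm (lC x)) = y
    rw [LinearEquiv.symm_apply_apply]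
    exact hx

end Main

end Groth.Agent.VBPnX.ExtZSections
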